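import Cfsg.Agent.Fi22OuterInv.Data

/-!
The outer involution `π` of `Fi₂₂`, its products with one and with two commuting transpositions, and
their numbers of fixed points on the 3510 transpositions.
-/

set_option autoImplicit false
set_option maxRecDepth 100000

namespace CfsgLib.Fi22OuterInv

open CfsgLib.CosetEnum CfsgLib.Fi22Out CfsgLib.Fi22Three

noncomputable section

/-- The image of a point under the involution. -/
def qv (i : ℕ) : ℕ := ext qT i

/-- The table is that of an involution. -/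
def qOK (i : ℕ) : Bool :=
  bif Nat.blt i 3510 then Nat.beq (Act.qm i) (qv i) && Nat.blt (qv i) 3510 && Nat.beq (qv (qv i)) i else true

theorem q_ok : allR qOK 12 0 = true := by decide +kernel

theorem qv_spec {i : ℕ} (hi : i < 3510) : Act.qm i = qv i ∧ qv i < 3510 ∧ qv (qv i) = i := by
  have h := allR_spec 12 0 q_ok i (Nat.zero_le _) (by omega)
  unfold qOK at h
  rw [show Nat.blt i 3510 = true by simpa using hi] at h
  simpa [and_assoc] using h

/-- The three maps: the involution, and its products with `mv 0` and with `mv 0` and `mv 6`. -/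
def tgt : ℕ → ℕ → ℕ
  | 0, i => qv i
  | 1, i => force (mv 0 i) fun x => qv x
  | _, i => force (mv 6 i) fun x => force (mv 0 x) fun y => qv y

/-- A fixed point of one of the three maps. -/
def fixB (c i : ℕ) : Bool := Nat.blt i 3510 && Nat.beq (tgt c i) i

theorem count_ok : cntR (fixB 0) 12 0 = 360 ∧ cntR (fixB 1) 12 0 = 64 ∧ cntR (fixB 2) 12 0 = 72 := by
  decide +kernel

/-- The second base point. -/
def six : Fin N := ⟨6, show 6 < 3510 by norm_num⟩

theorem base_fix : qv 0 = 0 ∧ qv 6 = 6 ∧ com 0 6 = true := by decide +kernel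

theorem mv_pt (S : Act) {p q : ℕ} (hp : p < 3510) (hq : q < 3510) :
    ((S.φ (d (pt p)) (pt q) : Fin N) : ℕ) = mv p q := by
  rw [S.phi_d, pt_val hp, pt_val hq]

end

end CfsgLib.Fi22OuterInv

namespace CfsgLib.Fi22Out.Act

open CfsgLib.CosetEnum CfsgLib.Fi22Three CfsgLib.Fi22OuterInv

noncomputable section

variable (S : Act)
include S

theorem sg_conj (g : G) (i : Fin N) : S.sg (MulAut.conj g) i = S.φ g i :=
  S.sg_eq (by rw [MulAut.conj_apply, ← S.d_conj (i := i) (y := g) rfl])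

theorem sg_inv_apply (α : MulAut G) (i : Fin N) : S.sg α⁻¹ (S.sg α i) = i := by
  rw [← S.sg_mul, inv_mul_cancel, S.sg_one]

theorem sg_apply_inv (α : MulAut G) (i : Fin N) : S.sg α (S.sg α⁻¹ i) = i := by
  rw [← S.sg_mul, mul_inv_cancel, S.sg_one]

/-- Two automorphisms agreeing on the nine base points are equal. -/
theorem aut_ext {α β : MulAut G} (h : ∀ k, k < 9 → S.sg α (gpF k) = S.sg β (gpF k)) : α = β := by
  refine (inv_mul_eq_one.mp (S.eq_one_of_sg fun k hk => ?_)).symm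
  rw [S.sg_mul, h k hk, S.sg_inv_apply]

theorem sg_conjugate (g : G) (t : MulAut G) (i : Fin N) :
    S.sg (MulAut.conj g * t * (MulAut.conj g)⁻¹) i = S.φ g (S.sg t ((S.φ g)⁻¹ i)) := by
  rw [S.sg_mul, S.sg_mul, S.sg_conj, ← map_inv, S.sg_conj, map_inv]

theorem exists_invol : ∃ π : MulAut G, π * π = 1 ∧ (∀ g : G, MulAut.conj g ≠ π) ∧
    ∀ i : Fin N, ((S.sg π i : Fin N) : ℕ) = qv i := by
  obtain ⟨π, hni, hπ⟩ := S.exists_outer
  have hsg : ∀ i : Fin N, ((S.sg π i : Fin N) : ℕ) = qv i := by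
    intro i
    obtain ⟨h1, h2⟩ := hπ [(i : ℕ)] (by simpa [ok] using lt_of_pt i)
    rw [el_cons, el_nil, mul_one, List.map_cons, List.map_nil, el_cons, el_nil, mul_one, pt_fin] at h1
    obtain ⟨hq, hq2, -⟩ := qv_spec (lt_of_pt i)
    rw [S.sg_eq h1, pt_val (hq ▸ hq2), hq]
  refine ⟨π, S.eq_one_of_sg fun k _ => Fin.ext ?_, hni, hsg⟩
  rw [S.sg_mul, hsg, hsg]
  exact (qv_spec (lt_of_pt _)).2.2

/-- The number of transpositions fixed by an automorphism. -/
def fixCard (t : MulAut G) : ℕ := Nat.card {i : Fin N // S.sg t i = i}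

theorem fixCard_conj (c t : MulAut G) : S.fixCard (c * t * c⁻¹) = S.fixCard t := by
  let e : Fin N ≃ Fin N := ⟨S.sg c⁻¹, S.sg c, S.sg_apply_inv c, S.sg_inv_apply c⟩
  refine Nat.card_congr (e.subtypeEquiv fun i => ?_)
  show S.sg (c * t * c⁻¹) i = i ↔ S.sg t (S.sg c⁻¹ i) = S.sg c⁻¹ i
  rw [S.sg_mul, S.sg_mul]
  constructor
  · intro h
    have := congrArg (S.sg c⁻¹) h
    rwa [S.sg_inv_apply] at this
  · intro h
    rw [h, S.sg_apply_inv]

theorem fixCard_eq {t : MulAut G} {c m : ℕ} (ht : ∀ i : Fin N, ((S.sg t i : Fin N) : ℕ) = tgt c i)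
    (hm : cntR (fixB c) 12 0 = m) : S.fixCard t = m := by
  rw [← hm, cntR_spec, zero_add, fixCard, Nat.card_eq_fintype_card, Fintype.card_subtype,
    ← Finset.card_map Fin.valEmbedding]
  congr 1
  ext j
  simp only [Finset.mem_map, Finset.mem_filter, Finset.mem_univ, true_and, Finset.mem_Ico, Fin.valEmbedding_apply,
    fixB, Bool.and_eq_true, Nat.blt_eq, Nat.beq_eq, Nat.zero_le]
  constructor
  · rintro ⟨i, hi, rfl⟩
    refine ⟨lt_trans (lt_of_pt i) (by norm_num), lt_of_pt i, ?_⟩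
    rw [← ht, hi]
  · rintro ⟨-, hj, he⟩
    exact ⟨⟨j, hj⟩, Fin.ext (by rw [ht]; exact he), rfl⟩

theorem not_isConj_of_fixCard {t u : MulAut G} (h : S.fixCard t ≠ S.fixCard u) : ¬ IsConj t u := by
  rw [isConj_iff]
  rintro ⟨c, rfl⟩
  exact h (S.fixCard_conj c t).symm

variable {π : MulAut G} (hπ : ∀ i : Fin N, ((S.sg π i : Fin N) : ℕ) = qv i)
include hπ

theorem sg_pi_a (i : Fin N) : ((S.sg (π * MulAut.conj (d 0)) i : Fin N) : ℕ) = tgt 1 i := by
  rw [S.sg_mul, hπ, S.sg_conj, S.phi_d]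
  simp only [tgt, force_eq]
  rfl

theorem sg_pi_ab (i : Fin N) : ((S.sg (π * MulAut.conj (d 0 * d six)) i : Fin N) : ℕ) = tgt 2 i := by
  rw [map_mul MulAut.conj, S.sg_mul, hπ, S.sg_mul, S.sg_conj, S.sg_conj, S.phi_d, S.phi_d]
  simp only [tgt, force_eq]
  rfl

theorem three_not_isConj : ¬ IsConj π (π * MulAut.conj (d 0)) ∧
    ¬ IsConj π (π * MulAut.conj (d 0 * d six)) ∧
    ¬ IsConj (π * MulAut.conj (d 0)) (π * MulAut.conj (d 0 * d six)) := by
  have h0 := S.fixCard_eq (c := 0) hπ count_ok.1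
  have h1 := S.fixCard_eq (S.sg_pi_a hπ) count_ok.2.1
  have h2 := S.fixCard_eq (S.sg_pi_ab hπ) count_ok.2.2
  refine ⟨S.not_isConj_of_fixCard ?_, S.not_isConj_of_fixCard ?_, S.not_isConj_of_fixCard ?_⟩
  · rw [h0, h1]; decide
  · rw [h0, h2]; decide
  · rw [h1, h2]; decide

end

end CfsgLib.Fi22Out.Act
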