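import Cfsg.Agent.Fi22OuterInv.CentS
import Cfsg.Agent.Forms4.SymplecticSimple

/-!
The fixed group of `π` and one fixed transposition: a group of order two times `Sp₆(2)`, realised on the
63 fixed transpositions.
-/

set_option autoImplicit false
set_option maxRecDepth 100000

namespace CfsgLib.Fi22OuterInv

open Cfsg Matrix CfsgLib.CosetEnum CfsgLib.Fi22Out CfsgLib.Fi22Three CfsgLib.Forms

noncomputable section

/-- The coordinates. -/
abbrev I6 : Type := Fin 3 ⊕ Fin 3

/-- The symplectic group. -/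
abbrev Sp6 : Type := ↥(Matrix.symplecticGroup (Fin 3) (ZMod 2))

/-- The number of a coordinate. -/
def ixS : I6 → ℕ := Sum.elim (fun i => i.val) (fun i => i.val + 3)

/-- The vector of a code. -/
def vecS (v : ℕ) : I6 → ZMod 2 := fun c => ((cbit v (ixS c) : ℕ) : ZMod 2)

/-- The code of a vector. -/
def encS (w : I6 → ZMod 2) : ℕ :=
  (w (Sum.inl 0)).val + (w (Sum.inl 1)).val * 2 + (w (Sum.inl 2)).val * 4 + (w (Sum.inr 0)).val * 8 +
    (w (Sum.inr 1)).val * 16 + (w (Sum.inr 2)).val * 32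

theorem vec_encS : ∀ w : I6 → ZMod 2, encS w < 64 ∧ vecS (encS w) = w := by decide +kernel

theorem encS_zero : ∀ w : I6 → ZMod 2, encS w = 0 → w = 0 := by decide +kernel

theorem enc_vecS : ∀ v < 64, encS (vecS v) = v := by decide +kernel

theorem sN_cast (u v : ℕ) : ((sN u v : ℕ) : ZMod 2) = Cfsg.sympForm 3 (ZMod 2) (vecS u) (vecS v) := by
  simp only [sN, Cfsg.sympForm, Matrix.J, vecS, ixS, ZMod.natCast_mod, dotProduct, Matrix.mulVec,
    Fintype.sum_sum_type, Fin.sum_univ_three]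
  simp [Matrix.one_apply, CharTwo.neg_eq]
  ring

theorem spTransv_one_zero : spTransv (0 : I6 → ZMod 2) 1 = 1 := by
  apply Subtype.ext
  show Cfsg.sympTransvection 3 _ _ = 1
  refine Matrix.ext_of_mulVec_single fun i => ?_
  rw [sympTransvection_mulVec, smul_zero, add_zero, Matrix.one_mulVec]

theorem spTransv_zero (w : I6 → ZMod 2) : spTransv w 0 = 1 := by
  apply Subtype.ext
  show Cfsg.sympTransvection 3 _ _ = 1
  refine Matrix.ext_of_mulVec_single fun i => ?_
  rw [sympTransvection_mulVec, zero_mul, zero_smul, add_zero, Matrix.one_mulVec]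

theorem spTransv_sq (w : I6 → ZMod 2) : spTransv w 1 * spTransv w 1 = 1 := by
  apply Subtype.ext
  show Cfsg.sympTransvection 3 w 1 * Cfsg.sympTransvection 3 w 1 = 1
  refine Matrix.ext_of_mulVec_single fun i => ?_
  have hlin : ∀ (x : I6 → ZMod 2) (a : ZMod 2),
      Cfsg.sympForm 3 (ZMod 2) (x + a • w) w = Cfsg.sympForm 3 (ZMod 2) x w := fun x a => by
    simp only [← sympBilin_apply, map_add, map_smul, LinearMap.add_apply, LinearMap.smul_apply]
    rw [sympBilin_apply (u := w) (v := w), sympForm_self, smul_zero, add_zero]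
  rw [← Matrix.mulVec_mulVec, sympTransvection_mulVec, sympTransvection_mulVec, Matrix.one_mulVec, one_mul,
    one_mul, hlin, add_assoc, ← add_smul, CharTwo.add_self_eq_zero, zero_smul, add_zero]

theorem sets_spec (i : Fin N) : (fixB 1 i = (Nat.beq i 0 || in63 i)) ∧ (fixB 2 i = in72 i) ∧
    (fixB 1 i = fix64.any (Nat.beq i)) ∧ (fixB 2 i = fix72.any (Nat.beq i)) ∧
    (in63 i = true → com 0 i = true ∧ (i : ℕ) ≠ 0 ∧ ext ptS (ext codeS i) = i ∧ ext codeS i ≠ 0 ∧
      bit Fi22Orth.blk0 (img zW.reverse i) = true) ∧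
    (in72 i = true → ((i : ℕ) = ext ptM (ext codeM i) ∨ (i : ℕ) = partner (ext ptM (ext codeM i))) ∧
      qE (ext codeM i) = 1) := by
  have h := allR_spec 12 0 sets_ok i (Nat.zero_le _) (by have := lt_of_pt i; omega)
  unfold setsOK at h
  rw [show Nat.blt (i : ℕ) 3510 = true by simpa using lt_of_pt i, cond_true] at h
  simp only [force_eq, Bool.and_eq_true, beq_iff_eq] at h
  obtain ⟨⟨⟨⟨⟨h1, h2⟩, h3⟩, h4⟩, h5⟩, h6⟩ := h
  refine ⟨h1, h2, h3, h4, fun hi => ?_, fun hi => ?_⟩
  · simp only [hi, Bool.not_true, Bool.false_or, Bool.and_eq_true, Bool.not_eq_true', ← Bool.not_eq_true,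
      Nat.beq_eq] at h5
    exact ⟨h5.1.1.1.1, h5.1.1.1.2, h5.1.1.2, h5.1.2, h5.2⟩
  · simp only [hi, Bool.not_true, Bool.false_or, Bool.and_eq_true, Bool.or_eq_true, Nat.beq_eq] at h6
    exact h6

theorem in63_lt {i : ℕ} (h : in63 i = true) : i < 3510 ∧ ext codeS i < 64 := by
  simpa [in63] using h

theorem transS_spec {p q : ℕ} (hp : in63 p = true) (hq : in63 q = true) :
    in63 (mv p q) = true ∧ vecS (ext codeS (mv p q)) =
      vecS (ext codeS q) + Cfsg.sympForm 3 (ZMod 2) (vecS (ext codeS q)) (vecS (ext codeS p)) •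
        vecS (ext codeS p) := by
  have hmem : ∀ {x : ℕ}, in63 x = true → x ∈ fix64 ∧ x ≠ 0 := by
    intro x hx
    have hs := sets_spec ⟨x, (in63_lt hx).1⟩
    have h3 := hs.2.2.1
    rw [hs.1] at h3
    simp only [hx, Bool.or_true] at h3
    obtain ⟨z, hz, e⟩ := List.any_eq_true.1 h3.symm
    rw [Nat.beq_eq] at e
    exact ⟨e ▸ hz, (hs.2.2.2.2.1 hx).2.1⟩
  have h := List.all_eq_true.1 transS_ok p (hmem hp).1
  simp only [Bool.or_eq_true, Nat.beq_eq, (hmem hp).2, false_or, List.all_eq_true] at h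
  have h1 := (h q (hmem hq).1).resolve_left (hmem hq).2
  simp only [transS, force_eq, Bool.and_eq_true, List.all_eq_true, Nat.beq_eq] at h1
  refine ⟨h1.1, funext fun c => ?_⟩
  have := h1.2 (ixS c) (List.mem_range.2 (by rcases c with c | c <;> simp only [ixS, Sum.elim_inl, Sum.elim_inr] <;> omega))
  show ((cbit (ext codeS (mv p q)) (ixS c) : ℕ) : ZMod 2) = _
  rw [this, ZMod.natCast_mod, Nat.cast_add, Nat.cast_mul, sN_cast]
  rfl

/-- The element of a point of the 63. -/
def gA (p : ℕ) : Fi22Out.G := el [p, 0]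

/-- The subgroup generated by these elements. -/
def HA0 : Subgroup Fi22Out.G := Subgroup.closure {z | ∃ p, in63 p = true ∧ z = gA p}

/-- The graph of the symplectic representation. -/
def graphA : Subgroup (Fi22Out.G × Sp6) :=
  Subgroup.closure {z | ∃ p, in63 p = true ∧ z = (gA p, spTransv (vecS (ext codeS p)) 1)}

theorem map_fst_graphA : graphA.map (MonoidHom.fst Fi22Out.G Sp6) = HA0 := by
  rw [graphA, MonoidHom.map_closure, HA0]
  congr 1
  ext z
  constructor
  · rintro ⟨_, ⟨p, hp, rfl⟩, rfl⟩; exact ⟨p, hp, rfl⟩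
  · rintro ⟨p, hp, rfl⟩; exact ⟨_, ⟨p, hp, rfl⟩, rfl⟩

theorem map_snd_graphA : graphA.map (MonoidHom.snd Fi22Out.G Sp6) = ⊤ := by
  rw [eq_top_iff, ← transvGroup_eq_top, transvGroup, Subgroup.closure_le]
  rintro _ ⟨w, -, c, rfl⟩
  by_cases hc : c = 0
  · subst hc; rw [spTransv_zero]; exact one_mem _
  obtain rfl : c = 1 := (show ∀ c : ZMod 2, c ≠ 0 → c = 1 by decide) c hc
  by_cases hw : w = 0
  · subst hw; rw [spTransv_one_zero]; exact one_mem _
  have h := allR_spec 6 0 codes_ok (encS w) (Nat.zero_le _) (by have := (vec_encS w).1; omega)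
  simp only [codesOK, force_eq, Bool.and_eq_true, Bool.or_eq_true, Nat.beq_eq] at h
  obtain ⟨hp, he⟩ := h.1.resolve_left fun e => hw (encS_zero w e)
  refine ⟨(gA (ext ptS (encS w)), spTransv (vecS (ext codeS (ext ptS (encS w)))) 1),
    Subgroup.subset_closure ⟨_, hp, rfl⟩, ?_⟩
  show spTransv _ 1 = spTransv w 1
  rw [he, (vec_encS w).2]

/-- The elements fixed by an automorphism and commuting with the transposition. -/
def HA (π : MulAut Fi22Out.G) : Subgroup Fi22Out.G := fixedSub π ⊓ Subgroup.centralizer ({d 0} : Set Fi22Out.G)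

theorem mem_HA {π : MulAut Fi22Out.G} {y : Fi22Out.G} : y ∈ HA π ↔ π y = y ∧ Commute y (d 0) := by
  rw [HA, Subgroup.mem_inf, mem_fixedSub, Subgroup.mem_centralizer_singleton_iff]
  rfl

end

end CfsgLib.Fi22OuterInv

namespace CfsgLib.Fi22Out.Act

open Matrix CfsgLib.CosetEnum CfsgLib.Fi22Three CfsgLib.Fi22OuterInv CfsgLib.Forms

noncomputable section

variable (S : Act)
include S

/-- An element permutes the 63 points as a matrix permutes the vectors. -/
def RelA (k : G) (M : Sp6) : Prop :=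
  ∀ i : Fin N, in63 i = true → in63 (S.φ k i : Fin N) = true ∧
    vecS (ext codeS (S.φ k i : Fin N)) = M.1 *ᵥ vecS (ext codeS i)

theorem gA_apply {p : ℕ} (hp : in63 p = true) (i : Fin N) (hi : in63 i = true) :
    ((S.φ (gA p) i : Fin N) : ℕ) = mv p i := by
  have h0 := ((sets_spec i).2.2.2.2.1 hi).1
  have hfix : S.φ (d (pt 0)) i = i := (S.commute_iff _ _).1 ((S.com_iff _ _).1 (by
    rw [pt_val (by norm_num)]; exact h0))
  rw [gA, el_cons, el_cons, el_nil, mul_one, map_mul, Equiv.Perm.mul_apply, hfix, S.phi_d, pt_val (in63_lt hp).1]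

theorem relA_gen {p : ℕ} (hp : in63 p = true) : S.RelA (gA p) (spTransv (vecS (ext codeS p)) 1) := by
  intro i hi
  rw [S.gA_apply hp i hi]
  obtain ⟨h1, h2⟩ := transS_spec hp hi
  refine ⟨h1, ?_⟩
  rw [h2]
  show _ = Cfsg.sympTransvection 3 _ _ *ᵥ _
  rw [sympTransvection_mulVec, one_mul]

theorem gA_sq {p : ℕ} (hp : in63 p = true) : gA p * gA p = 1 := by
  have hc : Commute (d (pt 0)) (d (pt p)) := (S.com_iff _ _).1 (by
    rw [pt_val (by norm_num), pt_val (in63_lt hp).1]
    exact ((sets_spec ⟨p, (in63_lt hp).1⟩).2.2.2.2.1 hp).1)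
  rw [gA, el_cons, el_cons, el_nil, mul_one]
  calc d (pt p) * d (pt 0) * (d (pt p) * d (pt 0)) = d (pt p) * (d (pt 0) * d (pt p)) * d (pt 0) := by group
    _ = (d (pt p) * d (pt p)) * (d (pt 0) * d (pt 0)) := by rw [hc.eq]; group
    _ = 1 := by rw [d_mul_self, d_mul_self, one_mul]

theorem relA_of_mem {z : G × Sp6} (hz : z ∈ graphA) : S.RelA z.1 z.2 := by
  induction hz using Subgroup.closure_induction'' with
  | one => exact fun i hi => by simp [hi]
  | mem z hz => obtain ⟨p, hp, rfl⟩ := hz; exact S.relA_gen hp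
  | inv_mem z hz =>
    obtain ⟨p, hp, rfl⟩ := hz
    simp only [Prod.inv_mk]
    rw [inv_eq_of_mul_eq_one_right (S.gA_sq hp), inv_eq_of_mul_eq_one_right (spTransv_sq _)]
    exact S.relA_gen hp
  | mul x y _ _ hx hy =>
    intro i hi
    obtain ⟨h1, h2⟩ := hy i hi
    obtain ⟨h3, h4⟩ := hx _ h1
    simp only [Prod.fst_mul, Prod.snd_mul, map_mul, Equiv.Perm.mul_apply, Submonoid.coe_mul]
    exact ⟨h3, by rw [h4, h2, Matrix.mulVec_mulVec]⟩

theorem graphA_fst {z : G × Sp6} (hz : z ∈ graphA) (h1 : z.1 = 1) : z.2 = 1 := by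
  refine Subtype.ext (Matrix.ext_of_mulVec_single fun c => ?_)
  rw [Submonoid.coe_one, Matrix.one_mulVec]
  set w : I6 → ZMod 2 := Pi.single c 1 with hw
  have hne : w ≠ 0 := fun e => one_ne_zero ((Pi.single_eq_same c 1).symm.trans (congrFun e c))
  have h := allR_spec 6 0 codes_ok (encS w) (Nat.zero_le _) (by have := (vec_encS w).1; omega)
  simp only [codesOK, force_eq, Bool.and_eq_true, Bool.or_eq_true, Nat.beq_eq] at h
  obtain ⟨hp, he⟩ := h.1.resolve_left fun e => hne (encS_zero w e)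
  obtain ⟨-, h2⟩ := S.relA_of_mem hz ⟨_, (in63_lt hp).1⟩ hp
  rw [h1, map_one, Equiv.Perm.one_apply, he, (vec_encS w).2] at h2
  exact h2.symm

variable {π : MulAut G}

theorem sg_fix_apply {τ : MulAut G} {y : G} (hy : τ y = y) {i : Fin N} (hi : S.sg τ i = i) :
    S.sg τ (S.φ y i) = S.φ y i := by rw [S.sg_act, hy, hi]

variable (hπ : ∀ i : Fin N, ((S.sg π i : Fin N) : ℕ) = qv i)
include hπ

theorem fixB_iff (k : ℕ) (i : Fin N) : fixB k i = true ↔ S.sg (tau π k) i = i := by
  rw [fixB, Fin.ext_iff, S.sg_tau hπ]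
  simp [lt_of_pt i]

theorem pi_d_zero : π (d 0) = d 0 := by
  rw [S.sg_spec π 0]
  congr 1
  exact Fin.ext ((hπ 0).trans base_fix.1)

theorem HA0_le : HA0 ≤ HA π := by
  rw [HA0, Subgroup.closure_le]
  rintro _ ⟨p, hp, rfl⟩
  have hlt := (in63_lt hp).1
  obtain ⟨hc, -⟩ := (sets_spec ⟨p, hlt⟩).2.2.2.2.1 hp
  have hf : fixB 1 (⟨p, hlt⟩ : Fin N) = true := by
    rw [(sets_spec ⟨p, hlt⟩).1, show in63 ((⟨p, hlt⟩ : Fin N) : ℕ) = true from hp, Bool.or_true]
  rw [S.fixB_iff hπ, show tau π 1 = π * MulAut.conj (d 0) from rfl, S.sg_mul, S.sg_conj] at hf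
  have hcd : Commute (d 0) (d (⟨p, hlt⟩ : Fin N)) := (S.com_iff _ _).1 hc
  rw [(S.commute_iff _ _).1 hcd] at hf
  have e : gA p = d (⟨p, hlt⟩ : Fin N) * d 0 := by
    rw [gA, el_cons, el_cons, el_nil, mul_one, show pt p = ⟨p, hlt⟩ from Fin.ext (pt_val hlt),
      show pt 0 = 0 from Fin.ext (pt_val (by norm_num))]
  rw [SetLike.mem_coe, mem_HA, e]
  refine ⟨?_, hcd.symm.mul_left (Commute.refl _)⟩
  rw [map_mul, S.sg_spec π ⟨p, hlt⟩, hf, S.pi_d_zero hπ]

theorem HA_fixB {y : G} (hy : y ∈ HA π) {i : Fin N} (hi : fixB 1 i = true) : fixB 1 (S.φ y i : Fin N) = true := by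
  rw [S.fixB_iff hπ] at hi ⊢
  obtain ⟨h1, h2⟩ := mem_HA.1 hy
  refine S.sg_fix_apply ?_ hi
  rw [show tau π 1 = π * MulAut.conj (d 0) from rfl, MulAut.mul_apply, MulAut.conj_apply,
    show d 0 * y * (d 0)⁻¹ = y by rw [← h2.eq, mul_inv_cancel_right]]
  exact h1

/-- An element fixed by `π * conj (d 0)` commutes with the transposition and is fixed by `π`. -/
theorem fixed_pi_a_iff (y : G) : (π * MulAut.conj (d 0)) y = y ↔ y ∈ HA π := by
  rw [mem_HA]
  refine ⟨fun h => ?_, fun ⟨h1, h2⟩ => by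
    rw [MulAut.mul_apply, MulAut.conj_apply, show d 0 * y * (d 0)⁻¹ = y by rw [← h2.eq, mul_inv_cancel_right]]
    exact h1⟩
  have hperm : ∀ i : Fin N, fixB 1 i = true → fixB 1 (S.φ y i : Fin N) = true := fun i hi => by
    rw [S.fixB_iff hπ] at hi ⊢; exact S.sg_fix_apply h hi
  have h0 : fixB 1 ((0 : Fin N) : ℕ) = true := by rw [(sets_spec 0).1]; rfl
  have hy0 : S.φ y 0 = 0 := by
    let σ : {i : Fin N // fixB 1 i = true} → {i : Fin N // fixB 1 i = true} := fun i => ⟨S.φ y i.1, hperm _ i.2⟩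
    have hσ : Function.Bijective σ := Finite.injective_iff_bijective.1 fun a b e =>
      Subtype.ext ((S.φ y).injective (congrArg Subtype.val e))
    have hu := fix64_lt
    simp only [List.all_eq_true, Bool.and_eq_true, Bool.or_eq_true, Nat.beq_eq, List.any_eq_true,
      Bool.not_eq_true', Nat.blt_eq] at hu
    have hm := hperm 0 h0
    rw [(sets_spec (S.φ y 0)).2.2.1] at hm
    obtain ⟨x, hx, e⟩ := List.any_eq_true.1 hm
    rw [Nat.beq_eq] at e
    rcases (hu x hx).2 with h | ⟨z, hz, hc⟩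
    · exact Fin.ext (e.trans h)
    · exfalso
      have hzlt := (hu z hz).1
      obtain ⟨w, hw⟩ := hσ.2 ⟨⟨z, hzlt⟩, by
        rw [(sets_spec ⟨z, hzlt⟩).2.2.1, List.any_eq_true]; exact ⟨z, hz, Nat.beq_refl z⟩⟩
      have hwv : ((S.φ y w.1 : Fin N) : ℕ) = z := congrArg (fun a => ((a.1 : Fin N) : ℕ)) hw
      have hcw : com ((0 : Fin N) : ℕ) w.1 = true := by
        have h1 := (sets_spec w.1).1
        rw [w.2] at h1
        rcases Bool.or_eq_true_iff.1 h1.symm with h2 | h2
        · rw [show w.1 = 0 from Fin.ext (Nat.eq_of_beq_eq_true h2)]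
          exact (S.com_iff 0 0).2 (Commute.refl _)
        · exact ((sets_spec w.1).2.2.2.2.1 h2).1
      rw [← S.com_map y 0 w.1, hwv, e, hc] at hcw
      exact Bool.false_ne_true hcw
  have hc : Commute y (d 0) := (S.commute_iff y 0).2 hy0
  refine ⟨?_, hc⟩
  rwa [MulAut.mul_apply, MulAut.conj_apply, show d 0 * y * (d 0)⁻¹ = y by rw [← hc.eq, mul_inv_cancel_right]] at h

end

end CfsgLib.Fi22Out.Act

namespace CfsgLib.Fi22Orth.Frame

open Cfsg Matrix CfsgLib.CosetEnum CfsgLib.Fi22Out CfsgLib.Fi22Three CfsgLib.Fi22OuterInv CfsgLib.Forms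

noncomputable section

variable {G : Type*} [Group G] {D : Set G} (F : Frame D) {π : MulAut Fi22Out.G}
  (hπ : ∀ i : Fin N, ((F.S.sg π i : Fin N) : ℕ) = qv i)

theorem gA_image_pairs {y : Fi22Out.G} (hy : y ∈ HA0) : F.zEl⁻¹ * F.e y * F.zEl ∈ F.pairs := by
  induction hy using Subgroup.closure_induction with
  | one => simp
  | mem z hz =>
    obtain ⟨p, hp, rfl⟩ := hz
    have hlt := (in63_lt hp).1
    have e : F.e (gA p) = F.pD p * F.pD 0 := by
      rw [gA, el_cons, el_cons, el_nil, mul_one, map_mul]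
      rfl
    rw [e, show F.zEl⁻¹ * (F.pD p * F.pD 0) * F.zEl =
      (F.zEl⁻¹ * F.pD p * F.zEl) * (F.zEl⁻¹ * F.pD 0 * F.zEl) by group,
      F.zEl_conj_inv hlt, F.zEl_conj_inv (by norm_num)]
    exact F.pair_mem ((sets_spec ⟨p, hlt⟩).2.2.2.2.1 hp).2.2.2.2 orth_facts.2.2.2.2
  | mul a b _ _ ha hb =>
    rw [map_mul, show F.zEl⁻¹ * (F.e a * F.e b) * F.zEl = (F.zEl⁻¹ * F.e a * F.zEl) * (F.zEl⁻¹ * F.e b * F.zEl)
      by group]
    exact mul_mem ha hb
  | inv a _ ha =>
    rw [map_inv, show F.zEl⁻¹ * (F.e a)⁻¹ * F.zEl = (F.zEl⁻¹ * F.e a * F.zEl)⁻¹ by group]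
    exact inv_mem ha

include F in
/-- The transposition is not among the pairs. -/
theorem d_zero_notMem : d 0 ∉ HA0 := by
  intro hy
  have h1 := F.gA_image_pairs hy
  rw [show F.e (d 0) = F.pD 0 by rw [pD, show pt 0 = (0 : Fin N) from Fin.ext (pt_val (by norm_num))],
    F.zEl_conj_inv (by norm_num)] at h1
  have hb := orth_facts.2.2.2.2
  have h2 := F.moves_eq (F.moves_pt hb) (F.moves_pairs h1) outPt_bit.1
  rw [outPt_bit.2.1] at h2
  exact absurd h2 (by decide)

variable [Finite G] (h : IsThreeTranspositionGroup D) (hp : IsPrimitiveUnderConj D) (h22 : IsOfTypeM22 G D)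
include h hp h22

include hπ in
/-- An element fixed by `π` fixing the 64 points is `1` or the transposition. -/
theorem kerA {y : Fi22Out.G} (hy : π y = y) (hfix : ∀ i : Fin N, fixB 1 i = true → F.S.φ y i = i) :
    y = 1 ∨ y = d 0 := by
  have hk := kerA_ok
  simp only [kerOK, Bool.and_eq_true, Nat.blt_eq, List.all_eq_true, List.any_eq_true, Nat.beq_eq] at hk
  obtain ⟨⟨⟨⟨hlt, hU⟩, hsel⟩, hcov⟩, hclose⟩ := hk
  have hu := fix64_lt
  simp only [List.all_eq_true, Bool.and_eq_true, Nat.blt_eq] at hu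
  have hmem64 : ∀ z (hz : z ∈ fix64), fixB 1 ((⟨z, (hu z hz).1⟩ : Fin N) : ℕ) = true := fun z hz => by
    rw [(sets_spec _).2.2.1, List.any_eq_true]; exact ⟨z, hz, Nat.beq_refl z⟩
  -- multiply by the transposition so that the next point is fixed
  have main : ∀ x : Fi22Out.G, π x = x → (∀ i : Fin N, fixB 1 i = true → F.S.φ x i = i) →
      F.S.φ x ⟨kerAPt, hlt⟩ = ⟨kerAPt, hlt⟩ → x = 1 := by
    intro x _ hfx hcx
    have hL : F.S.FixesL (MulAut.conj x) (deriveF kerASteps (kerAPt :: fix64)) := by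
      refine F.S.fixesL_derive _ _ fun z hz => ?_
      rcases List.mem_cons.1 hz with rfl | hz
      · exact ⟨⟨kerAPt, hlt⟩, rfl, by rw [F.S.sg_conj]; exact hcx⟩
      · exact ⟨⟨z, (hu z hz).1⟩, rfl, by rw [F.S.sg_conj]; exact hfx _ (hmem64 z hz)⟩
    have hone : F.zEl⁻¹ * F.e x * F.zEl = 1 := by
      refine F.eq_one_of_commute_pairs h hp h22 fun z hz => ?_
      have hc : ∀ q, bit blk0 q = true → Commute (F.zEl⁻¹ * F.e x * F.zEl) (F.pD q) := by
        intro q hq
        have hq' := (blk0_spec hq).1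
        obtain ⟨w, hw, hwz⟩ := hclose _ (orth_facts.2.2.2.1 q hq hq')
        obtain ⟨i, hi, hfi⟩ := hL w hw
        rw [F.S.sg_conj] at hfi
        have hci : Commute (F.e x) (F.e (d i)) := ((F.S.commute_iff x i).2 hfi).map F.e
        have hpt : F.e (d i) = F.pD (Fi22Three.img zW q) := by
          rw [pD]; congr 2
          exact Fin.ext (by rw [pt_val (F.S.img_lt orth_facts.1 hq'), hi, hwz])
        rw [hpt, ← F.zEl_conj hq'] at hci
        have := hci.map (MulAut.conj F.zEl⁻¹)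
        simpa [MulAut.conj_apply, mul_assoc] using this
      induction hz using Subgroup.closure_induction with
      | mem z hz => obtain ⟨p, q, h1, h2, rfl⟩ := hz; exact (hc p h1).mul_right (hc q h2)
      | one => exact Commute.one_right _
      | mul u v _ _ hu hv => exact hu.mul_right hv
      | inv u _ hu => exact hu.inv_right
    refine F.e.injective ?_
    rw [map_one]
    calc F.e x = F.zEl * (F.zEl⁻¹ * F.e x * F.zEl) * F.zEl⁻¹ := by group
      _ = 1 := by rw [hone]; group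
  set c : Fin N := ⟨kerAPt, hlt⟩ with hc
  set x := F.S.φ y c with hx
  have hπc : F.S.sg π c = c := by
    have h1 : fixB 0 (c : ℕ) = true := hU
    rwa [F.S.fixB_iff hπ] at h1
  have hx0 : fixB 0 (x : ℕ) = true := by
    rw [F.S.fixB_iff hπ]; exact F.S.sg_fix_apply (τ := π) hy hπc
  have hcand : candF (fixB 0) com kerASel kerAPt x = true := by
    simp only [candF, Bool.and_eq_true, List.all_eq_true, beq_iff_eq]
    refine ⟨hx0, fun e he => ?_⟩
    obtain ⟨e', he', ee⟩ := hsel e he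
    subst ee
    set i : Fin N := ⟨e, (hu e he').1⟩
    have hfe : F.S.φ y i = i := hfix i (hmem64 e he')
    have h1 : com (i : ℕ) x = com (i : ℕ) c := by
      conv_lhs => rw [← hfe]
      exact F.S.com_map y i c
    refine ⟨⟨h1, ?_⟩, h1⟩
    rw [Bool.eq_iff_iff, Nat.beq_eq, Nat.beq_eq]
    show ((i : ℕ) = (x : ℕ)) ↔ ((i : ℕ) = (c : ℕ))
    rw [Fin.val_inj, Fin.val_inj, hx]
    conv_lhs => rw [← hfe]
    exact (F.S.φ y).injective.eq_iff
  have hxv := allR_spec 12 0 hcov x (Nat.zero_le _) (by have := lt_of_pt x; omega)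
  rw [hcand, show Nat.blt (x : ℕ) 3510 = true by simpa using lt_of_pt x, Bool.and_self, cond_true,
    Bool.or_eq_true, Nat.beq_eq, Nat.beq_eq] at hxv
  rcases hxv with hxc | hxc
  · exact Or.inl (main y hy hfix (Fin.ext hxc))
  · refine Or.inr ?_
    have h0fix : ∀ i : Fin N, fixB 1 i = true → F.S.φ (d 0) i = i := by
      intro i hi
      rw [(sets_spec i).1, Bool.or_eq_true, Nat.beq_eq] at hi
      refine (F.S.commute_iff _ _).1 ?_
      rcases hi with hi | hi
      · rw [show i = 0 from Fin.ext hi]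
      · exact (F.S.com_iff _ _).1 ((sets_spec i).2.2.2.2.1 hi).1
    have h1 : d 0 * y = 1 := main (d 0 * y) (by rw [map_mul, hy, F.S.pi_d_zero hπ])
      (fun i hi => by rw [map_mul, Equiv.Perm.mul_apply, hfix i hi, h0fix i hi])
      (Fin.ext (by
        rw [map_mul, Equiv.Perm.mul_apply, ← hx, F.S.phi_d, hxc]
        have hm : F.S.φ (d 0) (F.S.φ (d 0) c) = c := by
          rw [← Equiv.Perm.mul_apply, ← map_mul, d_mul_self, map_one, Equiv.Perm.one_apply]
        have := congrArg Fin.val hm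
        rw [F.S.phi_d, F.S.phi_d] at this
        exact this))
    rw [← mul_one (d 0), ← h1, ← mul_assoc, d_mul_self, one_mul]

include hπ in
/-- The fixed group of `π` and the transposition is a group of order two times `Sp₆(2)`. -/
theorem HA_equiv : Nonempty (↥(HA π) ≃* Multiplicative (ZMod 2) × Cfsg.PSp 3 (ZMod 2)) := by
  classical
  let f1 : ↥graphA →* Fi22Out.G := (MonoidHom.fst Fi22Out.G Sp6).comp graphA.subtype
  let f2 : ↥graphA →* Sp6 := (MonoidHom.snd Fi22Out.G Sp6).comp graphA.subtype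
  have r1 : f1.range = HA0 := by
    rw [MonoidHom.range_comp, Subgroup.range_subtype, map_fst_graphA]
  have i1 : Function.Injective f1 := by
    rw [injective_iff_map_eq_one]
    rintro ⟨⟨k, M⟩, hz⟩ he
    change k = 1 at he
    have : M = 1 := F.S.graphA_fst hz he
    subst this he
    rfl
  have i2 : Function.Injective f2 := by
    rw [injective_iff_map_eq_one]
    rintro ⟨⟨k, M⟩, hz⟩ he
    change M = 1 at he
    subst he
    have hk0 : k ∈ HA0 := by rw [← map_fst_graphA]; exact ⟨_, hz, rfl⟩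
    have hkH := mem_HA.1 (F.S.HA0_le hπ hk0)
    rcases F.kerA hπ h hp h22 hkH.1 (fun i hi => by
      rw [(sets_spec i).1, Bool.or_eq_true, Nat.beq_eq] at hi
      rcases hi with hi | hi
      · rw [show i = 0 from Fin.ext hi]
        exact (F.S.commute_iff _ _).1 hkH.2
      · obtain ⟨hj, hv⟩ := F.S.relA_of_mem hz i hi
        rw [show ((1 : Sp6) : Matrix I6 I6 (ZMod 2)) = 1 from rfl, Matrix.one_mulVec] at hv
        have hcode := congrArg encS hv
        rw [enc_vecS _ (in63_lt hj).2, enc_vecS _ (in63_lt hi).2] at hcode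
        refine Fin.ext ?_
        rw [← ((sets_spec (F.S.φ k i)).2.2.2.2.1 hj).2.2.1, ← ((sets_spec i).2.2.2.2.1 hi).2.2.1]
        exact congrArg (ext ptS) hcode) with rfl | rfl
    · rfl
    · exact absurd hk0 F.d_zero_notMem
  have r2 : f2.range = ⊤ := by
    rw [MonoidHom.range_comp, Subgroup.range_subtype, map_snd_graphA]
  let eA : ↥HA0 ≃* Sp6 :=
    ((MulEquiv.subgroupCongr r1).symm.trans (MonoidHom.ofInjective i1).symm).trans
      ((MonoidHom.ofInjective i2).trans ((MulEquiv.subgroupCongr r2).trans Subgroup.topEquiv))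
  -- the group of order two
  let j : Multiplicative (ZMod 2) →* Fi22Out.G :=
    { toFun := fun u => if u = 1 then 1 else d 0
      map_one' := if_pos rfl
      map_mul' := fun u v => by
        have key : ∀ u v : Multiplicative (ZMod 2), u ≠ 1 → v ≠ 1 → u * v = 1 := by decide
        by_cases hu : u = 1
        · simp [hu]
        by_cases hv : v = 1
        · simp [hv]
        simp [hu, hv, key u v hu hv, d_mul_self] }
  have hj : ∀ u, j u = 1 ∨ j u = d 0 := fun u =>
    (em (u = 1)).imp (fun e => if_pos e) (fun e => if_neg e)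
  have hcomm : ∀ (u : Multiplicative (ZMod 2)) (k : ↥HA0), Commute (j u) (HA0.subtype k) := fun u k => by
    rcases hj u with e | e <;> rw [e]
    · exact Commute.one_left _
    · exact ((mem_HA.1 (F.S.HA0_le hπ k.2)).2).symm
  let f := MonoidHom.noncommCoprod j HA0.subtype hcomm
  have hfinj : Function.Injective f := by
    rw [injective_iff_map_eq_one]
    rintro ⟨u, k⟩ huk
    change j u * (k : Fi22Out.G) = 1 at huk
    rcases hj u with e | e
    · rw [e, one_mul] at huk
      have hu : u = 1 := by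
        by_contra hu
        have h2 : j u = d 0 := if_neg hu
        rw [e] at h2
        exact F.d_zero_notMem (h2 ▸ one_mem _)
      exact Prod.ext hu (Subtype.ext huk)
    · rw [e] at huk
      exact absurd ((eq_inv_of_mul_eq_one_left huk).symm ▸ inv_mem k.2) F.d_zero_notMem
  have hd0 : d 0 ∈ HA π := mem_HA.2 ⟨F.S.pi_d_zero hπ, Commute.refl _⟩
  have hfr : f.range = HA π := by
    refine le_antisymm ?_ fun y hy => ?_
    · rintro _ ⟨⟨u, k⟩, rfl⟩
      show j u * (k : Fi22Out.G) ∈ _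
      refine mul_mem ?_ (F.S.HA0_le hπ k.2)
      rcases hj u with e | e <;> rw [e]
      · exact one_mem _
      · exact hd0
    obtain ⟨g, hg, hfix⟩ := F.S.chain_sound (U := fixB 1) (R := com) HA0
      (fun α => ∃ x ∈ HA π, α = MulAut.conj x)
      (fun g hg α hα => by
        obtain ⟨x, hx, rfl⟩ := hα
        exact ⟨g * x, mul_mem (F.S.HA0_le hπ hg) hx, (map_mul _ _ _).symm⟩)
      (fun α hα i hi => by
        obtain ⟨x, hx, rfl⟩ := hα
        rw [F.S.sg_conj]
        exact F.S.HA_fixB hπ hx hi)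
      (fun α _ a b => F.S.com_sg α a b) aChain [0] fix64 (fun l hl L hL _ => by
        have := List.all_eq_true.1 (List.all_eq_true.1 aGens_ok l hl) L hL
        match L with
        | [p, 0] => exact Subgroup.subset_closure ⟨p, this, rfl⟩
        | [] => simp at this
        | [_] => simp at this
        | [_, _ + 1] => simp at this
        | _ :: _ :: _ :: _ => simp at this) aChain_ok (MulAut.conj y) ⟨y, hy, rfl⟩ (fun x hx => by
        simp only [List.mem_singleton] at hx
        refine ⟨0, hx.symm, ?_⟩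
        rw [F.S.sg_conj]
        exact (F.S.commute_iff y 0).1 (mem_HA.1 hy).2)
    have hgy : g * y ∈ HA π := mul_mem (F.S.HA0_le hπ hg) hy
    have hker := F.kerA hπ h hp h22 (mem_HA.1 hgy).1 fun i hi => by
      rw [(sets_spec i).2.2.1] at hi
      obtain ⟨x, hx, e⟩ := List.any_eq_true.1 hi
      rw [Nat.beq_eq] at e
      obtain ⟨i', hi', hfi⟩ := hfix x hx
      rw [show i' = i from Fin.ext (hi'.trans e.symm), ← map_mul, F.S.sg_conj] at hfi
      exact hfi
    rcases hker with e | e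
    · refine ⟨(1, ⟨g⁻¹, inv_mem hg⟩), ?_⟩
      show j 1 * g⁻¹ = y
      rw [map_one, one_mul]
      calc g⁻¹ = g⁻¹ * (g * y) := by rw [e, mul_one]
        _ = y := by group
    · refine ⟨(Multiplicative.ofAdd 1, ⟨g⁻¹, inv_mem hg⟩), ?_⟩
      show j (Multiplicative.ofAdd 1) * g⁻¹ = y
      have hu : (Multiplicative.ofAdd (1 : ZMod 2)) ≠ 1 := by decide
      rw [show j (Multiplicative.ofAdd 1) = d 0 from show (if Multiplicative.ofAdd (1 : ZMod 2) = 1 then (1 : Fi22Out.G) else d 0) = d 0 from if_neg hu]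
      calc d 0 * g⁻¹ = g⁻¹ * d 0 := ((mem_HA.1 (F.S.HA0_le hπ (inv_mem hg))).2).symm.eq
        _ = g⁻¹ * (g * y) := by rw [e]
        _ = y := by group
  have hcen : Subgroup.center Sp6 = ⊥ :=
    Subgroup.eq_bot_of_card_eq _ (by rw [Forms4.card_center_Sp (by norm_num), ZMod.card]; rfl)
  let eP : Sp6 ≃* Cfsg.PSp 3 (ZMod 2) :=
    QuotientGroup.quotientBot.symm.trans (QuotientGroup.quotientMulEquivOfEq hcen.symm)
  exact ⟨((MulEquiv.subgroupCongr hfr).symm.trans (MonoidHom.ofInjective hfinj).symm).trans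
    (MulEquiv.prodCongr (MulEquiv.refl _) (eA.trans eP))⟩

end

end CfsgLib.Fi22Orth.Frame
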