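import Cfsg.Agent.Fi22OuterInv.CentA
import Cfsg.Agent.ThompsonWielandt.Basic
import Cfsg.Agent.Transpositions.SmallOrthCocycles

/-!
The fixed group of `π` and two commuting transpositions: an elementary abelian group of order 64 extended by
`O₆⁻(2)`, realised on the 36 pairs of fixed transpositions.
-/

set_option autoImplicit false
set_option maxRecDepth 100000

namespace CfsgLib.Fi22OuterInv

open Cfsg Matrix CfsgLib.CosetEnum CfsgLib.Fi22Out CfsgLib.Fi22Three CfsgLib.Spinor CfsgLib.StdForms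
  CfsgLib.Transpositions

noncomputable section

/-- The coordinates. -/
abbrev J6 : Type := (Fin 2 ⊕ Fin 2) ⊕ Fin 2

/-- The elliptic form. -/
abbrev QE : QuadraticForm (ZMod 2) (J6 → ZMod 2) := minusQ 2 (ZMod 2) 1 1

/-- The isometry group. -/
abbrev OE : Type := ↥(Cfsg.isometryGroup (ZMod 2) ⇑QE)

/-- The number of a coordinate. -/
def ixM : J6 → ℕ := Sum.elim (Sum.elim (fun i => i.val) (fun i => i.val + 2)) (fun i => i.val + 4)

/-- The vector of a code. -/
def vecM (v : ℕ) : J6 → ZMod 2 := fun c => ((cbit v (ixM c) : ℕ) : ZMod 2)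

/-- The code of a vector. -/
def encM (w : J6 → ZMod 2) : ℕ :=
  (w (Sum.inl (Sum.inl 0))).val + (w (Sum.inl (Sum.inl 1))).val * 2 + (w (Sum.inl (Sum.inr 0))).val * 4 +
    (w (Sum.inl (Sum.inr 1))).val * 8 + (w (Sum.inr 0)).val * 16 + (w (Sum.inr 1)).val * 32

theorem vec_encM : ∀ w : J6 → ZMod 2, encM w < 64 ∧ vecM (encM w) = w := by decide +kernel

theorem enc_vecM : ∀ v < 64, encM (vecM v) = v := by decide +kernel

theorem qE_minus : ∀ v < 64, ((qE v : ℕ) : ZMod 2) = Cfsg.quadFormMinus 2 (ZMod 2) 1 1 (vecM v) := by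
  decide +kernel

theorem eN_minus : ∀ u < 64, ∀ v < 64, ((eN u v : ℕ) : ZMod 2) = Cfsg.quadFormMinus 2 (ZMod 2) 1 1 (vecM u + vecM v) -
    Cfsg.quadFormMinus 2 (ZMod 2) 1 1 (vecM u) - Cfsg.quadFormMinus 2 (ZMod 2) 1 1 (vecM v) := by
  decide +kernel

theorem unit_split_minus : ∀ c : J6, ∃ u : J6 → ZMod 2, Cfsg.quadFormMinus 2 (ZMod 2) 1 1 u = 1 ∧
    (Cfsg.quadFormMinus 2 (ZMod 2) 1 1 (Pi.single c 1) = 1 ∨
      Cfsg.quadFormMinus 2 (ZMod 2) 1 1 (Pi.single c 1 + u) = 1) := by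
  decide +kernel

theorem qE_one {v : ℕ} (hv : v < 64) (h : qE v = 1) : QE (vecM v) = 1 := by
  rw [coe_minusQ, ← qE_minus v hv, h, Nat.cast_one]

theorem eN_cast {u v : ℕ} (hu : u < 64) (hv : v < 64) :
    ((eN u v : ℕ) : ZMod 2) = QuadraticMap.polar (⇑QE) (vecM u) (vecM v) := by
  rw [QuadraticMap.polar, coe_minusQ, eN_minus u hu v hv]

theorem eq_one_of_fix_minus {M : OE} (hM : ∀ v, QE v = 1 → mat QE M *ᵥ v = v) : M = 1 := by
  refine mat_ext QE ?_
  rw [show mat QE (1 : OE) = 1 from rfl]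
  refine Matrix.ext_of_mulVec_single fun c => ?_
  rw [one_mulVec]
  obtain ⟨u, hu, h⟩ := unit_split_minus c
  rw [← coe_minusQ] at hu h
  rcases h with h | h
  · exact hM _ h
  · have h1 := hM _ h
    rw [mulVec_add, hM u hu] at h1
    exact add_right_cancel h1

theorem in72_lt {i : ℕ} (h : in72 i = true) : i < 3510 ∧ ext codeM i < 64 := by
  simpa [in72] using h

theorem in72_spec {i : ℕ} (h : in72 i = true) :
    (i = ext ptM (ext codeM i) ∨ i = partner (ext ptM (ext codeM i))) ∧ qE (ext codeM i) = 1 :=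
  (sets_spec ⟨i, (in72_lt h).1⟩).2.2.2.2.2 h

theorem mem72 {i : ℕ} (h : in72 i = true) : i ∈ fix72 := by
  have hs := sets_spec ⟨i, (in72_lt h).1⟩
  have h4 := hs.2.2.2.1
  rw [hs.2.1, h] at h4
  obtain ⟨z, hz, e⟩ := List.any_eq_true.1 h4.symm
  rw [Nat.beq_eq] at e
  change i = z at e
  exact e ▸ hz

theorem of_mem72 {i : ℕ} (h : i ∈ fix72) (hlt : i < 3510) : in72 i = true := by
  have hs := sets_spec ⟨i, hlt⟩
  rw [← hs.2.1, hs.2.2.2.1, List.any_eq_true]
  exact ⟨i, h, Nat.beq_refl i⟩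

theorem fix72_lt : fix72.all (fun x => Nat.blt x 3510) = true := by decide +kernel

theorem transM_spec {p q : ℕ} (hp : in72 p = true) (hq : in72 q = true) :
    in72 (mv p q) = true ∧ vecM (ext codeM (mv p q)) = vecM (ext codeM q) +
      QuadraticMap.polar (⇑QE) (vecM (ext codeM p)) (vecM (ext codeM q)) • vecM (ext codeM p) := by
  have h := List.all_eq_true.1 transM_ok p (mem72 hp)
  have h1 := List.all_eq_true.1 h q (mem72 hq)
  simp only [transM, force_eq, Bool.and_eq_true, List.all_eq_true, Nat.beq_eq] at h1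
  refine ⟨h1.1, funext fun c => ?_⟩
  have := h1.2 (ixM c) (List.mem_range.2 (by
    rcases c with (c | c) | c <;> simp only [ixM, Sum.elim_inl, Sum.elim_inr] <;> omega))
  show ((cbit (ext codeM (mv p q)) (ixM c) : ℕ) : ZMod 2) = _
  rw [this, ZMod.natCast_mod, Nat.cast_add, Nat.cast_mul, eN_cast (in72_lt hp).2 (in72_lt hq).2]
  rfl

/-- The reflection of a point. -/
def tvP (p : ℕ) (hp : in72 p = true) : OE :=
  tv QE (vecM (ext codeM p)) (qE_one (in72_lt hp).2 (in72_spec hp).2)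

/-- The subgroup generated by the 72 transpositions. -/
def HB : Subgroup Fi22Out.G := Subgroup.closure {z | ∃ p, in72 p = true ∧ z = d (pt p)}

/-- The graph of the orthogonal representation. -/
def graphB : Subgroup (Fi22Out.G × OE) :=
  Subgroup.closure {z | ∃ (p : ℕ) (hp : in72 p = true), z = (d (pt p), tvP p hp)}

theorem map_fst_graphB : graphB.map (MonoidHom.fst Fi22Out.G OE) = HB := by
  rw [graphB, MonoidHom.map_closure, HB]
  congr 1
  ext z
  constructor
  · rintro ⟨_, ⟨p, hp, rfl⟩, rfl⟩; exact ⟨p, hp, rfl⟩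
  · rintro ⟨p, hp, rfl⟩; exact ⟨_, ⟨p, hp, rfl⟩, rfl⟩

theorem exists_point_minus (v : J6 → ZMod 2) (hv : QE v = 1) :
    ∃ p, in72 p = true ∧ vecM (ext codeM p) = v := by
  obtain ⟨hlt, he⟩ := vec_encM v
  have hq : qE (encM v) = 1 := by
    have h1 := qE_minus (encM v) hlt
    rw [he, ← coe_minusQ, hv] at h1
    have h2 : qE (encM v) < 2 := Nat.mod_lt _ (by norm_num)
    interval_cases hq : qE (encM v)
    · simp at h1
    · rfl
  have h := allR_spec 6 0 codes_ok (encM v) (Nat.zero_le _) (by omega)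
  simp only [codesOK, force_eq, Bool.and_eq_true, Bool.or_eq_true, Bool.not_eq_true', ← Bool.not_eq_true,
    Nat.beq_eq] at h
  obtain ⟨hp, e⟩ := h.2.resolve_left fun hn => hn hq
  exact ⟨_, hp, by rw [e, he]⟩

theorem map_snd_graphB : graphB.map (MonoidHom.snd Fi22Out.G OE) = ⊤ := by
  rw [eq_top_iff, ← Forms.closure_reflections_eq_top (Forms.exists_isReflProd_finite (Q := QE)
    (minusQ_nondegenerate 2 (by decide)) (Or.inr (by simp))), Subgroup.closure_le]
  rintro g ⟨v, hv, hg⟩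
  have hv1 : QE v = 1 := (show ∀ x : ZMod 2, x ≠ 0 → x = 1 by decide) _ hv
  obtain ⟨p, hp, rfl⟩ := exists_point_minus v hv1
  refine ⟨(d (pt p), tvP p hp), Subgroup.subset_closure ⟨p, hp, rfl⟩, ?_⟩
  exact mat_ext QE hg.symm

theorem kerPt_invol : tgt 2 (tgt 2 kerABPt) = kerABPt := by decide +kernel

/-- The fixed group. -/
def CB (π : MulAut Fi22Out.G) : Subgroup Fi22Out.G := fixedSub (tau π 2)

theorem subWord_lt : ∀ m < 64, ∀ p ∈ subWord m, p < 3510 := by decide +kernel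

end

end CfsgLib.Fi22OuterInv

namespace CfsgLib.Fi22Out.Act

open Cfsg Matrix CfsgLib.CosetEnum CfsgLib.Fi22Three CfsgLib.Fi22OuterInv CfsgLib.Spinor CfsgLib.Transpositions

noncomputable section

variable (S : Act)
include S

/-- An element permutes the 72 points as an isometry permutes the vectors. -/
def RelB (k : G) (M : OE) : Prop :=
  ∀ i : Fin N, in72 i = true → in72 (S.φ k i : Fin N) = true ∧
    vecM (ext codeM (S.φ k i : Fin N)) = mat QE M *ᵥ vecM (ext codeM i)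

theorem relB_gen {p : ℕ} (hp : in72 p = true) : S.RelB (d (pt p)) (tvP p hp) := by
  intro i hi
  rw [S.phi_d, pt_val (in72_lt hp).1]
  obtain ⟨h1, h2⟩ := transM_spec hp hi
  exact ⟨h1, by rw [h2, tvP, tv_apply]⟩

theorem relB_of_mem {z : G × OE} (hz : z ∈ graphB) : S.RelB z.1 z.2 := by
  induction hz using Subgroup.closure_induction'' with
  | one =>
    intro i hi
    refine ⟨by simpa using hi, ?_⟩
    show _ = mat QE (1 : OE) *ᵥ _
    rw [show mat QE (1 : OE) = 1 from rfl, one_mulVec]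
    simp
  | mem z hz => obtain ⟨p, hp, rfl⟩ := hz; exact S.relB_gen hp
  | inv_mem z hz =>
    obtain ⟨p, hp, rfl⟩ := hz
    simp only [Prod.inv_mk, d_inv]
    rw [show (tvP p hp)⁻¹ = tvP p hp from tv_inv QE _]
    exact S.relB_gen hp
  | mul x y _ _ hx hy =>
    intro i hi
    obtain ⟨h1, h2⟩ := hy i hi
    obtain ⟨h3, h4⟩ := hx _ h1
    simp only [Prod.fst_mul, Prod.snd_mul, map_mul, Equiv.Perm.mul_apply]
    refine ⟨h3, ?_⟩
    rw [h4, h2, mulVec_mulVec]
    rfl

theorem graphB_fst {z : G × OE} (hz : z ∈ graphB) (h1 : z.1 = 1) : z.2 = 1 := by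
  refine eq_one_of_fix_minus fun v hv => ?_
  obtain ⟨p, hp, rfl⟩ := exists_point_minus v hv
  obtain ⟨-, h2⟩ := S.relB_of_mem hz ⟨p, (in72_lt hp).1⟩ hp
  rw [h1, map_one, Equiv.Perm.one_apply] at h2
  exact h2.symm

variable {π : MulAut G} (hπ : ∀ i : Fin N, ((S.sg π i : Fin N) : ℕ) = qv i)
include hπ

theorem in72_iff (i : Fin N) : in72 i = true ↔ S.sg (tau π 2) i = i := by
  rw [← (sets_spec i).2.1, S.fixB_iff hπ]

theorem CB_in72 {y : G} (hy : y ∈ CB π) {i : Fin N} (hi : in72 i = true) : in72 (S.φ y i : Fin N) = true := by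
  rw [S.in72_iff hπ] at hi ⊢
  exact S.sg_fix_apply (mem_fixedSub.1 hy) hi

theorem twin_sg {y : G} (hy : y ∈ CB π) (a b : Fin N) :
    twin (S.φ y a : Fin N) (S.φ y b : Fin N) = twin a b := by
  have hu := fix72_lt
  simp only [List.all_eq_true, Nat.blt_eq] at hu
  rw [Bool.eq_iff_iff, twin, twin, List.all_eq_true, List.all_eq_true]
  constructor
  · intro h z hz
    have h1 := h _ (mem72 (S.CB_in72 hπ hy (of_mem72 hz (hu z hz) : in72 ((⟨z, hu z hz⟩ : Fin N) : ℕ) = true)))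
    rwa [S.com_map, S.com_map] at h1
  · intro h z hz
    have hy' : y⁻¹ ∈ CB π := inv_mem hy
    have h1 := h _ (mem72 (S.CB_in72 hπ hy' (of_mem72 hz (hu z hz) : in72 ((⟨z, hu z hz⟩ : Fin N) : ℕ) = true)))
    rw [← S.com_map y a, ← S.com_map y b, ← Equiv.Perm.mul_apply (S.φ y) (S.φ y⁻¹), ← map_mul, mul_inv_cancel,
      map_one, Equiv.Perm.one_apply] at h1
    exact h1

theorem HB_le : HB ≤ CB π := by
  rw [HB, Subgroup.closure_le]
  rintro _ ⟨p, hp, rfl⟩
  rw [SetLike.mem_coe, CB, mem_fixedSub, S.sg_spec, (S.in72_iff hπ (pt p)).1 (by rw [pt_val (in72_lt hp).1]; exact hp)]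

theorem kerAB (hni : ∀ g : G, MulAut.conj g ≠ π) {y : G} (hy : y ∈ CB π)
    (hfix : ∀ i : Fin N, in72 i = true → S.φ y i = i) : y = 1 := by
  have hk := kerAB_ok
  simp only [kerOK, Bool.and_eq_true, Nat.blt_eq, List.all_eq_true, List.any_eq_true, Nat.beq_eq] at hk
  obtain ⟨⟨⟨⟨hlt, -⟩, hsel⟩, hcov⟩, hclose⟩ := hk
  have hu := fix72_lt
  simp only [List.all_eq_true, Nat.blt_eq] at hu
  have h72 : ∀ z (hz : z ∈ fix72), in72 ((⟨z, hu z hz⟩ : Fin N) : ℕ) = true := fun z hz => of_mem72 hz (hu z hz)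
  set c : Fin N := ⟨kerABPt, hlt⟩
  have main : ∀ α : MulAut G, (∀ i : Fin N, in72 i = true → S.sg α i = i) → S.sg α c = c → α = 1 := by
    intro α hα hc
    have hL : S.FixesL α (deriveF kerABSteps (kerABPt :: fix72)) := by
      refine S.fixesL_derive _ _ fun z hz => ?_
      rcases List.mem_cons.1 hz with rfl | hz
      · exact ⟨c, rfl, hc⟩
      · exact ⟨_, rfl, hα _ (h72 z hz)⟩
    refine S.eq_one_of_sg fun k hk => ?_
    have hk' : gpt.getD k 0 ∈ gpt := by
      have : k < gpt.length := by simpa [gpt] using hk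
      rw [List.getD_eq_getElem _ _ this]; exact List.getElem_mem this
    obtain ⟨w, hw, hwz⟩ := hclose _ hk'
    obtain ⟨i, hi, hf⟩ := hL w hw
    rwa [show gpF k = i from Fin.ext (hwz.symm.trans hi.symm)]
  set x := S.φ y c with hx
  have hcand : candF (fun _ => true) com kerABSel kerABPt x = true := by
    simp only [candF, Bool.and_eq_true, List.all_eq_true, beq_iff_eq]
    refine ⟨trivial, fun e he => ?_⟩
    obtain ⟨e', he', ee⟩ := hsel e he
    subst ee
    set i : Fin N := ⟨e, hu e he'⟩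
    have hfe : S.φ y i = i := hfix i (h72 e he')
    have h1 : com (i : ℕ) x = com (i : ℕ) c := by
      conv_lhs => rw [← hfe]
      exact S.com_map y i c
    refine ⟨⟨h1, ?_⟩, h1⟩
    rw [Bool.eq_iff_iff, Nat.beq_eq, Nat.beq_eq]
    show ((i : ℕ) = (x : ℕ)) ↔ ((i : ℕ) = (c : ℕ))
    rw [Fin.val_inj, Fin.val_inj, hx]
    conv_lhs => rw [← hfe]
    exact (S.φ y).injective.eq_iff
  have hxv := allR_spec 12 0 hcov x (Nat.zero_le _) (by have := lt_of_pt x; omega)
  rw [hcand, show Nat.blt (x : ℕ) 3510 = true by simpa using lt_of_pt x, Bool.and_self, cond_true,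
    Bool.or_eq_true, Nat.beq_eq, Nat.beq_eq] at hxv
  rcases hxv with hxc | hxc
  · apply S.conj_injective
    rw [map_one]
    exact main _ (fun i hi => by rw [S.sg_conj, hfix i hi]) (by rw [S.sg_conj]; exact Fin.ext hxc)
  · exfalso
    have hxe : x = S.sg (tau π 2) c := Fin.ext (by rw [S.sg_tau hπ]; exact hxc)
    have htc : tau π 2 * MulAut.conj y = 1 := main _
      (fun i hi => by rw [S.sg_mul, S.sg_conj, hfix i hi, (S.in72_iff hπ i).1 hi])
      (by
        rw [S.sg_mul, S.sg_conj, ← hx]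
        have hf := S.sg_fix_apply (τ := tau π 2) (mem_fixedSub.1 hy) (i := c)
        have hsq : S.sg (tau π 2) (S.sg (tau π 2) c) = c := Fin.ext (by
          rw [S.sg_tau hπ, S.sg_tau hπ]; exact kerPt_invol)
        rw [hxe, hsq])
    refine hni (y⁻¹ * (d 0 * d six)⁻¹) ?_
    have e : tau π 2 = π * MulAut.conj (d 0 * d six) := rfl
    rw [e, mul_assoc, ← map_mul] at htc
    have h2 := eq_inv_of_mul_eq_one_left htc
    rw [h2, map_mul, map_inv, map_inv, map_mul MulAut.conj (d 0 * d six)]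
    group

end

end CfsgLib.Fi22Out.Act
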