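import Cfsg.Agent.Fi22OuterInv.CentAB

/-!
The structure of the fixed group of `π` and two commuting transpositions.
-/

set_option autoImplicit false
set_option maxRecDepth 100000

namespace CfsgLib.Fi22OuterInv

open Cfsg CfsgLib.CosetEnum CfsgLib.Fi22Out CfsgLib.Fi22Three

noncomputable section

theorem six_spec {k : ℕ} (hk : k < 6) : in72 (sixPairs.getD k (0, 0)).1 = true ∧
    in72 (sixPairs.getD k (0, 0)).2 = true ∧
    ext codeM (sixPairs.getD k (0, 0)).1 = ext codeM (sixPairs.getD k (0, 0)).2 ∧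
    (sixPairs.getD k (0, 0)).1 ≠ (sixPairs.getD k (0, 0)).2 := by
  obtain ⟨h, hlen, -⟩ := six_ok
  rw [Nat.beq_eq] at hlen
  have hm : sixPairs.getD k (0, 0) ∈ sixPairs := by
    rw [List.getD_eq_getElem _ _ (show k < sixPairs.length by omega)]; exact List.getElem_mem _
  have h1 := List.all_eq_true.1 h _ hm
  simp only [Bool.and_eq_true, Bool.not_eq_true', ← Bool.not_eq_true, Nat.beq_eq] at h1
  exact ⟨h1.1.1.1, h1.1.1.2, h1.1.2, h1.2⟩

theorem agree_false_spec {L M : List ℕ} (h : agree L M = false) :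
    ∃ k, k < 3510 ∧ Nat.beq (img L k) (img M k) = false := by
  simp only [agree, List.all_eq_false, Bool.not_eq_true] at h
  obtain ⟨k, hk, hne⟩ := h
  refine ⟨k, ?_, hne⟩
  revert hk
  simp only [gpt, List.mem_cons, List.not_mem_nil, or_false]
  omega

end

end CfsgLib.Fi22OuterInv

namespace CfsgLib.Fi22Out.Act

open Cfsg CfsgLib.CosetEnum CfsgLib.Fi22Three CfsgLib.Fi22OuterInv CfsgLib.Spinor CfsgLib.Transpositions

noncomputable section

variable (S : Act)
include S

theorem mv_phi (p q : Fin N) : mv p q = ((S.φ (d p) q : Fin N) : ℕ) := (S.phi_d p q).symm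

theorem same_code {i j : Fin N} (hi : in72 i = true) (hj : in72 j = true) (h : ext codeM i = ext codeM j) :
    (i : ℕ) = j ∨ ((i : ℕ) = partner (ext ptM (ext codeM i)) ∧ (j : ℕ) = ext ptM (ext codeM i)) ∨
      ((j : ℕ) = partner (ext ptM (ext codeM i)) ∧ (i : ℕ) = ext ptM (ext codeM i)) := by
  have h1 := (in72_spec hi).1
  have h2 := (in72_spec hj).1
  rw [← h] at h2
  rcases h1 with h1 | h1 <;> rcases h2 with h2 | h2
  · exact Or.inl (h1.trans h2.symm)
  · exact Or.inr (Or.inr ⟨h2, h1⟩)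
  · exact Or.inr (Or.inl ⟨h1, h2⟩)
  · exact Or.inl (h1.trans h2.symm)

/-- Three points with one code are not distinct. -/
theorem two_of_code {i j k : Fin N} (hi : in72 i = true) (hj : in72 j = true) (hk : in72 k = true)
    (hij : ext codeM i = ext codeM j) (hik : ext codeM i = ext codeM k) (hj' : j ≠ i) (hk' : k ≠ i) : j = k := by
  have a := (in72_spec hi).1
  have b := (in72_spec hj).1
  have c := (in72_spec hk).1
  rw [← hij] at b
  rw [← hik] at c
  refine Fin.ext ?_
  rcases a with a | a <;> rcases b with b | b <;> rcases c with c | c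
  all_goals first
    | exact b.trans c.symm
    | exact absurd (Fin.ext (b.trans a.symm)) hj'
    | exact absurd (Fin.ext (c.trans a.symm)) hk'

variable {π : MulAut G} (hπ : ∀ i : Fin N, ((S.sg π i : Fin N) : ℕ) = qv i) (hni : ∀ g : G, MulAut.conj g ≠ π)
include hπ hni

theorem CB_eq : CB π = HB := by
  refine le_antisymm (fun y hy => ?_) (S.HB_le hπ)
  obtain ⟨g, hg, hfix⟩ := S.chain_sound (U := fixB 2) (R := twin) HB (fun α => ∃ x ∈ CB π, α = MulAut.conj x)
    (fun g hg α hα => by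
      obtain ⟨x, hx, rfl⟩ := hα
      exact ⟨g * x, mul_mem (S.HB_le hπ hg) hx, (map_mul _ _ _).symm⟩)
    (fun α hα i hi => by
      obtain ⟨x, hx, rfl⟩ := hα
      rw [(sets_spec i).2.1] at hi
      rw [S.sg_conj, (sets_spec _).2.1]
      exact S.CB_in72 hπ hx hi)
    (fun α hα a b => by
      obtain ⟨x, hx, rfl⟩ := hα
      rw [S.sg_conj, S.sg_conj]
      exact S.twin_sg hπ hx a b) abChain [] fix72 (fun l hl L hL _ => by
      have := List.all_eq_true.1 (List.all_eq_true.1 abGens_ok l hl) L hL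
      match L with
      | [p] =>
        rw [el_cons, el_nil, mul_one]
        exact Subgroup.subset_closure ⟨p, this, rfl⟩
      | [] => simp at this
      | _ :: _ :: _ => simp at this) abChain_ok (MulAut.conj y) ⟨y, hy, rfl⟩ (fun x hx => by simp at hx)
  have h1 : g * y = 1 := S.kerAB hπ hni (mul_mem (S.HB_le hπ hg) hy) fun i hi => by
    obtain ⟨i', hi', hf⟩ := hfix i (mem72 hi)
    rw [show i' = i from Fin.ext hi', ← map_mul, S.sg_conj] at hf
    exact hf
  rw [eq_inv_of_mul_eq_one_right h1]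
  exact inv_mem hg

theorem exists_graphB {y : G} (hy : y ∈ CB π) : ∃ M : OE, (y, M) ∈ graphB := by
  rw [S.CB_eq hπ hni, ← map_fst_graphB] at hy
  obtain ⟨⟨k, M⟩, hz, rfl⟩ := hy
  exact ⟨M, hz⟩

/-- The representation of the fixed group. -/
def rho : ↥(CB π) →* OE where
  toFun y := Classical.choose (S.exists_graphB hπ hni y.2)
  map_one' := by
    have h := Classical.choose_spec (S.exists_graphB hπ hni (one_mem (CB π)))
    exact S.graphB_fst h rfl
  map_mul' a b := by
    have ha := Classical.choose_spec (S.exists_graphB hπ hni a.2)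
    have hb := Classical.choose_spec (S.exists_graphB hπ hni b.2)
    have hab := Classical.choose_spec (S.exists_graphB hπ hni (a * b).2)
    have h := mul_mem (inv_mem hab) (mul_mem ha hb)
    have h1 := S.graphB_fst h (by simp)
    exact inv_mul_eq_one.1 h1

theorem rho_mem (y : ↥(CB π)) : ((y : G), S.rho hπ hni y) ∈ graphB :=
  Classical.choose_spec (S.exists_graphB hπ hni y.2)

theorem rho_eq {y : ↥(CB π)} {M : OE} (h : ((y : G), M) ∈ graphB) : S.rho hπ hni y = M := by
  have h1 := mul_mem (inv_mem h) (S.rho_mem hπ hni y)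
  exact (inv_mul_eq_one.1 (S.graphB_fst h1 (by simp))).symm

theorem rho_surjective : Function.Surjective (S.rho hπ hni) := by
  intro M
  have hM : M ∈ graphB.map (MonoidHom.snd G OE) := map_snd_graphB ▸ Subgroup.mem_top M
  obtain ⟨⟨k, M'⟩, hz, rfl⟩ := hM
  have hk : k ∈ CB π := by rw [S.CB_eq hπ hni, ← map_fst_graphB]; exact ⟨_, hz, rfl⟩
  exact ⟨⟨k, hk⟩, S.rho_eq hπ hni hz⟩

theorem rho_one_iff (y : ↥(CB π)) : S.rho hπ hni y = 1 ↔
    ∀ i : Fin N, in72 i = true → ext codeM (S.φ (y : G) i : Fin N) = ext codeM i := by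
  constructor
  · intro h i hi
    obtain ⟨h1, h2⟩ := S.relB_of_mem (S.rho_mem hπ hni y) i hi
    rw [h, show mat QE (1 : OE) = 1 from rfl, Matrix.one_mulVec] at h2
    have := congrArg encM h2
    rwa [enc_vecM _ (in72_lt h1).2, enc_vecM _ (in72_lt hi).2] at this
  · intro h
    refine eq_one_of_fix_minus fun v hv => ?_
    obtain ⟨p, hp, rfl⟩ := exists_point_minus v hv
    have e := (S.relB_of_mem (S.rho_mem hπ hni y) ⟨p, (in72_lt hp).1⟩ hp).2
    rw [h ⟨p, (in72_lt hp).1⟩ hp] at e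
    exact e.symm

theorem rho_ker_sq {y : ↥(CB π)} (hy : S.rho hπ hni y = 1) : y * y = 1 := by
  refine Subtype.ext (S.kerAB hπ hni (y * y).2 fun i hi => ?_)
  rw [Subgroup.coe_mul, map_mul, Equiv.Perm.mul_apply]
  have hc := (S.rho_one_iff hπ hni y).1 hy
  by_cases hfi : S.φ (y : G) i = i
  · rw [hfi, hfi]
  · have h1 := S.CB_in72 hπ y.2 hi
    have h2 := S.CB_in72 hπ y.2 h1
    by_contra hne
    exact hne (S.two_of_code h1 h2 hi (hc _ h1).symm (hc i hi)
      (fun e => hfi ((S.φ (y : G)).injective e)) (Ne.symm hfi))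

theorem rho_ker_comm {y z : ↥(CB π)} (hy : S.rho hπ hni y = 1) (hz : S.rho hπ hni z = 1) : y * z = z * y := by
  have hyz : S.rho hπ hni (y * z) = 1 := by rw [map_mul, hy, hz, one_mul]
  have h1 := S.rho_ker_sq hπ hni hy
  have h2 := S.rho_ker_sq hπ hni hz
  have h3 := S.rho_ker_sq hπ hni hyz
  rw [← inv_eq_of_mul_eq_one_right h3, _root_.mul_inv_rev, inv_eq_of_mul_eq_one_right h1,
    inv_eq_of_mul_eq_one_right h2]

/-- A two-element of a normal subgroup moves a point only to a commuting one. -/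
theorem com_of_normal_two {K : Subgroup ↥(CB π)} [K.Normal] (hK : IsPGroup 2 K) {n : ↥(CB π)} (hn : n ∈ K)
    {i : Fin N} (hi : in72 i = true) : com (i : ℕ) (S.φ (n : G) i : Fin N) = true := by
  set j := S.φ (n : G) i with hj
  by_contra hc
  rw [Bool.not_eq_true] at hc
  have hj72 : in72 j = true := S.CB_in72 hπ n.2 hi
  have h := List.all_eq_true.1 (List.all_eq_true.1 pairSep_ok i (mem72 hi)) j (mem72 hj72)
  simp only [pairSepOK, hc, Bool.not_false, cond_true, Nat.beq_eq, S.mv_phi] at h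
  have hmem : ∀ {p : Fin N}, in72 p = true → d p ∈ CB π := fun {p} hp =>
    S.HB_le hπ (Subgroup.subset_closure ⟨p, hp, by rw [pt_fin]⟩)
  have hdj : d j = (n : G) * d i * (n : G)⁻¹ := S.d_conj rfl
  have hx : (⟨d i, hmem hi⟩ * ⟨d j, hmem hj72⟩ : ↥(CB π)) ∈ K := by
    have e : (⟨d i, hmem hi⟩ * ⟨d j, hmem hj72⟩ : ↥(CB π)) =
        ⟨d i, hmem hi⟩ * n * (⟨d i, hmem hi⟩ : ↥(CB π))⁻¹ * (⟨d i, hmem hi⟩ * ⟨d i, hmem hi⟩) * n⁻¹ := by
      refine Subtype.ext ?_
      simp only [Subgroup.coe_mul, Subgroup.coe_inv, hdj]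
      group
    rw [e, show (⟨d i, hmem hi⟩ * ⟨d i, hmem hi⟩ : ↥(CB π)) = 1 from Subtype.ext (d_mul_self i), mul_one]
    exact mul_mem (‹K.Normal›.conj_mem n hn _) (inv_mem hn)
  have hbraid : d i * d j * d i = d j * d i * d j := by
    have e1 : S.φ (d i) j = S.φ (d j) i := Fin.ext h
    have a := S.d_conj (i := j) (y := d i) rfl
    have b := S.d_conj (i := i) (y := d j) rfl
    rw [d_inv] at a b
    rw [← a, ← b, e1]
  have hx3 : (⟨d i, hmem hi⟩ * ⟨d j, hmem hj72⟩ : ↥(CB π)) ^ 3 = 1 := by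
    refine Subtype.ext ?_
    simp only [SubgroupClass.coe_pow, Subgroup.coe_mul, Subgroup.coe_one]
    calc (d i * d j) ^ 3 = d i * d j * d i * (d j * d i * d j) := by
          simp only [pow_succ, pow_zero, one_mul, mul_assoc]
      _ = d i * d j * d i * (d i * d j * d i) := by rw [hbraid]
      _ = d i * d j * (d i * d i) * d j * d i := by group
      _ = d i * (d j * d j) * d i := by rw [d_mul_self i]; group
      _ = 1 := by rw [d_mul_self j, mul_one, d_mul_self]
  obtain ⟨m, hm⟩ := hK ⟨_, hx⟩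
  have hm' : (⟨d i, hmem hi⟩ * ⟨d j, hmem hj72⟩ : ↥(CB π)) ^ 2 ^ m = 1 := congrArg Subtype.val hm
  have h1 := Nat.dvd_gcd (orderOf_dvd_of_pow_eq_one hx3) (orderOf_dvd_of_pow_eq_one hm')
  rw [Nat.Coprime.gcd_eq_one (Nat.Coprime.pow_right m (by decide)), Nat.dvd_one, orderOf_eq_one_iff] at h1
  have h2 : d i * d j = 1 := congrArg Subtype.val h1
  have hij : i = j := S.d_inj (by rw [← inv_eq_of_mul_eq_one_right h2, d_inv])
  rw [← hij, (S.com_iff i i).2 (Commute.refl _)] at hc
  exact Bool.noConfusion hc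

theorem le_rho_ker_of_normal_two {K : Subgroup ↥(CB π)} [K.Normal] (hK : IsPGroup 2 K) :
    K ≤ (S.rho hπ hni).ker := by
  intro n hn
  rw [MonoidHom.mem_ker, S.rho_one_iff hπ hni]
  intro i hi
  set j := S.φ (n : G) i with hj
  have hj72 : in72 j = true := S.CB_in72 hπ n.2 hi
  have h := List.all_eq_true.1 (List.all_eq_true.1 pairSep_ok i (mem72 hi)) j (mem72 hj72)
  have hcij : com (i : ℕ) (j : ℕ) = true := S.com_of_normal_two hπ hni hK hn hi
  unfold pairSepOK at h
  rw [hcij, Bool.not_true, cond_false] at h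
  simp only [Bool.or_eq_true, Nat.beq_eq, List.any_eq_true, Bool.and_eq_true, Bool.not_eq_true'] at h
  rcases h with h | ⟨r, hr, ⟨-, hrj⟩, hsep⟩
  · exact h.symm
  exfalso
  have hu := fix72_lt
  simp only [List.all_eq_true, Nat.blt_eq] at hu
  set ρ : Fin N := ⟨r, hu r hr⟩ with hρ
  have hr72 : in72 (ρ : ℕ) = true := of_mem72 hr (hu r hr)
  have hmem : d ρ ∈ CB π := S.HB_le hπ (Subgroup.subset_closure ⟨r, hr72, by rw [← pt_fin ρ]⟩)
  set p2 := S.φ (d ρ) i with hp2
  change com (i : ℕ) (mv ρ i) = false at hsep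
  rw [S.mv_phi] at hsep
  let dr : ↥(CB π) := ⟨d ρ, hmem⟩
  set n' := dr * n * dr⁻¹ with hn'
  have hn'K : n' ∈ K := ‹K.Normal›.conj_mem n hn dr
  have e1 : S.φ (n' : G) p2 = j := by
    have hdd : S.φ ((dr⁻¹ : ↥(CB π)) : G) p2 = i := by
      show S.φ (d ρ)⁻¹ p2 = i
      rw [hp2, map_inv, Equiv.Perm.inv_def, Equiv.symm_apply_apply]
    rw [hn', Subgroup.coe_mul, Subgroup.coe_mul, map_mul, map_mul, Equiv.Perm.mul_apply, Equiv.Perm.mul_apply,
      hdd, ← hj]
    exact (S.commute_iff (d ρ) j).1 ((S.com_iff ρ j).1 hrj)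
  have e2 := S.com_of_normal_two hπ hni hK (mul_mem (inv_mem hn'K) hn) hi
  rw [Subgroup.coe_mul, map_mul, Equiv.Perm.mul_apply, ← hj, Subgroup.coe_inv, map_inv,
    show (S.φ (n' : G))⁻¹ j = p2 by rw [Equiv.Perm.inv_eq_iff_eq, e1]] at e2
  rw [hp2, hsep] at e2
  exact Bool.noConfusion e2

theorem pCore_eq : Cfsg.pCore 2 ↥(CB π) = (S.rho hπ hni).ker := by
  refine le_antisymm ?_ ?_
  · haveI : (Cfsg.pCore 2 ↥(CB π)).Normal := LocalStructure.pCore_normal
    exact S.le_rho_ker_of_normal_two hπ hni LocalStructure.pCore_isPGroup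
  · refine LocalStructure.le_pCore fun y => ⟨1, Subtype.ext ?_⟩
    rw [SubgroupClass.coe_pow, pow_one, pow_two]
    exact S.rho_ker_sq hπ hni y.2

theorem d_six_pair_mem {k : ℕ} (hk : k < 6) :
    ∃ h : el [(sixPairs.getD k (0, 0)).1, (sixPairs.getD k (0, 0)).2] ∈ CB π,
      S.rho hπ hni ⟨_, h⟩ = 1 := by
  obtain ⟨h1, h2, h3, -⟩ := six_spec hk
  set p := (sixPairs.getD k (0, 0)).1
  set q := (sixPairs.getD k (0, 0)).2
  have e : el [p, q] = d (pt p) * d (pt q) := by rw [el_cons, el_cons, el_nil, mul_one]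
  have hp' : d (pt p) ∈ CB π := S.HB_le hπ (Subgroup.subset_closure ⟨p, h1, rfl⟩)
  have hq' : d (pt q) ∈ CB π := S.HB_le hπ (Subgroup.subset_closure ⟨q, h2, rfl⟩)
  refine ⟨e ▸ mul_mem hp' hq', S.rho_eq hπ hni ?_⟩
  have hm := mul_mem (Subgroup.subset_closure ⟨p, h1, rfl⟩ : (d (pt p), tvP p h1) ∈ graphB)
    (Subgroup.subset_closure ⟨q, h2, rfl⟩ : (d (pt q), tvP q h2) ∈ graphB)
  have ev : tvP q h2 = tvP p h1 := tv_congr QE _ _ (by rw [h3])
  rw [Prod.mk_mul_mk, ev] at hm
  rw [show (tvP p h1 * tvP p h1 : OE) = 1 from tv_mul_self QE _, ← e] at hm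
  exact hm

theorem subWord_mem (m : ℕ) : ∃ h : el (subWord m) ∈ CB π, S.rho hπ hni ⟨_, h⟩ = 1 := by
  unfold subWord
  have key : ∀ L : List ℕ, (∀ k ∈ L, k < 6) →
      ∃ h : el ((L.map fun j => [(sixPairs.getD j (0, 0)).1, (sixPairs.getD j (0, 0)).2]).flatten) ∈ CB π,
        S.rho hπ hni ⟨_, h⟩ = 1 := by
    intro L
    induction L with
    | nil => intro _; exact ⟨one_mem _, map_one _⟩
    | cons k L ih =>
      intro hL
      obtain ⟨h1, e1⟩ := S.d_six_pair_mem hπ hni (hL k List.mem_cons_self)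
      obtain ⟨h2, e2⟩ := ih fun x hx => hL x (List.mem_cons_of_mem _ hx)
      have he : el (((k :: L).map fun j => [(sixPairs.getD j (0, 0)).1, (sixPairs.getD j (0, 0)).2]).flatten) =
          el [(sixPairs.getD k (0, 0)).1, (sixPairs.getD k (0, 0)).2] *
            el ((L.map fun j => [(sixPairs.getD j (0, 0)).1, (sixPairs.getD j (0, 0)).2]).flatten) := by
        rw [List.map_cons, List.flatten_cons, el_append]
      refine ⟨he ▸ mul_mem h1 h2, ?_⟩
      have hs : (⟨_, he ▸ mul_mem h1 h2⟩ : ↥(CB π)) = ⟨_, h1⟩ * ⟨_, h2⟩ := Subtype.ext he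
      rw [hs, map_mul, e1, e2, one_mul]
  exact key _ fun k hk => List.mem_range.1 (List.mem_filter.1 hk).1

theorem card_rho_ker : Nat.card (S.rho hπ hni).ker = 64 := by
  classical
  haveI : Finite G := Fi22.finite_grp
  refine le_antisymm ?_ ?_
  · let f : ↥(S.rho hπ hni).ker → (Fin 6 → Bool) := fun y k =>
      decide (S.φ ((y : ↥(CB π)) : G) (pt (sixPairs.getD k (0, 0)).1) = pt (sixPairs.getD k (0, 0)).1)
    have hf : Function.Injective f := by
      intro y z hyz
      refine Subtype.ext ?_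
      have hK : S.rho hπ hni ((z : ↥(CB π))⁻¹ * (y : ↥(CB π))) = 1 := by
        rw [map_mul, map_inv, show S.rho hπ hni (y : ↥(CB π)) = 1 from y.2,
          show S.rho hπ hni (z : ↥(CB π)) = 1 from z.2, inv_one, one_mul]
      set w := (z : ↥(CB π))⁻¹ * (y : ↥(CB π)) with hw
      suffices hw1 : w = 1 from (inv_mul_eq_one.1 hw1).symm
      have same : ∀ k : Fin 6, ∀ i : Fin N, ((i : ℕ) = (sixPairs.getD k (0, 0)).1 ∨
          (i : ℕ) = (sixPairs.getD k (0, 0)).2) → S.φ (w : G) i = i := by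
        intro k
        obtain ⟨h1, h2, h3, h4⟩ := six_spec k.2
        set p := pt (sixPairs.getD k (0, 0)).1 with hp
        set q := pt (sixPairs.getD k (0, 0)).2 with hq
        have hpv : (p : ℕ) = (sixPairs.getD k (0, 0)).1 := pt_val (in72_lt h1).1
        have hqv : (q : ℕ) = (sixPairs.getD k (0, 0)).2 := pt_val (in72_lt h2).1
        have hp72 : in72 p = true := hpv ▸ h1
        have hq72 : in72 q = true := hqv ▸ h2
        have hpq : q ≠ p := fun e => h4 (hpv.symm.trans ((congrArg Fin.val e).symm.trans hqv))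
        have hcpq : ext codeM p = ext codeM q := by rw [hpv, hqv, h3]
        have hcase : ∀ x : ↥(CB π), S.rho hπ hni x = 1 → S.φ (x : G) p ≠ p → S.φ (x : G) p = q := fun x hx hne =>
          S.two_of_code hp72 (S.CB_in72 hπ x.2 hp72) hq72
            ((S.rho_one_iff hπ hni x).1 hx p hp72).symm hcpq hne hpq
        have hyzp : S.φ ((y : ↥(CB π)) : G) p = S.φ ((z : ↥(CB π)) : G) p := by
          have e := congrFun hyz k
          simp only [f, ← hp, decide_eq_decide] at e
          by_cases hy : S.φ ((y : ↥(CB π)) : G) p = p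
          · rw [hy, e.1 hy]
          · rw [hcase _ y.2 hy, hcase _ z.2 fun hz => hy (e.2 hz)]
        have hwp : S.φ (w : G) p = p := by
          rw [hw, Subgroup.coe_mul, Subgroup.coe_inv, map_mul, Equiv.Perm.mul_apply, hyzp, map_inv,
            Equiv.Perm.inv_def, Equiv.symm_apply_apply]
        rintro i (hi | hi)
        · rw [show i = p from Fin.ext (hi.trans hpv.symm)]; exact hwp
        · rw [show i = q from Fin.ext (hi.trans hqv.symm)]
          by_contra hne
          have h5 := S.two_of_code hq72 (S.CB_in72 hπ w.2 hq72) hp72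
            ((S.rho_one_iff hπ hni w).1 hK q hq72).symm hcpq.symm hne hpq.symm
          exact hne ((S.φ (w : G)).injective (h5.trans hwp.symm) ▸ hwp)
      have hL : S.FixesL (MulAut.conj (w : G))
          (deriveF sixSteps (sixPairs.map fun e => [e.1, e.2]).flatten) := by
        refine S.fixesL_derive _ _ fun x hx => ?_
        simp only [List.mem_flatten, List.mem_map] at hx
        obtain ⟨_, ⟨e, he, rfl⟩, hx⟩ := hx
        obtain ⟨k, hk, rfl⟩ := List.getElem_of_mem he
        have hlen := six_ok.2.1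
        rw [Nat.beq_eq] at hlen
        have hkg : sixPairs.getD k (0, 0) = sixPairs[k] := List.getD_eq_getElem _ _ hk
        obtain ⟨h1, h2, -, -⟩ := six_spec (show k < 6 by omega)
        rw [hkg] at h1 h2
        simp only [List.mem_cons, List.not_mem_nil, or_false] at hx
        have hxlt : x < 3510 := by
          rcases hx with rfl | rfl
          · exact (in72_lt h1).1
          · exact (in72_lt h2).1
        exact ⟨⟨x, hxlt⟩, rfl, by
          rw [S.sg_conj]; exact same ⟨k, by omega⟩ _ (by show x = _ ∨ x = _; rw [hkg]; exact hx)⟩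
      refine Subtype.ext (S.kerAB hπ hni w.2 fun i hi => ?_)
      have hsix := six_ok.2.2
      simp only [List.all_eq_true, List.any_eq_true, Nat.beq_eq] at hsix
      obtain ⟨v, hv, e⟩ := hsix i (mem72 hi)
      obtain ⟨i', hi', hfx⟩ := hL v hv
      rw [show i' = i from Fin.ext (hi'.trans e), S.sg_conj] at hfx
      exact hfx
    have := Nat.card_le_card_of_injective f hf
    simpa using this
  · let g : Fin 64 → ↥(S.rho hπ hni).ker := fun m =>
      ⟨⟨el (subWord m), (S.subWord_mem hπ hni m).1⟩, (S.subWord_mem hπ hni m).2⟩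
    have hg : Function.Injective g := by
      intro a b hab
      by_contra hne
      have he : el (subWord a) = el (subWord b) := congrArg (fun y : ↥(S.rho hπ hni).ker => ((y : ↥(CB π)) : G)) hab
      have hok : ∀ m : Fin 64, ok (subWord m) = true := fun m =>
        List.all_eq_true.2 fun p hp => by simpa using subWord_lt m m.2 p hp
      have hs := subs_ok
      simp only [subsOK, List.all_eq_true, List.mem_range, Bool.not_eq_true'] at hs
      rcases lt_or_gt_of_ne (fun e => hne (Fin.ext e)) with hlt | hlt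
      · obtain ⟨k, hk, hk'⟩ := agree_false_spec (hs b b.2 a hlt)
        exact S.ne_of_moves (hok b) (hok a) k hk hk' he.symm
      · obtain ⟨k, hk, hk'⟩ := agree_false_spec (hs a a.2 b hlt)
        exact S.ne_of_moves (hok a) (hok b) k hk hk' he
    haveI : Finite ↥(S.rho hπ hni).ker := Subtype.finite
    have := Nat.card_le_card_of_injective g hg
    simpa using this

/-- The structure of the fixed group of `π` and two transpositions. -/
theorem CB_structure : Cfsg.IsElementaryAbelian 2 (Cfsg.pCore 2 ↥(CB π)) ∧ Nat.card (Cfsg.pCore 2 ↥(CB π)) = 64 ∧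
    ∃ f : ↥(CB π) →* ↥(Cfsg.isometryGroup (ZMod 2) (Cfsg.quadFormMinus 2 (ZMod 2) 1 1)),
      Function.Surjective f ∧ f.ker = Cfsg.pCore 2 ↥(CB π) := by
  rw [S.pCore_eq hπ hni]
  refine ⟨⟨⟨⟨fun a b => Subtype.ext (S.rho_ker_comm hπ hni a.2 b.2)⟩⟩, fun a ha => ?_⟩,
    S.card_rho_ker hπ hni, ?_⟩
  · rw [pow_two]; exact S.rho_ker_sq hπ hni ha
  · let e : OE ≃* ↥(Cfsg.isometryGroup (ZMod 2) (Cfsg.quadFormMinus 2 (ZMod 2) 1 1)) :=
      MulEquiv.subgroupCongr (by rw [CfsgLib.StdForms.coe_minusQ])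
    refine ⟨e.toMonoidHom.comp (S.rho hπ hni), e.surjective.comp (S.rho_surjective hπ hni), ?_⟩
    ext y
    simp [MonoidHom.mem_ker]

end

end CfsgLib.Fi22Out.Act
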