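import Cfsg.Agent.Fi22OuterInv.SetData
import Cfsg.Agent.Fi22Orth.Data

/-!
Kernel checks for the fixed groups of the three outer involutions of `Fi₂₂`.
-/

set_option autoImplicit false
set_option maxRecDepth 100000
set_option exponentiation.threshold 100000

namespace CfsgLib.Fi22OuterInv

open CfsgLib.CosetEnum CfsgLib.Fi22Out CfsgLib.Fi22Three

noncomputable section

/-- A point of the 63. -/
def in63 (i : ℕ) : Bool := Nat.blt i 3510 && Nat.blt (ext codeS i) 64

/-- A point of the 72. -/
def in72 (i : ℕ) : Bool := Nat.blt i 3510 && Nat.blt (ext codeM i) 64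

/-- A bit of a code. -/
def cbit (v j : ℕ) : ℕ := v / 2 ^ j % 2

/-- The symplectic form on codes. -/
def sN (u v : ℕ) : ℕ :=
  (cbit u 0 * cbit v 3 + cbit u 3 * cbit v 0 + cbit u 1 * cbit v 4 + cbit u 4 * cbit v 1 +
    cbit u 2 * cbit v 5 + cbit u 5 * cbit v 2) % 2

/-- The elliptic form on codes. -/
def qE (v : ℕ) : ℕ :=
  (cbit v 0 * cbit v 2 + cbit v 1 * cbit v 3 + (cbit v 4 + cbit v 4 * cbit v 5 + cbit v 5)) % 2

/-- Its polar form. -/
def eN (u v : ℕ) : ℕ :=
  (cbit u 0 * cbit v 2 + cbit u 2 * cbit v 0 + cbit u 1 * cbit v 3 + cbit u 3 * cbit v 1 +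
    cbit u 4 * cbit v 5 + cbit u 5 * cbit v 4) % 2

/-- The two points are partners. -/
def twin (i j : ℕ) : Bool := fix72.all fun z => com i z == com j z

/-- The other point of a pair. -/
def partner (i : ℕ) : ℕ := (partners.find? fun e => Nat.beq e.1 i).elim i Prod.snd

/-- A transvection acts as the transposition does. -/
def transS (p q : ℕ) : Bool :=
  force (mv p q) fun r => force (ext codeS r) fun w => force (ext codeS p) fun u => force (ext codeS q) fun x =>
    force (sN x u) fun s => in63 r && (List.range 6).all fun j => Nat.beq (cbit w j) ((cbit x j + s * cbit u j) % 2)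

/-- A reflection acts as the transposition does. -/
def transM (p q : ℕ) : Bool :=
  force (mv p q) fun r => force (ext codeM r) fun w => force (ext codeM p) fun u => force (ext codeM q) fun x =>
    force (eN u x) fun s => in72 r && (List.range 6).all fun j => Nat.beq (cbit w j) ((cbit x j + s * cbit u j) % 2)

/-- The orbit of fixed points is the image of the standard one. -/
def orthOK : Bool :=
  ok zW && (Fi22Orth.gensB ++ [Fi22Orth.outPt]).all (fun p => Nat.blt p 3510 && Nat.beq (qv (img zW p)) (img zW p)) &&
    allR (fun i => bif fixB 0 i then bit Fi22Orth.allPts (img zW.reverse i) else true) 12 0 &&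
      allR (fun i => bif Nat.blt i 3510 && bit Fi22Orth.blk0 i then blkImg.any (Nat.beq (img zW i)) else true) 12 0 &&
        bit Fi22Orth.blk0 (img zW.reverse 0) && bit Fi22Orth.allPts Fi22Orth.outPt

/-- The sets. -/
def setsOK (i : ℕ) : Bool :=
  bif Nat.blt i 3510 then
    (fixB 1 i == (Nat.beq i 0 || in63 i)) && (fixB 2 i == in72 i) && (fixB 1 i == fix64.any (Nat.beq i)) &&
      (fixB 2 i == fix72.any (Nat.beq i)) && (!in63 i || (com 0 i && !(Nat.beq i 0) &&
        Nat.beq (ext ptS (ext codeS i)) i && !(Nat.beq (ext codeS i) 0) &&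
          bit Fi22Orth.blk0 (img zW.reverse i))) &&
        (!in72 i || (force (ext ptM (ext codeM i)) fun r => Nat.beq i r || Nat.beq i (partner r)) &&
          Nat.beq (qE (ext codeM i)) 1)
  else true

/-- Every code has a point. -/
def codesOK (v : ℕ) : Bool :=
  (Nat.beq v 0 || (force (ext ptS v) fun p => in63 p && Nat.beq (ext codeS p) v)) &&
    (!(Nat.beq (qE v) 1) || (force (ext ptM v) fun p => in72 p && Nat.beq (ext codeM p) v))

/-- Two of the 72 points. -/
def pairSepOK (p q : ℕ) : Bool :=
  bif !(com p q) then Nat.beq (mv p q) (mv q p)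
  else Nat.beq (ext codeM p) (ext codeM q) || fix72.any fun r =>
    !(com r p) && com r q && !(com p (mv r p))

/-- The subsets of the six pairs. -/
def subWord (m : ℕ) : List ℕ :=
  (((List.range 6).filter fun j => Nat.beq (cbit m j) 1).map fun j =>
    [(sixPairs.getD j (0, 0)).1, (sixPairs.getD j (0, 0)).2]).flatten

/-- The 64 products differ. -/
def subsOK : Bool :=
  (List.range 64).all fun a => (List.range a).all fun b => !(agree (subWord a) (subWord b))

/-- The next point after fixing `F` has at most two images. -/
def kerOK (U : ℕ → Bool) (sel F : List ℕ) (c : ℕ) (other : ℕ → ℕ) : Bool :=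
  Nat.blt c 3510 && U c && sel.all (fun x => F.any (Nat.beq x)) &&
    allR (fun i => bif Nat.blt i 3510 && candF U com sel c i then Nat.beq i c || Nat.beq i (other c) else true) 12 0

theorem orth_ok : orthOK = true := by decide +kernel
theorem sets_ok : allR setsOK 12 0 = true := by decide +kernel
theorem codes_ok : allR codesOK 6 0 = true := by decide +kernel
theorem fix64_lt : fix64.all (fun x => Nat.blt x 3510 && (Nat.beq x 0 || fix64.any fun z => !(com x z))) = true := by
  decide +kernel
theorem transS_ok : fix64.all (fun p => Nat.beq p 0 || fix64.all fun q => Nat.beq q 0 || transS p q) = true := by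
  decide +kernel
theorem transM_ok : fix72.all (fun p => fix72.all fun q => transM p q) = true := by decide +kernel
theorem pairSep_ok : fix72.all (fun p => fix72.all fun q => pairSepOK p q) = true := by decide +kernel
theorem subs_ok : subsOK = true := by decide +kernel
theorem six_ok : sixPairs.all (fun e => in72 e.1 && in72 e.2 && Nat.beq (ext codeM e.1) (ext codeM e.2) &&
      !(Nat.beq e.1 e.2)) = true ∧ Nat.beq sixPairs.length 6 = true ∧
    fix72.all (fun x => (deriveF sixSteps (sixPairs.map fun e => [e.1, e.2]).flatten).any fun z => Nat.beq z x) =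
      true := by
  decide +kernel
theorem aChain_ok : chainFixOK (fixB 1) com aChain [0] fix64 = true := by decide +kernel
theorem abChain_ok : chainFixOK (fixB 2) twin abChain [] fix72 = true := by decide +kernel
theorem kerA_ok : kerOK (fixB 0) kerASel fix64 kerAPt (fun c => mv 0 c) = true ∧
    blkImg.all (fun x => (deriveF kerASteps (kerAPt :: fix64)).any fun z => Nat.beq z x) = true := by
  decide +kernel
theorem kerAB_ok : kerOK (fun _ => true) kerABSel fix72 kerABPt (tgt 2) = true ∧
    gpt.all (fun x => (deriveF kerABSteps (kerABPt :: fix72)).any fun z => Nat.beq z x) = true := by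
  decide +kernel
theorem aGens_ok : aChain.all (fun l => l.gens.all fun L => match L with
    | [p, 0] => in63 p
    | _ => false) = true := by decide +kernel
theorem abGens_ok : abChain.all (fun l => l.gens.all fun L => match L with
    | [p] => in72 p
    | _ => false) = true := by decide +kernel

end

end CfsgLib.Fi22OuterInv
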