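import Cfsg.Agent.Fi22OuterInv.CentChecks
import Cfsg.Agent.Fi22OuterInv.Basic
import Cfsg.Agent.Fi22Orth.Orth

/-!
The fixed group of the outer involution: a conjugate of `O₈⁺(2):S₃`, the automorphism group of `Ω₈⁺(2)`.
-/

set_option autoImplicit false
set_option maxRecDepth 100000

namespace CfsgLib.Fi22OuterInv

open Cfsg CfsgLib.CosetEnum CfsgLib.Fi22Out CfsgLib.Fi22Three CfsgLib.StdForms

noncomputable section

/-- The subgroup fixed by an automorphism. -/
def fixedSub {G : Type*} [Group G] (s : MulAut G) : Subgroup G :=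
  MonoidHom.eqLocus (s : G ≃* G).toMonoidHom (MonoidHom.id G)

theorem mem_fixedSub {G : Type*} [Group G] {s : MulAut G} {g : G} : g ∈ fixedSub s ↔ s g = g := Iff.rfl

theorem omega_simple : IsSimpleGroup (Cfsg.Omega (ZMod 2) ⇑Fi22Orth.Q8) := by
  have hc : Subgroup.center (Cfsg.Omega (ZMod 2) ⇑Fi22Orth.Q8) = ⊥ :=
    Subgroup.card_eq_one.1 (CfsgLib.Forms4.card_center_omega_one (plusQ_nondegenerate 4)
      (by simp) (CfsgLib.Forms4.plusPairs 4 (by norm_num)) fun _ _ _ => by decide)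
  have h := CfsgLib.Forms4.isSimpleGroup_pOmegaPlus (F := ZMod 2) 4 le_rfl
  rw [← coe_plusQ] at h
  let e : Cfsg.Omega (ZMod 2) ⇑Fi22Orth.Q8 ≃* Cfsg.POmega (ZMod 2) ⇑Fi22Orth.Q8 :=
    QuotientGroup.quotientBot.symm.trans (QuotientGroup.quotientMulEquivOfEq hc.symm)
  haveI := h
  exact e.isSimpleGroup

theorem orth_facts : ok zW = true ∧
    (∀ p ∈ Fi22Orth.gensB ++ [Fi22Orth.outPt], p < 3510 ∧ qv (img zW p) = img zW p) ∧
    (∀ i, i < 3510 → qv i = i → bit Fi22Orth.allPts (img zW.reverse i) = true) ∧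
    (∀ i, bit Fi22Orth.blk0 i = true → i < 3510 → img zW i ∈ blkImg) ∧
    bit Fi22Orth.blk0 (img zW.reverse 0) = true := by
  have h := orth_ok
  simp only [orthOK, Bool.and_eq_true, List.all_eq_true, Nat.blt_eq, Nat.beq_eq] at h
  obtain ⟨⟨⟨⟨⟨h1, h2⟩, h3⟩, h4⟩, h5⟩, -⟩ := h
  refine ⟨h1, h2, fun i hi hq => ?_, fun i hb hi => ?_, h5⟩
  · have := allR_spec 12 0 h3 i (Nat.zero_le _) (by omega)
    rw [show fixB 0 i = true by simp [fixB, tgt, hi, hq], cond_true] at this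
    exact this
  · have := allR_spec 12 0 h4 i (Nat.zero_le _) (by omega)
    rw [show (Nat.blt i 3510 && bit Fi22Orth.blk0 i) = true by simp [hb, hi], cond_true] at this
    simp only [List.any_eq_true, Nat.beq_eq] at this
    obtain ⟨x, hx, e⟩ := this
    rw [e]
    exact hx

end

end CfsgLib.Fi22OuterInv

namespace CfsgLib.Fi22Orth.Frame

open Cfsg CfsgLib.CosetEnum CfsgLib.Fi22Out CfsgLib.Fi22Three CfsgLib.Fi22OuterInv CfsgLib.StdForms

noncomputable section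

variable {G : Type*} [Group G] {D : Set G} (F : Frame D) {π : MulAut Fi22Out.G}
  (hπ : ∀ i : Fin N, ((F.S.sg π i : Fin N) : ℕ) = qv i)

/-- The outer involution. -/
def sAut (π : MulAut Fi22Out.G) : MulAut G := MulAut.congr F.e π

theorem sAut_e (y : Fi22Out.G) : F.sAut π (F.e y) = F.e (π y) := by
  simp [sAut, MulAut.congr]

include hπ in
theorem sAut_pD {p : ℕ} (hp : p < 3510) : F.sAut π (F.pD p) = F.pD (qv p) := by
  rw [pD, sAut_e, F.S.sg_spec π (pt p), pD]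
  congr 2
  exact Fin.ext ((hπ _).trans (by rw [pt_val hp, pt_val (qv_spec hp).2.1]))

/-- The element moving the standard subgroup to the fixed one. -/
def zEl : G := (F.ev zW)⁻¹

theorem zEl_conj {q : ℕ} (hq : q < 3510) : F.zEl * F.pD q * F.zEl⁻¹ = F.pD (Fi22Three.img zW q) := by
  rw [zEl, inv_inv]
  exact F.conj_ev orth_facts.1 hq

theorem zEl_conj_inv {q : ℕ} (hq : q < 3510) :
    F.zEl⁻¹ * F.pD q * F.zEl = F.pD (Fi22Three.img zW.reverse q) := by
  have h := F.conj_ev (L := zW.reverse) (ok_reverse.trans orth_facts.1) hq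
  rw [ev, el_reverse, map_inv, inv_inv] at h
  rw [zEl, inv_inv]
  exact h

include hπ in
/-- Elements fixed by the involution normalise the standard subgroup, up to the conjugation. -/
theorem normalizes {y : G} (hy : y ∈ fixedSub (F.sAut π)) {o : G} (ho : o ∈ F.orth) :
    F.zEl⁻¹ * y * F.zEl * o * (F.zEl⁻¹ * y * F.zEl)⁻¹ ∈ F.orth := by
  set w := F.zEl⁻¹ * y * F.zEl with hw
  suffices h : F.orth ≤ F.orth.comap (MulAut.conj w).toMonoidHom from h ho
  conv_lhs => rw [orth]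
  rw [Subgroup.closure_le]
  rintro _ ⟨p, hp, rfl⟩
  show w * F.pD p * w⁻¹ ∈ F.orth
  obtain ⟨hlt, hfix⟩ := orth_facts.2.1 p hp
  obtain ⟨x, hx⟩ : ∃ x, y = F.e x := ⟨F.e.symm y, (F.e.apply_symm_apply y).symm⟩
  have hxπ : π x = x := F.e.injective (by rw [← F.sAut_e, ← hx]; exact hy)
  have hr : Fi22Three.img zW p < 3510 := F.S.img_lt orth_facts.1 hlt
  set r := pt (Fi22Three.img zW p) with hrdef
  have hπr : F.S.sg π r = r := Fin.ext ((hπ r).trans (by rw [hrdef, pt_val hr, hfix]))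
  set r' := F.S.φ x r with hr'
  have hπr' : qv r' = r' := by
    rw [← hπ, hr', F.S.sg_act, hxπ, hπr]
  have key : y * F.pD (Fi22Three.img zW p) * y⁻¹ = F.pD r' := by
    rw [hx, pD, ← map_inv, ← map_mul, ← map_mul, pD, pt_fin, hr', ← F.S.d_conj (i := r) (y := x) rfl]
  have e : w * F.pD p * w⁻¹ = F.zEl⁻¹ * (y * (F.zEl * F.pD p * F.zEl⁻¹) * y⁻¹) * F.zEl := by
    rw [hw]; group
  rw [e, F.zEl_conj hlt, key, F.zEl_conj_inv (lt_of_pt r')]
  exact F.orth_mem (orth_facts.2.2.1 _ (lt_of_pt r') hπr')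

include hπ in
theorem conj_orth_le : F.orth.map (MulAut.conj F.zEl).toMonoidHom ≤ fixedSub (F.sAut π) := by
  rw [Subgroup.map_le_iff_le_comap]
  conv_lhs => rw [orth]
  rw [Subgroup.closure_le]
  rintro _ ⟨p, hp, rfl⟩
  show F.sAut π (F.zEl * F.pD p * F.zEl⁻¹) = F.zEl * F.pD p * F.zEl⁻¹
  obtain ⟨hlt, hfix⟩ := orth_facts.2.1 p hp
  rw [F.zEl_conj hlt, F.sAut_pD hπ (F.S.img_lt orth_facts.1 hlt), hfix]

variable [Finite G] (h : IsThreeTranspositionGroup D) (hp : IsPrimitiveUnderConj D) (h22 : IsOfTypeM22 G D)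
include h hp h22

/-- An element normalising the standard subgroup normalises its subgroup of pairs. -/
theorem conj_pairs_of_normalizes {w : G} (hw : ∀ o ∈ F.orth, w * o * w⁻¹ ∈ F.orth) :
    F.pairs.map (MulAut.conj w).toMonoidHom = F.pairs := by
  have hmap : F.orth.map (MulAut.conj w).toMonoidHom = F.orth := by
    refine Subgroup.eq_of_le_of_card_ge ?_ ?_
    · rintro _ ⟨o, ho, rfl⟩; exact hw o ho
    · rw [Subgroup.card_map_of_injective (MulAut.conj w).injective]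
  have hwi : ∀ o ∈ F.orth, w⁻¹ * o * w ∈ F.orth := fun o ho => by
    obtain ⟨o', ho', e⟩ := hmap.symm ▸ ho
    have e' : o = w * o' * w⁻¹ := e.symm
    rw [e', show w⁻¹ * (w * o' * w⁻¹) * w = o' by group]
    exact ho'
  set P' := F.pairs.map (MulAut.conj w).toMonoidHom with hP'
  have hP'le : P' ≤ F.orth := fun _ ⟨o, ho, e⟩ => e ▸ hw o (F.pairs_le ho)
  have hnorm : ∀ o ∈ F.orth, ∀ a ∈ P', o * a * o⁻¹ ∈ P' := by
    rintro o ho _ ⟨z, hz, rfl⟩
    refine ⟨w⁻¹ * o * w * z * (w⁻¹ * o * w)⁻¹, F.conj_pairs (hwi o ho) hz, ?_⟩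
    show w * _ * w⁻¹ = o * (w * z * w⁻¹) * o⁻¹
    group
  obtain ⟨eP⟩ := F.pairs_equiv h hp h22
  haveI := omega_simple
  haveI : IsSimpleGroup ↥F.pairs := eP.isSimpleGroup
  haveI hN : (P'.subgroupOf F.pairs).Normal := ⟨fun a ha o => by
    rw [Subgroup.mem_subgroupOf] at ha ⊢
    exact hnorm _ (F.pairs_le o.2) _ ha⟩
  rcases hN.eq_bot_or_eq_top with hb | ht
  · have htriv : ∀ a ∈ P', a = 1 := by
      intro a ha
      refine F.eq_one_of_commute_pairs h hp h22 fun z hz => ?_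
      have h1 : a * z * a⁻¹ * z⁻¹ ∈ F.pairs := mul_mem (F.conj_pairs (hP'le ha) hz) (inv_mem hz)
      have h2 : a * z * a⁻¹ * z⁻¹ ∈ P' := by
        rw [show a * z * a⁻¹ * z⁻¹ = a * (z * a⁻¹ * z⁻¹) by group]
        exact mul_mem ha (hnorm z (F.pairs_le hz) _ (inv_mem ha))
      have h3 : (⟨_, h1⟩ : ↥F.pairs) ∈ P'.subgroupOf F.pairs := h2
      rw [hb, Subgroup.mem_bot] at h3
      have h4 : a * z * a⁻¹ * z⁻¹ = 1 := congrArg Subtype.val h3
      exact mul_inv_eq_iff_eq_mul.1 (mul_inv_eq_one.1 h4)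
    exfalso
    obtain ⟨z, hz⟩ := exists_ne (1 : ↥F.pairs)
    have := htriv _ ⟨z, z.2, rfl⟩
    exact hz (Subtype.ext ((MulAut.conj w).map_eq_one_iff.1 this))
  · refine (Subgroup.eq_of_le_of_card_ge (Subgroup.subgroupOf_eq_top.1 ht) ?_).symm
    rw [hP', Subgroup.card_map_of_injective (MulAut.conj w).injective]

include hπ in
/-- The fixed group is the conjugate of the standard subgroup. -/
theorem fixedSub_eq : fixedSub (F.sAut π) = F.orth.map (MulAut.conj F.zEl).toMonoidHom := by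
  refine le_antisymm (fun y hy => ?_) (F.conj_orth_le hπ)
  set w := F.zEl⁻¹ * y * F.zEl with hw
  suffices hmem : w ∈ F.orth by
    refine ⟨w, hmem, ?_⟩
    show F.zEl * w * F.zEl⁻¹ = y
    rw [hw]; group
  have hmap := F.conj_pairs_of_normalizes h hp h22 (w := w) fun o ho => F.normalizes hπ hy ho
  let P := F.pairs.subgroupOf F.orth
  haveI : P.Normal := ⟨fun z hz o => F.conj_pairs o.2 hz⟩
  let ι : ↥P ≃* ↥F.pairs := Subgroup.subgroupOfEquivOfLe F.pairs_le
  let c : ↥F.orth →* MulAut ↥F.pairs := (MulAut.congr ι).toMonoidHom.comp MulAut.conjNormal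
  have hc_apply : ∀ (o : ↥F.orth) (z : ↥F.pairs), ((c o z : ↥F.pairs) : G) = (o : G) * z * (o : G)⁻¹ :=
    fun o z => rfl
  have hc : Function.Injective c := by
    rw [injective_iff_map_eq_one]
    intro o ho
    refine Subtype.ext (F.eq_one_of_commute_pairs h hp h22 fun z hz => ?_)
    have h2 := hc_apply o ⟨z, hz⟩
    rw [ho] at h2
    exact mul_inv_eq_iff_eq_mul.1 h2.symm
  obtain ⟨E⟩ := F.orth_equiv h hp h22
  obtain ⟨eP⟩ := F.pairs_equiv h hp h22
  haveI : Finite (MulAut ↥F.pairs) :=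
    Finite.of_injective (fun β => (β : _ → _)) DFunLike.coe_injective
  have hbij := hc.bijective_of_nat_card_le (le_of_eq (by
    rw [Nat.card_congr E.toEquiv, Nat.card_congr (MulAut.congr eP).toEquiv]))
  let θ : MulAut ↥F.pairs :=
    ((MulAut.conj w).subgroupMap F.pairs).trans (MulEquiv.subgroupCongr hmap)
  obtain ⟨o, ho⟩ := hbij.2 θ
  have hone : (o : G)⁻¹ * w = 1 := F.eq_one_of_commute_pairs h hp h22 fun z hz => by
    have h1 := hc_apply o ⟨z, hz⟩
    rw [ho] at h1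
    have h2 : w * z * w⁻¹ = (o : G) * z * (o : G)⁻¹ := h1
    show (o : G)⁻¹ * w * z = z * ((o : G)⁻¹ * w)
    calc (o : G)⁻¹ * w * z = (o : G)⁻¹ * (w * z * w⁻¹) * w := by group
      _ = (o : G)⁻¹ * ((o : G) * z * (o : G)⁻¹) * w := by rw [h2]
      _ = _ := by group
  rw [← inv_mul_eq_one.1 hone]
  exact o.2

include hπ in
theorem fixedSub_equiv :
    Nonempty (↥(fixedSub (F.sAut π)) ≃* MulAut (Cfsg.Omega (ZMod 2) (Cfsg.quadFormPlus 4 (ZMod 2)))) := by
  obtain ⟨E⟩ := F.orth_equiv h hp h22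
  have e1 : ↥(fixedSub (F.sAut π)) ≃* ↥F.orth :=
    (MulEquiv.subgroupCongr (F.fixedSub_eq hπ h hp h22)).trans
      (((MulAut.conj F.zEl).subgroupMap F.orth).symm)
  rw [← coe_plusQ]
  exact ⟨e1.trans E⟩

end

end CfsgLib.Fi22Orth.Frame
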