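import Cfsg.Agent.Fi22OuterInv.Tree

/-!
Certificates that automorphisms fixing some transpositions of `Fi₂₂` are, up to a given subgroup of inner
ones, automorphisms fixing more of them.
-/

set_option autoImplicit false
set_option maxRecDepth 100000

namespace CfsgLib.Fi22OuterInv

open CfsgLib.CosetEnum CfsgLib.Fi22Out CfsgLib.Fi22Three

noncomputable section

/-- One more point to fix. -/
structure Level where
  /-- The point. -/
  c : ℕ
  /-- Elements of the subgroup fixing the points fixed so far. -/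
  gens : List (List ℕ)
  /-- Orbit steps. -/
  ent : List (ℕ × ℕ)
  /-- Derived fixed points. -/
  steps : List (ℕ × ℕ)

/-- New fixed points from old ones. -/
def deriveF : List (ℕ × ℕ) → List ℕ → List ℕ
  | [], F => F
  | (i, j) :: s, F =>
    bif Nat.blt i F.length && Nat.blt j F.length then
      force (mv (F.getD i 0) (F.getD j 0)) fun a => deriveF s (a :: F)
    else deriveF s F

/-- A possible image of `c` once `F` is fixed. -/
def candF (U : ℕ → Bool) (R : ℕ → ℕ → Bool) (F : List ℕ) (c i : ℕ) : Bool :=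
  U i && F.all fun x => (com x i == com x c) && (Nat.beq x i == Nat.beq x c) && (R x i == R x c)

/-- A level is valid. -/
def levelOK (U : ℕ → Bool) (R : ℕ → ℕ → Bool) (F : List ℕ) (l : Level) : Bool :=
  Nat.blt l.c 3510 && U l.c && l.gens.all (fun L => fixL L F) &&
    force (growO l.gens l.ent (2 ^ l.c)) fun K =>
      allR (fun i => bif Nat.blt i 3510 && candF U R F l.c i then bit K i else true) 12 0

/-- A chain reaches the needed points. -/
def chainFixOK (U : ℕ → Bool) (R : ℕ → ℕ → Bool) : List Level → List ℕ → List ℕ → Bool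
  | [], F, need => need.all fun x => F.any fun z => Nat.beq z x
  | l :: ls, F, need => levelOK U R F l && chainFixOK U R ls (deriveF l.steps (l.c :: F)) need

/-- Membership in a bit set. -/
def inSet (K i : ℕ) : Bool := bit K i

end

end CfsgLib.Fi22OuterInv

namespace CfsgLib.Fi22Out.Act

open CfsgLib.CosetEnum CfsgLib.Fi22Three CfsgLib.Fi22OuterInv

noncomputable section

variable (S : Act)
include S

/-- The automorphism fixes the listed points. -/
def FixesL (y : MulAut G) (F : List ℕ) : Prop := ∀ x ∈ F, ∃ i : Fin N, (i : ℕ) = x ∧ S.sg y i = i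

theorem fixesL_derive {y : MulAut G} : ∀ (s : List (ℕ × ℕ)) (F : List ℕ), S.FixesL y F → S.FixesL y (deriveF s F)
  | [], _, h => h
  | (i, j) :: s, F, h => by
    unfold deriveF
    cases hb : (Nat.blt i F.length && Nat.blt j F.length) with
    | false => rw [cond_false]; exact fixesL_derive s F h
    | true =>
      rw [cond_true, force_eq]
      simp only [Bool.and_eq_true, Nat.blt_eq] at hb
      have hi : F.getD i 0 ∈ F := by rw [List.getD_eq_getElem _ _ hb.1]; exact List.getElem_mem _
      have hj : F.getD j 0 ∈ F := by rw [List.getD_eq_getElem _ _ hb.2]; exact List.getElem_mem _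
      obtain ⟨a, ha, hya⟩ := h _ hi
      obtain ⟨b, hb', hyb⟩ := h _ hj
      refine fixesL_derive s _ fun e he => ?_
      rcases List.mem_cons.1 he with rfl | he
      · refine ⟨S.φ (d a) b, by rw [S.phi_d, ha, hb'], Fin.ext ?_⟩
        rw [S.sg_mv, hya, hyb, S.phi_d]
      · exact h e he

/-- A valid chain fixes the needed points up to the subgroup. -/
theorem chain_sound {U : ℕ → Bool} {R : ℕ → ℕ → Bool} (H : Subgroup G) (Pr : MulAut G → Prop)
    (hmul : ∀ h ∈ H, ∀ y, Pr y → Pr (MulAut.conj h * y))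
    (hU : ∀ y, Pr y → ∀ i : Fin N, U i = true → U (S.sg y i) = true)
    (hR : ∀ y, Pr y → ∀ i j : Fin N, R (S.sg y i) (S.sg y j) = R i j) :
    ∀ (ls : List Level) (F need : List ℕ), (∀ l ∈ ls, ∀ L ∈ l.gens, ok L = true → el L ∈ H) →
      chainFixOK U R ls F need = true → ∀ y, Pr y → S.FixesL y F →
        ∃ h ∈ H, S.FixesL (MulAut.conj h * y) need
  | [], F, need, _, hc, y, _, hF => by
    simp only [chainFixOK, List.all_eq_true, List.any_eq_true, Nat.beq_eq] at hc
    refine ⟨1, one_mem H, fun x hx => ?_⟩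
    obtain ⟨z, hz, rfl⟩ := hc x hx
    rw [map_one, one_mul]
    exact hF z hz
  | l :: ls, F, need, hgen, hc, y, hy, hF => by
    simp only [chainFixOK, levelOK, Bool.and_eq_true, Nat.blt_eq, List.all_eq_true, force_eq] at hc
    obtain ⟨⟨⟨⟨hlt, hUc⟩, hfixs⟩, hcov⟩, hrest⟩ := hc
    let x : Fin N := S.sg y ⟨l.c, hlt⟩
    have hcand : candF U R F l.c x = true := by
      simp only [candF, List.all_eq_true, Bool.and_eq_true, beq_iff_eq]
      refine ⟨hU y hy _ hUc, fun e he => ?_⟩
      obtain ⟨a, ha, hya⟩ := hF e he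
      subst ha
      refine ⟨⟨?_, ?_⟩, ?_⟩
      · conv_lhs => rw [← hya]
        exact S.com_sg y a _
      · rw [Bool.eq_iff_iff, Nat.beq_eq, Nat.beq_eq, Fin.val_inj]
        conv_lhs => rw [← hya]
        rw [(S.sg_injective y).eq_iff, ← Fin.val_inj]
      · conv_lhs => rw [← hya]
        exact hR y hy a _
    have hx := allR_spec 12 0 hcov x (Nat.zero_le _) (by have := lt_of_pt x; omega)
    rw [hcand, show Nat.blt (x : ℕ) 3510 = true by simpa using lt_of_pt x, Bool.and_self, cond_true] at hx
    have key := growO_ind (p := fun v => v < 3510 ∧ ∃ g : G, g ∈ H ∧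
        (∀ z : Fin N, (z : ℕ) ∈ F → S.φ g z = z) ∧ ((S.φ g ⟨l.c, hlt⟩ : Fin N) : ℕ) = v)
      (gens := l.gens) ?_ l.ent _ ?_ x hx
    rotate_left
    · intro i v hv
      by_cases hi : i < l.gens.length
      · have hL : l.gens.getD i [] ∈ l.gens := by rw [List.getD_eq_getElem _ _ hi]; exact List.getElem_mem hi
        obtain ⟨hLok, hLfix⟩ : ok (l.gens.getD i []) = true ∧ ∀ z ∈ F, img (l.gens.getD i []) z = z := by
          have := hfixs _ hL
          simp only [fixL, Bool.and_eq_true, List.all_eq_true, Nat.beq_eq] at this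
          exact this
        obtain ⟨hv1, g, hg, h2, h3⟩ := hv
        refine ⟨S.img_lt hLok hv1, (el (l.gens.getD i []))⁻¹ * g,
          mul_mem (inv_mem (hgen l List.mem_cons_self _ hL hLok)) hg, fun z hz => ?_, ?_⟩
        · rw [map_mul, Equiv.Perm.mul_apply, h2 z hz, map_inv]
          exact Fin.ext ((S.phi_el _ hLok z).trans (hLfix _ hz))
        · rw [map_mul, Equiv.Perm.mul_apply, map_inv, S.phi_el _ hLok, h3]
      · rw [List.getD_eq_default _ _ (Nat.le_of_not_lt hi), img_nil]
        exact hv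
    · intro v hv
      rw [bit_two_pow hv]
      exact ⟨hlt, 1, one_mem H, fun z _ => by simp, by simp⟩
    obtain ⟨-, g, hg, hfix, hgx⟩ := key
    have hy' : Pr (MulAut.conj g⁻¹ * y) := hmul _ (inv_mem hg) y hy
    have hF' : S.FixesL (MulAut.conj g⁻¹ * y) (l.c :: F) := by
      intro e he
      rcases List.mem_cons.1 he with rfl | he
      · refine ⟨⟨l.c, hlt⟩, rfl, ?_⟩
        rw [S.sg_mul, S.sg_conj, map_inv, Equiv.Perm.inv_eq_iff_eq]
        exact Fin.ext hgx.symm
      · obtain ⟨a, ha, hya⟩ := hF e he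
        refine ⟨a, ha, ?_⟩
        rw [S.sg_mul, hya, S.sg_conj, map_inv, Equiv.Perm.inv_eq_iff_eq, hfix a (ha ▸ he)]
    obtain ⟨h, hh, hneed⟩ := chain_sound H Pr hmul hU hR ls _ need
      (fun l' hl' => hgen l' (List.mem_cons_of_mem _ hl')) hrest _ hy' (S.fixesL_derive l.steps _ hF')
    refine ⟨h * g⁻¹, mul_mem hh (inv_mem hg), ?_⟩
    rwa [map_mul, mul_assoc]

end

end CfsgLib.Fi22Out.Act
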