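import Cfsg.Agent.Fi22OuterInv.TreeData

/-!
Kernel checks of the certificate, part 1.
-/

set_option autoImplicit false
set_option maxRecDepth 100000

namespace CfsgLib.Fi22OuterInv

noncomputable section

theorem step8_ok : nodeOK step8 tail9 = true := by decide +kernel

theorem step9_ok : nodeOK step9 tail10 = true := by decide +kernel

theorem step10_ok : nodeOK step10 tail11 = true := by decide +kernel

theorem step11_ok : nodeOK step11 tail12 = true := by decide +kernel

theorem step12_ok : nodeOK step12 tail13 = true := by decide +kernel

theorem step13_ok : nodeOK step13 tail14 = true := by decide +kernel

theorem step14_ok : nodeOK step14 tail15 = true := by decide +kernel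

theorem step15_ok : nodeOK step15 tail16 = true := by decide +kernel

end

end CfsgLib.Fi22OuterInv
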