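import Cfsg.Agent.Fi22OuterInv.TreeData

/-!
Kernel checks of the certificate, part 2.
-/

set_option autoImplicit false
set_option maxRecDepth 100000

namespace CfsgLib.Fi22OuterInv

noncomputable section

theorem step16_ok : nodeOK step16 tail17 = true := by decide +kernel

theorem step17_ok : nodeOK step17 tail18 = true := by decide +kernel

theorem step18_ok : nodeOK step18 tail19 = true := by decide +kernel

theorem step19_ok : nodeOK step19 tail20 = true := by decide +kernel

theorem step20_ok : nodeOK step20 tail21 = true := by decide +kernel

theorem step21_ok : nodeOK step21 tail22 = true := by decide +kernel

theorem step22_ok : nodeOK step22 tail23 = true := by decide +kernel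

theorem step23_ok : nodeOK step23 tail24 = true := by decide +kernel

end

end CfsgLib.Fi22OuterInv
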