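import Cfsg.Agent.Fi22OuterInv.TreeData

/-!
Kernel checks of the certificate, part 3.
-/

set_option autoImplicit false
set_option maxRecDepth 100000

namespace CfsgLib.Fi22OuterInv

noncomputable section

theorem step24_ok : nodeOK step24 tail25 = true := by decide +kernel

theorem step25_ok : nodeOK step25 tail26 = true := by decide +kernel

theorem step26_ok : nodeOK step26 tail27 = true := by decide +kernel

theorem step27_ok : nodeOK step27 tail28 = true := by decide +kernel

theorem step28_ok : nodeOK step28 tail29 = true := by decide +kernel

theorem step29_ok : nodeOK step29 tail30 = true := by decide +kernel

theorem step30_ok : nodeOK step30 tail31 = true := by decide +kernel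

theorem step31_ok : nodeOK step31 tail32 = true := by decide +kernel

end

end CfsgLib.Fi22OuterInv
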