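import Cfsg.Agent.Fi22OuterInv.TreeData

/-!
Kernel checks of the certificate, part 4.
-/

set_option autoImplicit false
set_option maxRecDepth 100000

namespace CfsgLib.Fi22OuterInv

noncomputable section

theorem step32_ok : nodeOK step32 tail33 = true := by decide +kernel

theorem step33_ok : nodeOK step33 tail34 = true := by decide +kernel

theorem step34_ok : nodeOK step34 tail35 = true := by decide +kernel

theorem step35_ok : nodeOK step35 tail36 = true := by decide +kernel

theorem step36_ok : nodeOK step36 tail37 = true := by decide +kernel

theorem step37_ok : nodeOK step37 tail38 = true := by decide +kernel

theorem step38_ok : nodeOK step38 tail39 = true := by decide +kernel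

theorem step39_ok : nodeOK step39 tail40 = true := by decide +kernel

end

end CfsgLib.Fi22OuterInv
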