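import Cfsg.Agent.Fi22OuterInv.TreeData

/-!
Kernel checks of the certificate, part 5.
-/

set_option autoImplicit false
set_option maxRecDepth 100000

namespace CfsgLib.Fi22OuterInv

noncomputable section

theorem step40_ok : nodeOK step40 tail41 = true := by decide +kernel

theorem step41_ok : nodeOK step41 tail42 = true := by decide +kernel

theorem step42_ok : nodeOK step42 tail43 = true := by decide +kernel

theorem step43_ok : nodeOK step43 tail44 = true := by decide +kernel

theorem step44_ok : nodeOK step44 tail45 = true := by decide +kernel

theorem step45_ok : nodeOK step45 tail46 = true := by decide +kernel

theorem step46_ok : nodeOK step46 tail47 = true := by decide +kernel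

theorem step47_ok : nodeOK step47 tail48 = true := by decide +kernel

end

end CfsgLib.Fi22OuterInv
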