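import Cfsg.Agent.Fi22OuterInv.TreeData

/-!
Kernel checks of the certificate, part 6.
-/

set_option autoImplicit false
set_option maxRecDepth 100000

namespace CfsgLib.Fi22OuterInv

noncomputable section

theorem step48_ok : nodeOK step48 tail49 = true := by decide +kernel

theorem step49_ok : nodeOK step49 tail50 = true := by decide +kernel

theorem step50_ok : nodeOK step50 tail51 = true := by decide +kernel

theorem step51_ok : nodeOK step51 tail52 = true := by decide +kernel

theorem step52_ok : nodeOK step52 tail53 = true := by decide +kernel

theorem step53_ok : nodeOK step53 tail54 = true := by decide +kernel

theorem step54_ok : nodeOK step54 tail55 = true := by decide +kernel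

theorem step55_ok : nodeOK step55 tail56 = true := by decide +kernel

end

end CfsgLib.Fi22OuterInv
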