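import Cfsg.Agent.Fi22OuterInv.TreeData

/-!
Kernel checks of the certificate, part 7.
-/

set_option autoImplicit false
set_option maxRecDepth 100000

namespace CfsgLib.Fi22OuterInv

noncomputable section

theorem step56_ok : nodeOK step56 tail57 = true := by decide +kernel

theorem step57_ok : nodeOK step57 tail58 = true := by decide +kernel

theorem step58_ok : nodeOK step58 tail59 = true := by decide +kernel

theorem step59_ok : nodeOK step59 tail60 = true := by decide +kernel

theorem step60_ok : nodeOK step60 tail61 = true := by decide +kernel

theorem step61_ok : nodeOK step61 tail62 = true := by decide +kernel

end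

end CfsgLib.Fi22OuterInv
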