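import Cfsg.Agent.Fi22OuterInv.TreeCheck0
import Cfsg.Agent.Fi22OuterInv.TreeCheck1
import Cfsg.Agent.Fi22OuterInv.TreeCheck2
import Cfsg.Agent.Fi22OuterInv.TreeCheck3
import Cfsg.Agent.Fi22OuterInv.TreeCheck4
import Cfsg.Agent.Fi22OuterInv.TreeCheck5
import Cfsg.Agent.Fi22OuterInv.TreeCheck6
import Cfsg.Agent.Fi22OuterInv.TreeCheck7

/-!
The certificate is valid.
-/

set_option autoImplicit false
set_option maxRecDepth 100000

namespace CfsgLib.Fi22OuterInv

noncomputable section

theorem tail62_ok : allNodes tail62 = true := rfl

theorem tail61_ok : allNodes tail61 = true := by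
  rw [tail61, allNodes, step61_ok, tail62_ok]; rfl

theorem tail60_ok : allNodes tail60 = true := by
  rw [tail60, allNodes, step60_ok, tail61_ok]; rfl

theorem tail59_ok : allNodes tail59 = true := by
  rw [tail59, allNodes, step59_ok, tail60_ok]; rfl

theorem tail58_ok : allNodes tail58 = true := by
  rw [tail58, allNodes, step58_ok, tail59_ok]; rfl

theorem tail57_ok : allNodes tail57 = true := by
  rw [tail57, allNodes, step57_ok, tail58_ok]; rfl

theorem tail56_ok : allNodes tail56 = true := by
  rw [tail56, allNodes, step56_ok, tail57_ok]; rfl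

theorem tail55_ok : allNodes tail55 = true := by
  rw [tail55, allNodes, step55_ok, tail56_ok]; rfl

theorem tail54_ok : allNodes tail54 = true := by
  rw [tail54, allNodes, step54_ok, tail55_ok]; rfl

theorem tail53_ok : allNodes tail53 = true := by
  rw [tail53, allNodes, step53_ok, tail54_ok]; rfl

theorem tail52_ok : allNodes tail52 = true := by
  rw [tail52, allNodes, step52_ok, tail53_ok]; rfl

theorem tail51_ok : allNodes tail51 = true := by
  rw [tail51, allNodes, step51_ok, tail52_ok]; rfl

theorem tail50_ok : allNodes tail50 = true := by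
  rw [tail50, allNodes, step50_ok, tail51_ok]; rfl

theorem tail49_ok : allNodes tail49 = true := by
  rw [tail49, allNodes, step49_ok, tail50_ok]; rfl

theorem tail48_ok : allNodes tail48 = true := by
  rw [tail48, allNodes, step48_ok, tail49_ok]; rfl

theorem tail47_ok : allNodes tail47 = true := by
  rw [tail47, allNodes, step47_ok, tail48_ok]; rfl

theorem tail46_ok : allNodes tail46 = true := by
  rw [tail46, allNodes, step46_ok, tail47_ok]; rfl

theorem tail45_ok : allNodes tail45 = true := by
  rw [tail45, allNodes, step45_ok, tail46_ok]; rfl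

theorem tail44_ok : allNodes tail44 = true := by
  rw [tail44, allNodes, step44_ok, tail45_ok]; rfl

theorem tail43_ok : allNodes tail43 = true := by
  rw [tail43, allNodes, step43_ok, tail44_ok]; rfl

theorem tail42_ok : allNodes tail42 = true := by
  rw [tail42, allNodes, step42_ok, tail43_ok]; rfl

theorem tail41_ok : allNodes tail41 = true := by
  rw [tail41, allNodes, step41_ok, tail42_ok]; rfl

theorem tail40_ok : allNodes tail40 = true := by
  rw [tail40, allNodes, step40_ok, tail41_ok]; rfl

theorem tail39_ok : allNodes tail39 = true := by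
  rw [tail39, allNodes, step39_ok, tail40_ok]; rfl

theorem tail38_ok : allNodes tail38 = true := by
  rw [tail38, allNodes, step38_ok, tail39_ok]; rfl

theorem tail37_ok : allNodes tail37 = true := by
  rw [tail37, allNodes, step37_ok, tail38_ok]; rfl

theorem tail36_ok : allNodes tail36 = true := by
  rw [tail36, allNodes, step36_ok, tail37_ok]; rfl

theorem tail35_ok : allNodes tail35 = true := by
  rw [tail35, allNodes, step35_ok, tail36_ok]; rfl

theorem tail34_ok : allNodes tail34 = true := by
  rw [tail34, allNodes, step34_ok, tail35_ok]; rfl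

theorem tail33_ok : allNodes tail33 = true := by
  rw [tail33, allNodes, step33_ok, tail34_ok]; rfl

theorem tail32_ok : allNodes tail32 = true := by
  rw [tail32, allNodes, step32_ok, tail33_ok]; rfl

theorem tail31_ok : allNodes tail31 = true := by
  rw [tail31, allNodes, step31_ok, tail32_ok]; rfl

theorem tail30_ok : allNodes tail30 = true := by
  rw [tail30, allNodes, step30_ok, tail31_ok]; rfl

theorem tail29_ok : allNodes tail29 = true := by
  rw [tail29, allNodes, step29_ok, tail30_ok]; rfl

theorem tail28_ok : allNodes tail28 = true := by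
  rw [tail28, allNodes, step28_ok, tail29_ok]; rfl

theorem tail27_ok : allNodes tail27 = true := by
  rw [tail27, allNodes, step27_ok, tail28_ok]; rfl

theorem tail26_ok : allNodes tail26 = true := by
  rw [tail26, allNodes, step26_ok, tail27_ok]; rfl

theorem tail25_ok : allNodes tail25 = true := by
  rw [tail25, allNodes, step25_ok, tail26_ok]; rfl

theorem tail24_ok : allNodes tail24 = true := by
  rw [tail24, allNodes, step24_ok, tail25_ok]; rfl

theorem tail23_ok : allNodes tail23 = true := by
  rw [tail23, allNodes, step23_ok, tail24_ok]; rfl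

theorem tail22_ok : allNodes tail22 = true := by
  rw [tail22, allNodes, step22_ok, tail23_ok]; rfl

theorem tail21_ok : allNodes tail21 = true := by
  rw [tail21, allNodes, step21_ok, tail22_ok]; rfl

theorem tail20_ok : allNodes tail20 = true := by
  rw [tail20, allNodes, step20_ok, tail21_ok]; rfl

theorem tail19_ok : allNodes tail19 = true := by
  rw [tail19, allNodes, step19_ok, tail20_ok]; rfl

theorem tail18_ok : allNodes tail18 = true := by
  rw [tail18, allNodes, step18_ok, tail19_ok]; rfl

theorem tail17_ok : allNodes tail17 = true := by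
  rw [tail17, allNodes, step17_ok, tail18_ok]; rfl

theorem tail16_ok : allNodes tail16 = true := by
  rw [tail16, allNodes, step16_ok, tail17_ok]; rfl

theorem tail15_ok : allNodes tail15 = true := by
  rw [tail15, allNodes, step15_ok, tail16_ok]; rfl

theorem tail14_ok : allNodes tail14 = true := by
  rw [tail14, allNodes, step14_ok, tail15_ok]; rfl

theorem tail13_ok : allNodes tail13 = true := by
  rw [tail13, allNodes, step13_ok, tail14_ok]; rfl

theorem tail12_ok : allNodes tail12 = true := by
  rw [tail12, allNodes, step12_ok, tail13_ok]; rfl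

theorem tail11_ok : allNodes tail11 = true := by
  rw [tail11, allNodes, step11_ok, tail12_ok]; rfl

theorem tail10_ok : allNodes tail10 = true := by
  rw [tail10, allNodes, step10_ok, tail11_ok]; rfl

theorem tail9_ok : allNodes tail9 = true := by
  rw [tail9, allNodes, step9_ok, tail10_ok]; rfl

theorem tail8_ok : allNodes tail8 = true := by
  rw [tail8, allNodes, step8_ok, tail9_ok]; rfl

theorem tail7_ok : allNodes tail7 = true := by
  rw [tail7, allNodes, step7_ok, tail8_ok]; rfl

theorem tail6_ok : allNodes tail6 = true := by
  rw [tail6, allNodes, step6_ok, tail7_ok]; rfl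

theorem tail5_ok : allNodes tail5 = true := by
  rw [tail5, allNodes, step5_ok, tail6_ok]; rfl

theorem tail4_ok : allNodes tail4 = true := by
  rw [tail4, allNodes, step4_ok, tail5_ok]; rfl

theorem tail3_ok : allNodes tail3 = true := by
  rw [tail3, allNodes, step3_ok, tail4_ok]; rfl

theorem tail2_ok : allNodes tail2 = true := by
  rw [tail2, allNodes, step2_ok, tail3_ok]; rfl

theorem tail1_ok : allNodes tail1 = true := by
  rw [tail1, allNodes, step1_ok, tail2_ok]; rfl

theorem tail0_ok : allNodes tail0 = true := by
  rw [tail0, allNodes, step0_ok, tail1_ok]; rfl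

end

end CfsgLib.Fi22OuterInv
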