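import Cfsg.Agent.Fi22OuterInv.ClassifyChecks
import Cfsg.Agent.Fi22OuterInv.TreeAll

/-!
Every outer involution of `Fi₂₂` is conjugate to one of the three representatives: it fixes a commuting
pair and a line through it, and then the certificate applies.
-/

set_option autoImplicit false
set_option maxRecDepth 100000

namespace CfsgLib.Fi22OuterInv

open CfsgLib.CosetEnum CfsgLib.Fi22Out CfsgLib.Fi22Three

noncomputable section

theorem inBoth_iff (i : Fin N) : inBoth i = true ↔ Fi22PairAut.cls i < 45 ∧ (i : ℕ) ∈ Fi22PairAut.pts := by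
  have h := allR_spec 12 0 Fi22PairAut.mem_ok i (Nat.zero_le _) (by have := lt_of_pt i; omega)
  unfold Fi22PairAut.memOK at h
  rw [show Nat.blt (i : ℕ) 3510 = true by simpa using lt_of_pt i, cond_true, Bool.and_eq_true, beq_iff_eq] at h
  obtain ⟨h1, h2⟩ := h
  constructor
  · intro hb
    rw [inBoth] at hb
    rw [hb] at h1
    rw [← h1] at h2
    simp only [Bool.not_true, Bool.false_or, List.any_eq_true, Nat.beq_eq] at h2
    obtain ⟨x, hx, rfl⟩ := h2
    exact ⟨by simpa using h1.symm, hx⟩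
  · rintro ⟨hc, -⟩
    rw [inBoth, h1]
    simpa using hc

theorem adj_eq {x y : Fin N} (hx : inBoth x = true) (hy : inBoth y = true) :
    com x y = Fi22PairAut.adj (Fi22PairAut.cls x) (Fi22PairAut.cls y) := by
  have h := List.all_eq_true.1 Fi22PairAut.row_ok x ((inBoth_iff x).1 hx).2
  simp only [Fi22PairAut.rowOK, force_eq, List.all_eq_true, beq_iff_eq] at h
  exact h y ((inBoth_iff y).1 hy).2

theorem exists_rep (k : ℕ) (hk : k < 45) : ∃ r : Fin N, inBoth r = true ∧ Fi22PairAut.cls r = k ∧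
    fixL (lineW.getD k []) [0, 6] = true ∧
    ∀ x : Fin N, inBoth x = true → (Fi22PairAut.cls x = k ↔ inLine (img (lineW.getD k []) x) = true) := by
  have h := List.all_eq_true.1 line_ok k (List.mem_range.2 hk)
  simp only [lineOK, force_eq, Bool.and_eq_true, Nat.blt_eq, Nat.beq_eq, List.all_eq_true] at h
  obtain ⟨⟨⟨⟨h1, h2⟩, h3⟩, h4⟩, h5⟩ := h
  refine ⟨⟨_, h1⟩, h2, h3, h4, fun x hx => ?_⟩
  have h6 := h5 x ((inBoth_iff x).1 hx).2
  rw [beq_iff_eq] at h6
  rw [h6, Nat.beq_eq]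

theorem inLine_six {i : ℕ} (h : inLine i = true) : ∃ j, 2 ≤ j ∧ j < 6 ∧ six6.getD j 0 = i := by
  simp only [inLine, Bool.or_eq_true, Nat.beq_eq] at h
  rcases h with ((rfl | rfl) | rfl) | rfl
  · exact ⟨2, le_rfl, by norm_num, rfl⟩
  · exact ⟨3, by norm_num, by norm_num, rfl⟩
  · exact ⟨4, by norm_num, by norm_num, rfl⟩
  · exact ⟨5, by norm_num, by norm_num, rfl⟩

theorem six6_lt (j : ℕ) : six6.getD j 0 < 3510 := by
  rcases lt_or_ge j 6 with h | h
  · interval_cases j <;> simp [six6]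
  · rw [List.getD_eq_default _ _ (show six6.length ≤ j by simp [six6]; omega)]
    norm_num

/-- The six points. -/
def s6 (j : ℕ) : Fin N := ⟨six6.getD j 0, six6_lt j⟩

theorem s6_inj {i j : ℕ} (hi : i < 6) (hj : j < 6) (h : s6 i = s6 j) : i = j := by
  have := congrArg Fin.val h
  change six6.getD i 0 = six6.getD j 0 at this
  interval_cases i <;> interval_cases j <;> first | rfl | (simp [six6] at this)

theorem line_is_both : ∀ j < 6, 2 ≤ j → inBoth (six6.getD j 0) = true := by decide +kernel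

theorem six_inLine : ∀ j < 6, 2 ≤ j → inLine (six6.getD j 0) = true := by decide +kernel

theorem steps_starts : ∀ j < 3, (tail0.any fun nd => eqP nd.P (startOf j)) = true := by decide +kernel

end

end CfsgLib.Fi22OuterInv

namespace CfsgLib.Fi22Out.Act

open CfsgLib.CosetEnum CfsgLib.Fi22Three CfsgLib.Fi22OuterInv

noncomputable section

variable (S : Act)
include S

theorem card_neighbours (p : Fin N) :
    Nat.card {q : Fin N // q ≠ p ∧ com p q = true} = 693 := by
  set g := prodw Fi22.setup.g (pw p) with hg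
  have h0 : S.φ g⁻¹ 0 = p := S.pw_zero p
  have e1 : Nat.card {q : Fin N // q ≠ p ∧ com p q = true} =
      Nat.card {q : Fin N // q ≠ 0 ∧ com (0 : Fin N) q = true} := by
    refine (Nat.card_congr ((S.φ g⁻¹).subtypeEquiv fun q => ?_)).symm
    show _ ↔ S.φ g⁻¹ q ≠ p ∧ com p (S.φ g⁻¹ q) = true
    rw [← h0, S.com_map, (S.φ g⁻¹).injective.ne_iff]
  rw [e1, Nat.card_eq_fintype_card, Fintype.card_subtype, ← small_facts.2, cntR_spec, zero_add,
    ← Finset.card_map Fin.valEmbedding]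
  congr 1

/-- An involution fixes an unordered commuting pair. -/
theorem exists_fixed_pair {t : MulAut G} (ht : t * t = 1) :
    ∃ p q : Fin N, q ≠ p ∧ com p q = true ∧
      ((S.sg t p = p ∧ S.sg t q = q) ∨ (S.sg t p = q ∧ S.sg t q = p)) := by
  classical
  let Gr : SimpleGraph (Fin N) :=
    { Adj := fun i j => j ≠ i ∧ com i j = true
      symm := ⟨fun i j h => ⟨h.1.symm, by rw [S.com_iff] at h ⊢; exact h.2.symm⟩⟩
      loopless := ⟨fun i h => h.1 rfl⟩ }
  have hdeg : ∀ i, Gr.degree i = 693 := by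
    intro i
    rw [← Gr.card_neighborSet_eq_degree, ← Nat.card_eq_fintype_card]
    exact S.card_neighbours i
  have hsum := Gr.sum_degrees_eq_twice_card_edges
  rw [Finset.sum_congr rfl fun i _ => hdeg i, Finset.sum_const, Finset.card_univ, Fintype.card_fin] at hsum
  have hodd : Gr.edgeFinset.card = 1216215 := by
    have hN : (3510 : ℕ) • 693 = 2 * Gr.edgeFinset.card := hsum
    simp only [smul_eq_mul] at hN
    omega
  have hmap : ∀ e : Sym2 (Fin N), e ∈ Gr.edgeSet → Sym2.map (S.sg t) e ∈ Gr.edgeSet := by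
    intro e
    induction e using Sym2.ind with
    | h i j =>
      intro h
      rw [Sym2.map_mk, SimpleGraph.mem_edgeSet] at *
      exact ⟨fun e => h.1 (S.sg_injective t e), by rw [S.com_sg]; exact h.2⟩
  let σ : {e // e ∈ Gr.edgeSet} → {e // e ∈ Gr.edgeSet} := fun e => ⟨Sym2.map (S.sg t) e.1, hmap _ e.2⟩
  have hσ : Function.Involutive σ := fun e => Subtype.ext (by
    show Sym2.map _ (Sym2.map _ e.1) = e.1
    rw [Sym2.map_map]
    have : S.sg t ∘ S.sg t = id := funext fun i => by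
      rw [Function.comp_apply, ← S.sg_mul, ht, S.sg_one, id_eq]
    rw [this, Sym2.map_id, id_eq])
  haveI : _root_.Fact (Nat.Prime 2) := ⟨Nat.prime_two⟩
  obtain ⟨⟨e, he⟩, hfix⟩ := Equiv.Perm.exists_fixed_point_of_prime (p := 2) (n := 1)
    (α := {e // e ∈ Gr.edgeSet}) (by
      have : Fintype.card {e // e ∈ Gr.edgeSet} = Gr.edgeFinset.card :=
        Fintype.card_of_subtype Gr.edgeFinset fun e => SimpleGraph.mem_edgeFinset
      rw [this, hodd]; norm_num) (σ := hσ.toPerm σ)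
    (Equiv.ext fun a => by rw [pow_one, pow_two, Equiv.Perm.mul_apply]; exact hσ a)
  have hfix' := congrArg Subtype.val hfix
  change Sym2.map (S.sg t) e = e at hfix'
  revert he hfix'
  induction e using Sym2.ind with
  | h p q =>
    intro he _ hfix'
    rw [SimpleGraph.mem_edgeSet] at he
    rw [Sym2.map_mk] at hfix'
    exact ⟨p, q, he.1, he.2, Sym2.eq_iff.1 hfix'⟩

/-- A commuting pair can be moved to the standard one. -/
theorem exists_to_pair {p q : Fin N} (hne : q ≠ p) (hc : com p q = true) :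
    ∃ g : G, S.φ g p = 0 ∧ S.φ g q = six := by
  set g1 := prodw Fi22.setup.g (pw p) with hg1
  have h0 : S.φ g1 p = 0 := by
    have := S.pw_zero p
    rw [map_inv, Equiv.Perm.inv_eq_iff_eq] at this
    exact this.symm
  have hC : inC (S.φ g1 q) = true := by
    have h := S.com_map g1 p q
    rw [h0, hc] at h
    rw [inC, show com 0 ((S.φ g1 q : Fin N) : ℕ) = true from h, Bool.and_true, Bool.not_eq_true', ← Bool.not_eq_true,
      Nat.beq_eq]
    intro e
    exact hne ((S.φ g1).injective ((Fin.ext e : S.φ g1 q = 0).trans h0.symm))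
  have he := edge_ok
  simp only [edgeOK, Bool.and_eq_true, List.all_eq_true, force_eq] at he
  obtain ⟨hgens, hcov⟩ := he
  have hx := allR_spec 12 0 hcov (S.φ g1 q) (Nat.zero_le _) (by have := lt_of_pt (S.φ g1 q); omega)
  rw [hC, show Nat.blt ((S.φ g1 q : Fin N) : ℕ) 3510 = true by simpa using lt_of_pt _, Bool.and_self,
    cond_true] at hx
  have key := growO_ind (p := fun v => v < 3510 ∧ ∃ g : G, S.φ g 0 = 0 ∧ ((S.φ g six : Fin N) : ℕ) = v)
    (gens := edgeGens) ?_ edgeEnt _ ?_ _ hx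
  · obtain ⟨-, g, hg0, hg6⟩ := key
    refine ⟨g⁻¹ * g1, ?_, ?_⟩
    · rw [map_mul, Equiv.Perm.mul_apply, h0, map_inv, Equiv.Perm.inv_eq_iff_eq, hg0]
    · rw [map_mul, Equiv.Perm.mul_apply, map_inv, Equiv.Perm.inv_eq_iff_eq]
      exact Fin.ext hg6.symm
  · intro i v hv
    by_cases hi : i < edgeGens.length
    · have hL : edgeGens.getD i [] ∈ edgeGens := by rw [List.getD_eq_getElem _ _ hi]; exact List.getElem_mem hi
      obtain ⟨hLok, hLfix⟩ : ok (edgeGens.getD i []) = true ∧ img (edgeGens.getD i []) 0 = 0 := by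
        have := hgens _ hL
        simp only [fixL, Bool.and_eq_true, List.all_eq_true, Nat.beq_eq] at this
        exact ⟨this.1, this.2 0 (by simp)⟩
      obtain ⟨hv1, g, hg0, hg6⟩ := hv
      refine ⟨S.img_lt hLok hv1, (el (edgeGens.getD i []))⁻¹ * g, ?_, ?_⟩
      · rw [map_mul, Equiv.Perm.mul_apply, hg0, map_inv]
        exact Fin.ext ((S.phi_el _ hLok 0).trans hLfix)
      · rw [map_mul, Equiv.Perm.mul_apply, map_inv, S.phi_el _ hLok, hg6]
    · rw [List.getD_eq_default _ _ (Nat.le_of_not_lt hi), img_nil]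
      exact hv
  · intro v hv
    rw [bit_two_pow hv]
    exact ⟨by norm_num, 1, by simp, by simp [six]⟩

/-- An automorphism fixing the six points is inner. -/
theorem inner_of_six {t : MulAut G} (h : ∀ j < 6, S.sg t (s6 j) = s6 j) : ∃ g, MulAut.conj g = t := by
  obtain ⟨g, -, hg⟩ := S.chain_sound (U := fun _ => true) (R := com) ⊤ (fun _ => True)
    (fun _ _ _ _ => trivial) (fun _ _ _ _ => rfl) (fun y _ i j => S.com_sg y i j) sixChain six6 gpt
    (fun _ _ _ _ _ => Subgroup.mem_top _) six_chain_ok t trivial (fun x hx => by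
      obtain ⟨j, hj, rfl⟩ := List.getElem_of_mem hx
      have hj' : j < 6 := hj
      exact ⟨s6 j, by rw [← List.getD_eq_getElem _ 0 hj]; rfl, h j hj'⟩)
  refine ⟨g⁻¹, ?_⟩
  have h1 : MulAut.conj g * t = 1 := S.eq_one_of_sg fun k hk => by
    have hk' : gpt.getD k 0 ∈ gpt := by
      have : k < gpt.length := by simpa [gpt] using hk
      rw [List.getD_eq_getElem _ _ this]; exact List.getElem_mem this
    obtain ⟨i, hi, hfix⟩ := hg _ hk'
    rwa [show gpF k = i from Fin.ext hi.symm]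
  rw [map_inv]
  exact (eq_inv_of_mul_eq_one_right h1).symm

variable {π : MulAut G} (hπ : ∀ i : Fin N, ((S.sg π i : Fin N) : ℕ) = qv i)
include hπ

/-- Every outer involution is conjugate to one of the three representatives. -/
theorem classify {t : MulAut G} (ht : t * t = 1) (hn : ∀ g, MulAut.conj g ≠ t) : Concl π t := by
  obtain ⟨p, q, hne, hc, hpq⟩ := S.exists_fixed_pair ht
  obtain ⟨g, hgp, hgq⟩ := S.exists_to_pair hne hc
  refine concl_of_conj (MulAut.conj g) ?_
  have conj_inv : ∀ {t : MulAut G}, t * t = 1 → (∀ y, MulAut.conj y ≠ t) → ∀ g : G,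
      MulAut.conj g * t * (MulAut.conj g)⁻¹ * (MulAut.conj g * t * (MulAut.conj g)⁻¹) = 1 ∧
      ∀ y, MulAut.conj y ≠ MulAut.conj g * t * (MulAut.conj g)⁻¹ := by
    intro t ht hn g
    refine ⟨?_, fun y hy => hn (g⁻¹ * y * g) ?_⟩
    · calc _ = MulAut.conj g * (t * t) * (MulAut.conj g)⁻¹ := by group
        _ = 1 := by rw [ht]; group
    · rw [map_mul, map_mul, map_inv, hy]; group
  obtain ⟨ht1, hn1⟩ := conj_inv ht hn g
  set t1 := MulAut.conj g * t * (MulAut.conj g)⁻¹ with ht1def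
  have hb : ∀ a b : Fin N, S.sg t a = b → S.sg t1 (S.φ g a) = S.φ g b := fun a b h => by
    rw [ht1def, S.sg_conjugate, Equiv.Perm.inv_def, Equiv.symm_apply_apply, h]
  have hpair : (S.sg t1 0 = 0 ∧ S.sg t1 six = six) ∨ (S.sg t1 0 = six ∧ S.sg t1 six = 0) := by
    rw [← hgp, ← hgq]
    exact hpq.imp (fun h => ⟨hb _ _ h.1, hb _ _ h.2⟩) (fun h => ⟨hb _ _ h.1, hb _ _ h.2⟩)
  clear_value t1
  clear ht1def hb hpq hgp hgq hne hc p q ht hn t g
  -- the lines
  have hinv : ∀ i : Fin N, S.sg t1 (S.sg t1 i) = i := fun i => by rw [← S.sg_mul, ht1, S.sg_one]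
  have hboth : ∀ x : Fin N, inBoth x = true → inBoth (S.sg t1 x) = true := by
    intro x hx
    simp only [inBoth, Bool.and_eq_true, Bool.not_eq_true', ← Bool.not_eq_true, Nat.beq_eq] at hx ⊢
    obtain ⟨⟨⟨h1, h2⟩, h3⟩, h4⟩ := hx
    have e1 : com (S.sg t1 0 : Fin N) (S.sg t1 x : Fin N) = true := (S.com_sg t1 0 x).trans h1
    have e2 : com (S.sg t1 six : Fin N) (S.sg t1 x : Fin N) = true := (S.com_sg t1 six x).trans h2
    have e3 : S.sg t1 x ≠ S.sg t1 0 := fun e => h3 (congrArg Fin.val (S.sg_injective t1 e))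
    have e4 : S.sg t1 x ≠ S.sg t1 six := fun e => h4 (congrArg Fin.val (S.sg_injective t1 e))
    rcases hpair with ⟨u, v⟩ | ⟨u, v⟩
    · rw [u] at e1 e3; rw [v] at e2 e4
      exact ⟨⟨⟨e1, e2⟩, fun e => e3 (Fin.ext e)⟩, fun e => e4 (Fin.ext e)⟩
    · rw [u] at e1 e3; rw [v] at e2 e4
      exact ⟨⟨⟨e2, e1⟩, fun e => e4 (Fin.ext e)⟩, fun e => e3 (Fin.ext e)⟩
  have hcls : ∀ x y : Fin N, inBoth x = true → inBoth y = true →
      Fi22PairAut.cls x = Fi22PairAut.cls y →
      Fi22PairAut.cls (S.sg t1 x : Fin N) = Fi22PairAut.cls (S.sg t1 y : Fin N) := by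
    intro x y hx hy hxy
    have hlt : ∀ z : Fin N, inBoth z = true → Fi22PairAut.cls z < 45 := fun z hz => ((inBoth_iff z).1 hz).1
    have h := rows_ok
    simp only [rowsOK, List.all_eq_true, Bool.or_eq_true, List.any_eq_true, Nat.beq_eq] at h
    refine (h _ (List.mem_range.2 (hlt _ (hboth x hx))) _ (List.mem_range.2 (hlt _ (hboth y hy)))).resolve_right
      fun ⟨k, hk, hne⟩ => ?_
    obtain ⟨r, hr, rfl, -⟩ := exists_rep k (List.mem_range.1 hk)
    rw [← hinv r, ← adj_eq (hboth x hx) (hboth _ (hboth r hr)), ← adj_eq (hboth y hy) (hboth _ (hboth r hr)),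
      S.com_sg, S.com_sg, adj_eq hx (hboth r hr), adj_eq hy (hboth r hr), hxy] at hne
    simp at hne
  choose rep hrep hrepk hW hline using exists_rep
  let τ : Fin 45 → Fin 45 := fun k =>
    ⟨Fi22PairAut.cls (S.sg t1 (rep k k.2) : Fin N), ((inBoth_iff _).1 (hboth _ (hrep k k.2))).1⟩
  have hτ : Function.Involutive τ := fun k => Fin.ext (by
    show Fi22PairAut.cls (S.sg t1 (rep _ _) : Fin N) = k
    rw [hcls _ (S.sg t1 (rep k k.2)) (hrep _ _) (hboth _ (hrep _ _)) (hrepk _ _), hinv, hrepk])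
  haveI : _root_.Fact (Nat.Prime 2) := ⟨Nat.prime_two⟩
  obtain ⟨k, hk⟩ := Equiv.Perm.exists_fixed_point_of_prime (p := 2) (n := 1) (α := Fin 45) (by simp)
    (σ := hτ.toPerm τ) (Equiv.ext fun a => by rw [pow_one, pow_two, Equiv.Perm.mul_apply]; exact hτ a)
  have hk' : Fi22PairAut.cls (S.sg t1 (rep k k.2) : Fin N) = (k : ℕ) := congrArg Fin.val hk
  -- move the fixed line to the standard one
  set W := lineW.getD (k : ℕ) [] with hWdef
  obtain ⟨hWok, hW06⟩ : ok W = true ∧ ∀ z ∈ [0, 6], img W z = z := by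
    have := hW k k.2
    simp only [fixL, Bool.and_eq_true, List.all_eq_true, Nat.beq_eq] at this
    exact this
  refine concl_of_conj (MulAut.conj (el W)⁻¹) ?_
  obtain ⟨ht2, hn2⟩ := conj_inv ht1 hn1 (el W)⁻¹
  set t2 := MulAut.conj (el W)⁻¹ * t1 * (MulAut.conj (el W)⁻¹)⁻¹ with ht2def
  have hb : ∀ a : Fin N, S.sg t2 ((S.φ (el W))⁻¹ a) = (S.φ (el W))⁻¹ (S.sg t1 a) := fun a => by
    rw [ht2def, S.sg_conjugate, map_inv, inv_inv, Equiv.Perm.inv_def, Equiv.apply_symm_apply]
  have hW0 : (S.φ (el W))⁻¹ 0 = s6 0 := Fin.ext ((S.phi_el W hWok 0).trans (hW06 0 (by simp)))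
  have hW6 : (S.φ (el W))⁻¹ six = s6 1 := Fin.ext ((S.phi_el W hWok six).trans (hW06 6 (by simp)))
  have hp2 : (S.sg t2 (s6 0) = s6 0 ∧ S.sg t2 (s6 1) = s6 1) ∨
      (S.sg t2 (s6 0) = s6 1 ∧ S.sg t2 (s6 1) = s6 0) := by
    rw [← hW0, ← hW6, hb, hb]
    exact hpair.imp (fun h => by rw [h.1, h.2]; exact ⟨rfl, rfl⟩) (fun h => by rw [h.1, h.2]; exact ⟨rfl, rfl⟩)
  have hf : ∀ j : Fin 4, ∃ i : Fin 4, S.sg t2 (s6 (j + 2)) = s6 (i + 2) := by
    intro j
    have hin := line_is_both (j + 2) (by omega) (by omega)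
    set z := S.φ (el W) (s6 (j + 2)) with hz
    have hz' : (S.φ (el W))⁻¹ z = s6 (j + 2) := by rw [hz, Equiv.Perm.inv_def, Equiv.symm_apply_apply]
    have hzb : inBoth z = true := by
      have h1 : S.φ (el W) 0 = 0 := by
        have := hW0; rw [Equiv.Perm.inv_eq_iff_eq] at this; exact this.symm
      have h2 : S.φ (el W) six = six := by
        have := hW6; rw [Equiv.Perm.inv_eq_iff_eq] at this; exact this.symm
      have hj : inBoth (s6 (j + 2) : Fin N) = true := hin
      simp only [inBoth, Bool.and_eq_true, Bool.not_eq_true', ← Bool.not_eq_true, Nat.beq_eq] at hj ⊢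
      obtain ⟨⟨⟨a1, a2⟩, a3⟩, a4⟩ := hj
      refine ⟨⟨⟨?_, ?_⟩, fun e => a3 ?_⟩, fun e => a4 ?_⟩
      · have := S.com_map (el W) 0 (s6 (j + 2)); rw [h1] at this; exact this.trans a1
      · have := S.com_map (el W) six (s6 (j + 2)); rw [h2] at this; exact this.trans a2
      · exact congrArg Fin.val ((S.φ (el W)).injective ((Fin.ext e : z = 0).trans h1.symm))
      · exact congrArg Fin.val ((S.φ (el W)).injective ((Fin.ext e : z = six).trans h2.symm))
    have hzk : Fi22PairAut.cls z = (k : ℕ) := by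
      refine (hline k k.2 z hzb).2 ?_
      rw [← S.phi_el W hWok, hz']
      exact six_inLine _ (by omega) (by omega)
    have himg : inLine (img W ((S.sg t1 z : Fin N) : ℕ)) = true := by
      refine (hline k k.2 _ (hboth z hzb)).1 ?_
      rw [hcls z (rep k k.2) hzb (hrep _ _) (hzk.trans (hrepk _ _).symm), hk']
    obtain ⟨i, hi2, hi6, hi⟩ := inLine_six himg
    refine ⟨⟨i - 2, by omega⟩, ?_⟩
    rw [← hz', hb]
    refine Fin.ext ?_
    rw [S.phi_el W hWok, ← hi]
    show six6.getD i 0 = six6.getD (i - 2 + 2) 0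
    rw [Nat.sub_add_cancel hi2]
  clear_value t2
  clear ht2def hb hW0 hW6
  choose f hf using hf
  obtain ⟨a, ha0, ha1⟩ : ∃ a : Fin 2, S.sg t2 (s6 0) = s6 a ∧ S.sg t2 (s6 1) = s6 (1 - (a : ℕ)) :=
    hp2.elim (fun h => ⟨0, h⟩) (fun h => ⟨1, h⟩)
  set L := [(a : ℕ), 1 - a, f 0 + 2, f 1 + 2, f 2 + 2, f 3 + 2] with hL
  have hmov : ∀ i < 6, S.sg t2 (s6 i) = s6 (L.getD i 0) ∧ L.getD i 0 < 6 := by
    intro i hi
    have := a.2; have := (f 0).2; have := (f 1).2; have := (f 2).2; have := (f 3).2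
    interval_cases i
    · exact ⟨ha0, by simp [hL]; omega⟩
    · exact ⟨ha1, by simp [hL]; omega⟩
    · exact ⟨hf 0, by simp [hL]; omega⟩
    · exact ⟨hf 1, by simp [hL]; omega⟩
    · exact ⟨hf 2, by simp [hL]; omega⟩
    · exact ⟨hf 3, by simp [hL]; omega⟩
  have hinvL : ((List.range 6).all fun i => Nat.beq (L.getD (L.getD i 0) 0) i) = true := by
    rw [List.all_eq_true]
    intro i hi
    rw [List.mem_range] at hi
    obtain ⟨h1, h2⟩ := hmov i hi
    obtain ⟨h3, h4⟩ := hmov _ h2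
    rw [Nat.beq_eq]
    refine s6_inj h4 hi ?_
    rw [← h3, ← h1, ← S.sg_mul, ht2, S.sg_one]
  have hcase := cases_complete a (f 0) (f 1) (f 2) (f 3) hinvL
  rw [List.any_eq_true] at hcase
  obtain ⟨c, hc, hcL⟩ := hcase
  rw [List.all_eq_true] at hcL
  have hcm : ∀ i < 6, S.sg t2 (s6 i) = s6 (c.1.getD i 0) := fun i hi => by
    rw [(hmov i hi).1, Nat.eq_of_beq_eq_true (hcL i (List.mem_range.2 hi))]
  have hok := List.all_eq_true.1 cases_ok c hc
  unfold caseOK at hok
  cases h3 : Nat.beq c.2.1 3 with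
  | true =>
    rw [h3, cond_true, List.all_eq_true] at hok
    obtain ⟨y, hy⟩ := S.inner_of_six (t := t2) fun j hj => by
      rw [hcm j hj, Nat.eq_of_beq_eq_true (hok j (List.mem_range.2 hj))]
    exact absurd hy (hn2 y)
  | false =>
    rw [h3, cond_false] at hok
    simp only [Bool.and_eq_true, Nat.blt_eq, List.all_eq_true, List.any_eq_true, Nat.beq_eq] at hok
    obtain ⟨⟨hlt, hVok⟩, hst⟩ := hok
    refine concl_of_conj (MulAut.conj (el c.2.2)⁻¹) ?_
    obtain ⟨ht3, hn3⟩ := conj_inv ht2 hn2 (el c.2.2)⁻¹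
    have hs := steps_starts c.2.1 hlt
    rw [List.any_eq_true] at hs
    obtain ⟨nd, hnd, hP⟩ := hs
    refine S.tree_sound hπ tail0 tail0_ok nd hnd _ ht3 hn3 ?_
    rw [eqP_eq hP]
    intro e he
    obtain ⟨i, hi, h1, h2⟩ := hst e he
    rw [List.mem_range] at hi
    refine ⟨(S.φ (el c.2.2))⁻¹ (s6 i), (S.φ (el c.2.2))⁻¹ (s6 (c.1.getD i 0)), (S.phi_el _ hVok _).trans h1,
      (S.phi_el _ hVok _).trans h2, ?_⟩
    rw [S.sg_conjugate, map_inv, inv_inv, Equiv.Perm.inv_def, Equiv.apply_symm_apply, hcm i hi]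

end

end CfsgLib.Fi22Out.Act
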