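import Cfsg.Agent.Fi22OuterInv.SetData
import Cfsg.Agent.Fi22PairAut.Checks

/-!
Kernel checks for the normalisation of an outer involution of `Fi₂₂`.
-/

set_option autoImplicit false
set_option maxRecDepth 100000

namespace CfsgLib.Fi22OuterInv

open CfsgLib.CosetEnum CfsgLib.Fi22Out CfsgLib.Fi22Three

noncomputable section

/-- A point commuting with `0` and with `6`, other than these. -/
def inBoth (i : ℕ) : Bool := com 0 i && com 6 i && !(Nat.beq i 0) && !(Nat.beq i 6)

/-- The elements fixing `0` bring every neighbour of `0` to the point `6`. -/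
def edgeOK : Bool :=
  edgeGens.all (fun L => fixL L [0]) &&
    force (growO edgeGens edgeEnt (2 ^ 6)) fun K =>
      allR (fun i => bif Nat.blt i 3510 && inC i then bit K i else true) 12 0

/-- The standard line. -/
def inLine (i : ℕ) : Bool := Nat.beq i 40 || Nat.beq i 154 || Nat.beq i 3399 || Nat.beq i 3400

/-- A representative of a class and the word moving its line. -/
def lineOK (k : ℕ) : Bool :=
  force (lineRep.getD k 0) fun r => Nat.blt r 3510 && inBoth r && Nat.beq (Fi22PairAut.cls r) k &&
    fixL (lineW.getD k []) [0, 6] &&
      Fi22PairAut.pts.all fun x =>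
        inLine (img (lineW.getD k []) x) == Nat.beq (Fi22PairAut.cls x) k

/-- Different classes have different neighbours. -/
def rowsOK : Bool :=
  (List.range 45).all fun a => (List.range 45).all fun b =>
    Nat.beq a b || (List.range 45).any fun k => !(Fi22PairAut.adj a k == Fi22PairAut.adj b k)

/-- A start of the case analysis. -/
def startOf : ℕ → List (ℕ × ℕ)
  | 0 => startA
  | 1 => startB
  | _ => startC

/-- A case of the six points. -/
def caseOK (c : List ℕ × ℕ × List ℕ) : Bool :=
  bif Nat.beq c.2.1 3 then (List.range 6).all fun i => Nat.beq (c.1.getD i 0) i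
  else Nat.blt c.2.1 3 && ok c.2.2 && (startOf c.2.1).all fun e => (List.range 6).any fun i =>
    Nat.beq (img c.2.2 (six6.getD i 0)) e.1 && Nat.beq (img c.2.2 (six6.getD (c.1.getD i 0) 0)) e.2

theorem edge_ok : edgeOK = true := by decide +kernel
theorem line_ok : (List.range 45).all lineOK = true := by decide +kernel
theorem rows_ok : rowsOK = true := by decide +kernel
theorem cases_ok : sixCases.all caseOK = true := by decide +kernel

theorem six_chain_ok :
    chainFixOK (fun _ => true) com sixChain six6 gpt = true := by decide +kernel

theorem cases_complete : ∀ a : Fin 2, ∀ b c e f : Fin 4,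
    ((List.range 6).all fun i => Nat.beq
      ([(a : ℕ), 1 - a, b + 2, c + 2, e + 2, f + 2].getD ([(a : ℕ), 1 - a, b + 2, c + 2, e + 2, f + 2].getD i 0) 0) i) = true →
      (sixCases.any fun s => (List.range 6).all fun i =>
        Nat.beq (s.1.getD i 0) ([(a : ℕ), 1 - a, b + 2, c + 2, e + 2, f + 2].getD i 0)) = true := by
  decide +kernel

end

end CfsgLib.Fi22OuterInv
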