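import Cfsg.Agent.Fi22OuterInv.Classify
import Cfsg.Agent.Fi22OuterInv.CentABStructure

/-!
The outer involutions in any group of type M(22).
-/

set_option autoImplicit false
set_option maxRecDepth 100000

namespace CfsgLib.Fi22OuterInv

open Cfsg CfsgLib.CosetEnum CfsgLib.Fi22Out CfsgLib.Fi22Three CfsgLib.Fi22Orth

noncomputable section

/-- The classes of outer involutions and their centralisers. -/
theorem main {G : Type*} [Group G] [Finite G] {D : Set G} (h : IsThreeTranspositionGroup D)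
    (hp : IsPrimitiveUnderConj D) (h22 : IsOfTypeM22 G D) :
    ∃ (s : MulAut G) (a b : G) (Cs : Subgroup G), orderOf s = 2 ∧ s ∉ (MulAut.conj : G →* MulAut G).range ∧
      (∀ g : G, g ∈ Cs ↔ s g = g) ∧
      Nonempty (↥Cs ≃* MulAut (Cfsg.Omega (ZMod 2) (Cfsg.quadFormPlus 4 (ZMod 2)))) ∧
      a ∈ D ∧ b ∈ D ∧ a ≠ b ∧ Commute a b ∧ s a = a ∧ s b = b ∧
      (∀ t : MulAut G, orderOf t = 2 → t ∉ (MulAut.conj : G →* MulAut G).range →
        (IsConj t s ∨ IsConj t (s * MulAut.conj a) ∨ IsConj t (s * MulAut.conj (a * b)))) ∧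
      ¬ IsConj s (s * MulAut.conj a) ∧ ¬ IsConj s (s * MulAut.conj (a * b)) ∧
      ¬ IsConj (s * MulAut.conj a) (s * MulAut.conj (a * b)) ∧
      (∀ g : G, (s * MulAut.conj a) g = g ↔ g ∈ Cs ⊓ Subgroup.centralizer ({a} : Set G)) ∧
      Nonempty (↥(Cs ⊓ Subgroup.centralizer ({a} : Set G)) ≃* Multiplicative (ZMod 2) × Cfsg.PSp 3 (ZMod 2)) ∧
      ∃ Csab O : Subgroup G, (∀ g : G, g ∈ Csab ↔ (s * MulAut.conj (a * b)) g = g) ∧
        O = (Cfsg.pCore 2 ↥Csab).map Csab.subtype ∧ Cfsg.IsElementaryAbelian 2 O ∧ Nat.card O = 64 ∧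
        ∃ _ : (O.subgroupOf Csab).Normal, Nonempty (↥Csab ⧸ O.subgroupOf Csab ≃*
          Cfsg.isometryGroup (ZMod 2) (Cfsg.quadFormMinus 2 (ZMod 2) 1 1)) := by
  obtain ⟨F⟩ := exists_frame h hp h22
  obtain ⟨π, hπ2, hni, hπ⟩ := F.S.exists_invol
  set κ := MulAut.congr F.e with hκ
  have hκconj : ∀ y, κ (MulAut.conj y) = MulAut.conj (F.e y) := fun y => MulEquiv.ext fun g => by
    simp [hκ, MulAut.congr]
  have hκe : ∀ (α : MulAut Fi22Out.G) (y : Fi22Out.G), κ α (F.e y) = F.e (α y) := fun α y => by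
    simp [hκ, MulAut.congr]
  have ha : F.e (d 0) = F.pD 0 := by
    rw [Frame.pD, show pt 0 = (0 : Fin N) from Fin.ext (pt_val (by norm_num))]
  have hb : F.e (d six) = F.pD 6 := by
    rw [Frame.pD, show pt 6 = six from Fin.ext (pt_val (by norm_num))]
  set s := F.sAut π with hs
  have hsκ : s = κ π := rfl
  set a := F.pD 0 with hadef
  set b := F.pD 6 with hbdef
  have hta : s * MulAut.conj a = κ (tau π 1) := by
    rw [hsκ, ← ha, ← hκconj, ← map_mul]; rfl
  have htab : s * MulAut.conj (a * b) = κ (tau π 2) := by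
    rw [hsκ, ← ha, ← hb, ← map_mul, ← hκconj, ← map_mul]; rfl
  have hs_ni : s ∉ (MulAut.conj : G →* MulAut G).range := by
    rintro ⟨y, hy⟩
    refine hni (F.e.symm y) (κ.injective ?_)
    rw [hκconj, MulEquiv.apply_symm_apply, hy, hsκ]
  have hs2 : s * s = 1 := by rw [hsκ, ← map_mul, hπ2, map_one]
  have hs1 : s ≠ 1 := fun e => hs_ni (e ▸ one_mem _)
  haveI : _root_.Fact (Nat.Prime 2) := ⟨Nat.prime_two⟩
  refine ⟨s, a, b, fixedSub s, orderOf_eq_prime (by rw [pow_two, hs2]) hs1, hs_ni, fun g => Iff.rfl,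
    F.fixedSub_equiv hπ h hp h22, F.pD_mem 0, F.pD_mem 6, ?_, ?_, ?_, ?_, ?_, ?_⟩
  · intro e
    exact absurd (F.pD_inj (by norm_num) (by norm_num) e) (show (0 : ℕ) ≠ 6 by norm_num)
  · exact (F.commute_iff (by norm_num) (by norm_num)).2 base_fix.2.2
  · rw [hs, hadef, F.sAut_pD hπ (by norm_num), base_fix.1]
  · rw [hs, hbdef, F.sAut_pD hπ (by norm_num), base_fix.2.1]
  · intro t ht hni'
    obtain ⟨u, rfl⟩ := κ.surjective t
    have hu2 : u * u = 1 := κ.injective (by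
      rw [map_mul, map_one, ← pow_two, ← ht, pow_orderOf_eq_one])
    have hun : ∀ y, MulAut.conj y ≠ u := fun y e => hni' ⟨F.e y, by rw [← hκconj, e]⟩
    obtain ⟨i, hi, hc⟩ := F.S.classify hπ hu2 hun
    have hc' := κ.toMonoidHom.map_isConj hc
    interval_cases i
    · exact Or.inl (hsκ ▸ hc')
    · exact Or.inr (Or.inl (hta ▸ hc'))
    · exact Or.inr (Or.inr (htab ▸ hc'))
  obtain ⟨n1, n2, n3⟩ := F.S.three_not_isConj hπ
  have key : ∀ {x y : MulAut Fi22Out.G}, ¬ IsConj x y → ¬ IsConj (κ x) (κ y) := fun {x y} hxy hc => hxy (by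
    have := κ.symm.toMonoidHom.map_isConj hc
    simpa using this)
  refine ⟨by rw [hta, hsκ]; exact key n1, by rw [htab, hsκ]; exact key n2,
    by rw [hta, htab]; exact key n3, ?_⟩
  have hHA : fixedSub s ⊓ Subgroup.centralizer ({a} : Set G) = (HA π).map F.e.toMonoidHom := by
    ext g
    obtain ⟨y, rfl⟩ := F.e.surjective g
    rw [Subgroup.mem_map_equiv, MulEquiv.symm_apply_apply, mem_HA, Subgroup.mem_inf, mem_fixedSub,
      Subgroup.mem_centralizer_singleton_iff, hsκ, hκe, F.e.injective.eq_iff, ← ha, ← map_mul, ← map_mul,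
      F.e.injective.eq_iff]
    rfl
  refine ⟨fun g => ?_, ?_, ?_⟩
  · obtain ⟨y, rfl⟩ := F.e.surjective g
    rw [hta, hκe, F.e.injective.eq_iff, hHA, Subgroup.mem_map_equiv, MulEquiv.symm_apply_apply]
    exact F.S.fixed_pi_a_iff hπ y
  · obtain ⟨E⟩ := F.HA_equiv hπ h hp h22
    exact ⟨((MulEquiv.subgroupCongr hHA).trans (F.e.subgroupMap (HA π)).symm).trans E⟩
  -- the third group
  have hCB : (CB π).map F.e.toMonoidHom = fixedSub (s * MulAut.conj (a * b)) := by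
    ext g
    obtain ⟨y, rfl⟩ := F.e.surjective g
    rw [Subgroup.mem_map_equiv, MulEquiv.symm_apply_apply, CB, mem_fixedSub, mem_fixedSub, htab, hκe,
      F.e.injective.eq_iff]
  set C := fixedSub (s * MulAut.conj (a * b)) with hC
  let ε : ↥(CB π) ≃* ↥C := (F.e.subgroupMap (CB π)).trans (MulEquiv.subgroupCongr hCB)
  obtain ⟨hEA, hcard, f, hf, hker⟩ := F.S.CB_structure hπ hni
  have hp2 : Cfsg.pCore 2 ↥C = (Cfsg.pCore 2 ↥(CB π)).map ε.toMonoidHom :=
    (ThompsonWielandt.map_pCore_equiv 2 ε).symm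
  have hsub : ((Cfsg.pCore 2 ↥C).map C.subtype).subgroupOf C = Cfsg.pCore 2 ↥C :=
    Subgroup.comap_map_eq_self_of_injective C.subtype_injective _
  refine ⟨C, (Cfsg.pCore 2 ↥C).map C.subtype, fun g => Iff.rfl, rfl, ?_, ?_, ?_, ?_⟩
  · obtain ⟨hcomm, hsq⟩ := hEA
    refine ⟨⟨⟨?_⟩⟩, ?_⟩
    · rintro ⟨_, ⟨x, hx, rfl⟩⟩ ⟨_, ⟨y, hy, rfl⟩⟩
      rw [hp2] at hx hy
      obtain ⟨x', hx', rfl⟩ := hx
      obtain ⟨y', hy', rfl⟩ := hy
      refine Subtype.ext ?_
      have := congrArg (fun z : ↥(Cfsg.pCore 2 ↥(CB π)) => ((ε (z : ↥(CB π)) : ↥C) : G))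
        (hcomm.is_comm.comm ⟨x', hx'⟩ ⟨y', hy'⟩)
      simpa using this
    · rintro _ ⟨x, hx, rfl⟩
      rw [hp2] at hx
      obtain ⟨x', hx', rfl⟩ := hx
      rw [← map_pow, ← map_pow, hsq x' hx', map_one, map_one]
  · rw [Subgroup.card_map_of_injective C.subtype_injective, hp2,
      Subgroup.card_map_of_injective ε.injective, hcard]
  · rw [hsub]; exact LocalStructure.pCore_normal
  · let g := f.comp ε.symm.toMonoidHom
    have hgs : Function.Surjective g := hf.comp ε.symm.surjective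
    have hgk : ((Cfsg.pCore 2 ↥C).map C.subtype).subgroupOf C = g.ker := by
      rw [hsub, hp2, ← hker]
      ext z
      obtain ⟨z', rfl⟩ := ε.surjective z
      simp [g, MonoidHom.mem_ker]
    haveI : (((Cfsg.pCore 2 ↥C).map C.subtype).subgroupOf C).Normal := hgk ▸ g.normal_ker
    exact ⟨(QuotientGroup.quotientMulEquivOfEq hgk).trans (QuotientGroup.quotientKerEquivOfSurjective g hgs)⟩

end

end CfsgLib.Fi22OuterInv
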