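import Cfsg.Agent.Fi22OuterInv.Basic

/-!
Certificates for the conjugacy classes of outer involutions of `Fi₂₂`: what an involution does on a
growing list of transpositions, up to conjugation by elements fixing the list.
-/

set_option autoImplicit false
set_option maxRecDepth 100000

namespace CfsgLib.Fi22OuterInv

open CfsgLib.CosetEnum CfsgLib.Fi22Out CfsgLib.Fi22Three

noncomputable section

/-- Lists of points with their images. -/
abbrev Pairs : Type := List (ℕ × ℕ)

/-- New pairs from reflecting known points in known points. -/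
def derive : List (ℕ × ℕ) → Pairs → Pairs
  | [], P => P
  | (i, j) :: s, P =>
    bif Nat.blt i P.length && Nat.blt j P.length then
      force (mv (P.getD i (0, 0)).1 (P.getD j (0, 0)).1) fun a =>
        force (mv (P.getD i (0, 0)).2 (P.getD j (0, 0)).2) fun b => derive s ((a, b) :: P)
    else derive s P

/-- Equality of lists of pairs. -/
def eqP : Pairs → Pairs → Bool
  | [], [] => true
  | (a, b) :: P, (c, e) :: Q => Nat.beq a c && Nat.beq b e && eqP P Q
  | _, _ => false

theorem eqP_eq : ∀ {P Q : Pairs}, eqP P Q = true → P = Q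
  | [], [], _ => rfl
  | [], _ :: _, h => by simp [eqP] at h
  | _ :: _, [], h => by simp [eqP] at h
  | (a, b) :: P, (c, e) :: Q, h => by
    simp only [eqP, Bool.and_eq_true, Nat.beq_eq] at h
    rw [h.1.1, h.1.2, eqP_eq h.2]

/-- A pair is listed. -/
def hasP (P : Pairs) (a b : ℕ) : Bool := P.any fun e => Nat.beq e.1 a && Nat.beq e.2 b

theorem hasP_mem {P : Pairs} {a b : ℕ} (h : hasP P a b = true) : (a, b) ∈ P := by
  simp only [hasP, List.any_eq_true, Bool.and_eq_true, Nat.beq_eq] at h
  obtain ⟨e, he, rfl, rfl⟩ := h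
  exact he

/-- What closes a branch. -/
inductive Kind where
  /-- A later node. -/
  | child
  /-- A conjugate of one of the three involutions. -/
  | target (i : ℕ) (V : List ℕ)
  /-- An inner automorphism. -/
  | inner (W : List ℕ)
  /-- No automorphism. -/
  | conflict

/-- A step of the case analysis. -/
structure Step where
  /-- The known pairs. -/
  P : Pairs
  /-- The pairs restricting the images of the next point. -/
  sel : Pairs
  /-- The next point. -/
  c : ℕ
  /-- Elements fixing the pairs and the point. -/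
  gens : List (List ℕ)
  /-- Orbit steps. -/
  ent : List (ℕ × ℕ)
  /-- Representatives of the images of the point, with derived pairs. -/
  edges : List (ℕ × List (ℕ × ℕ) × Kind)

/-- A possible image of the next point. -/
def candT (P : Pairs) (c i : ℕ) : Bool :=
  P.all fun e => (com e.2 i == com e.1 c) && (Nat.beq e.2 i == Nat.beq e.1 c)

/-- Grow a set by generators. -/
def growO (gens : List (List ℕ)) : List (ℕ × ℕ) → ℕ → ℕ
  | [], K => K
  | (g, v) :: s, K =>
    bif bit K v then force (img (gens.getD g []) v) fun w => force (Nat.lor K (2 ^ w)) fun K' => growO gens s K'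
    else growO gens s K

/-- The set of a list. -/
def setL : List ℕ → ℕ
  | [] => 0
  | p :: L => Nat.lor (2 ^ p) (setL L)

/-- An element fixes a list of points. -/
def fixL (L : List ℕ) (pts : List ℕ) : Bool := ok L && pts.all fun x => Nat.beq (img L x) x

/-- The generators are valid. -/
def genFixOK (nd : Step) : Bool :=
  nd.gens.all fun L => fixL L (nd.c :: nd.P.map Prod.fst ++ nd.P.map Prod.snd)

/-- The orbits cover the candidates. -/
def covOK (nd : Step) : Bool :=
  force (growO nd.gens nd.ent (setL (nd.edges.map Prod.fst))) fun K =>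
    allR (fun i => bif Nat.blt i 3510 && candT nd.sel nd.c i then bit K i else true) 12 0

/-- A branch is closed. -/
def closeOK (rest : List Step) (Q : Pairs) : Kind → Bool
  | .child => rest.any fun m => eqP m.P Q
  | .target i V => Nat.blt i 3 && ok V && gpt.all fun k => hasP Q k (img V.reverse (tgt i (img V k)))
  | .inner W => ok W && gpt.all fun k => hasP Q k (img W k)
  | .conflict => Q.any fun e => Q.any fun f => Nat.beq e.1 f.1 && !(Nat.beq e.2 f.2)

/-- A node is valid. -/
def nodeOK (nd : Step) (rest : List Step) : Bool :=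
  Nat.blt nd.c 3510 && genFixOK nd && covOK nd && nd.sel.all (fun e => hasP nd.P e.1 e.2) && nd.edges.all (fun e => Nat.blt e.1 3510) &&
    nd.edges.all fun e => closeOK rest (derive e.2.1 ((e.1, nd.c) :: (nd.c, e.1) :: nd.P)) e.2.2

/-- All nodes are valid, children being later. -/
def allNodes : List Step → Bool
  | [] => true
  | nd :: rest => nodeOK nd rest && allNodes rest

/-- The three representatives. -/
def tau (π : MulAut G) : ℕ → MulAut G
  | 0 => π
  | 1 => π * MulAut.conj (d 0)
  | _ => π * MulAut.conj (d 0 * d six)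

/-- The conclusion. -/
def Concl (π t : MulAut G) : Prop := ∃ i, i < 3 ∧ IsConj t (tau π i)

theorem concl_of_conj {π t : MulAut G} (c : MulAut G) (h : Concl π (c * t * c⁻¹)) : Concl π t := by
  obtain ⟨i, hi, hc⟩ := h
  exact ⟨i, hi, (isConj_iff.2 ⟨c, rfl⟩).trans hc⟩

theorem bit_lor2 (a b i : ℕ) : bit (Nat.lor a b) i = (bit a i || bit b i) := by
  simp only [bit_eq]
  exact Nat.testBit_lor a b i

theorem bit_two_pow {a i : ℕ} (h : bit (2 ^ a) i = true) : i = a := by
  rw [bit_eq, Nat.testBit_two_pow, decide_eq_true_eq] at h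
  exact h.symm

theorem mem_of_bit_setL : ∀ {L : List ℕ} {i : ℕ}, bit (setL L) i = true → i ∈ L
  | [], i, h => by simp [setL, bit_eq] at h
  | p :: L, i, h => by
    rw [setL, bit_lor2, Bool.or_eq_true] at h
    rcases h with h | h
    · exact bit_two_pow h ▸ List.mem_cons_self
    · exact List.mem_cons_of_mem _ (mem_of_bit_setL h)

theorem growO_ind {gens : List (List ℕ)} {p : ℕ → Prop}
    (hstep : ∀ g v, p v → p (img (gens.getD g []) v)) :
    ∀ (s : List (ℕ × ℕ)) (K : ℕ), (∀ i, bit K i = true → p i) → ∀ i, bit (growO gens s K) i = true → p i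
  | [], _, hK, i, hi => hK i hi
  | (g, v) :: s, K, hK, i, hi => by
    unfold growO at hi
    cases hb : bit K v with
    | false => rw [hb, cond_false] at hi; exact growO_ind hstep s K hK i hi
    | true =>
      rw [hb, cond_true, force_eq, force_eq] at hi
      refine growO_ind hstep s _ (fun j hj => ?_) i hi
      rw [bit_lor2, Bool.or_eq_true] at hj
      rcases hj with hj | hj
      · exact hK j hj
      · exact bit_two_pow hj ▸ hstep g v (hK v hb)

end

end CfsgLib.Fi22OuterInv

namespace CfsgLib.Fi22Out.Act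

open CfsgLib.CosetEnum CfsgLib.Fi22Three CfsgLib.Fi22OuterInv

noncomputable section

variable (S : Act)
include S

/-- The automorphism maps the listed points to their images. -/
def Maps (t : MulAut G) (P : Pairs) : Prop :=
  ∀ e ∈ P, ∃ i j : Fin N, (i : ℕ) = e.1 ∧ (j : ℕ) = e.2 ∧ S.sg t i = j

theorem maps_derive {t : MulAut G} : ∀ (s : List (ℕ × ℕ)) (P : Pairs), S.Maps t P → S.Maps t (derive s P)
  | [], _, h => h
  | (i, j) :: s, P, h => by
    unfold derive
    cases hb : (Nat.blt i P.length && Nat.blt j P.length) with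
    | false => rw [cond_false]; exact maps_derive s P h
    | true =>
      rw [cond_true, force_eq, force_eq]
      simp only [Bool.and_eq_true, Nat.blt_eq] at hb
      have hi : P.getD i (0, 0) ∈ P := by rw [List.getD_eq_getElem _ _ hb.1]; exact List.getElem_mem _
      have hj : P.getD j (0, 0) ∈ P := by rw [List.getD_eq_getElem _ _ hb.2]; exact List.getElem_mem _
      obtain ⟨a, b, ha, hb', hab⟩ := h _ hi
      obtain ⟨x, y, hx, hy, hxy⟩ := h _ hj
      refine maps_derive s _ fun e he => ?_
      rcases List.mem_cons.1 he with rfl | he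
      · refine ⟨S.φ (d a) x, S.φ (d b) y, ?_, ?_, ?_⟩
        · rw [S.phi_d, ha, hx]
        · rw [S.phi_d, hb', hy]
        · refine Fin.ext ?_
          rw [S.sg_mv, hab, hxy, S.phi_d]
      · exact h e he

/-- An element given by a list moves the points as computed. -/
theorem phi_el_rev {V : List ℕ} (hV : ok V = true) (i : Fin N) :
    ((S.φ (el V) i : Fin N) : ℕ) = img V.reverse i := by
  have h := S.phi_el V.reverse (ok_reverse.trans hV) i
  rw [el_reverse, map_inv, inv_inv] at h
  exact h

variable {π : MulAut G} (hπ : ∀ i : Fin N, ((S.sg π i : Fin N) : ℕ) = qv i)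
include hπ

theorem sg_tau : ∀ (k : ℕ) (i : Fin N), ((S.sg (tau π k) i : Fin N) : ℕ) = tgt k i
  | 0, i => hπ i
  | 1, i => S.sg_pi_a hπ i
  | _ + 2, i => S.sg_pi_ab hπ i

/-- A valid branch is closed. -/
theorem close_sound {rest : List Step} (ih : ∀ m ∈ rest, ∀ t : MulAut G, t * t = 1 →
      (∀ g, MulAut.conj g ≠ t) → S.Maps t m.P → Concl π t)
    {t : MulAut G} (ht : t * t = 1) (hn : ∀ g, MulAut.conj g ≠ t) {Q : Pairs} (hQ : S.Maps t Q) :
    ∀ k : Kind, closeOK rest Q k = true → Concl π t
  | .child, h => by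
    simp only [closeOK, List.any_eq_true] at h
    obtain ⟨m, hm, hP⟩ := h
    exact ih m hm t ht hn (eqP_eq hP ▸ hQ)
  | .target i V, h => by
    simp only [closeOK, Bool.and_eq_true, Nat.blt_eq, List.all_eq_true] at h
    obtain ⟨⟨hi, hV⟩, hg⟩ := h
    have ht' : t = MulAut.conj (el V) * tau π i * (MulAut.conj (el V))⁻¹ := by
      refine S.aut_ext fun k hk => Fin.ext ?_
      have hk' : gpt.getD k 0 ∈ gpt := by
        have : k < gpt.length := by simpa [gpt] using hk
        rw [List.getD_eq_getElem _ _ this]; exact List.getElem_mem this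
      obtain ⟨a, b, ha, hb, hab⟩ := hQ _ (hasP_mem (hg _ hk'))
      rw [show gpF k = a from Fin.ext ha.symm, hab, hb, S.sg_conjugate, S.phi_el_rev hV,
        S.sg_tau hπ, S.phi_el V hV, ha]
    exact ⟨i, hi, (isConj_iff.2 ⟨MulAut.conj (el V), ht'.symm⟩).symm⟩
  | .inner W, h => by
    simp only [closeOK, Bool.and_eq_true, List.all_eq_true] at h
    obtain ⟨hW, hg⟩ := h
    refine absurd (S.aut_ext fun k hk => Fin.ext ?_) (hn (el W.reverse))
    have hk' : gpt.getD k 0 ∈ gpt := by
      have : k < gpt.length := by simpa [gpt] using hk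
      rw [List.getD_eq_getElem _ _ this]; exact List.getElem_mem this
    obtain ⟨a, b, ha, hb, hab⟩ := hQ _ (hasP_mem (hg _ hk'))
    rw [show gpF k = a from Fin.ext ha.symm, hab, hb, S.sg_conj, el_reverse, map_inv, S.phi_el W hW, ha]
  | .conflict, h => by
    simp only [closeOK, List.any_eq_true, Bool.and_eq_true, Nat.beq_eq, Bool.not_eq_true'] at h
    obtain ⟨e, he, f, hf, h1, h2⟩ := h
    obtain ⟨a, b, ha, hb, hab⟩ := hQ e he
    obtain ⟨x, y, hx, hy, hxy⟩ := hQ f hf
    have hax : a = x := Fin.ext (by rw [ha, hx, h1])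
    rw [← hb, ← hy, ← hab, ← hxy, hax] at h2
    simp at h2

/-- Every node of a valid list is conclusive. -/
theorem tree_sound : ∀ L : List Step, allNodes L = true → ∀ nd ∈ L, ∀ t : MulAut G, t * t = 1 →
    (∀ g, MulAut.conj g ≠ t) → S.Maps t nd.P → Concl π t
  | [], _, nd, hnd => by simp at hnd
  | n₀ :: rest, h, nd, hnd => by
    simp only [allNodes, Bool.and_eq_true] at h
    have ih := tree_sound rest h.2
    rcases List.mem_cons.1 hnd with rfl | hnd
    swap
    · exact ih nd hnd
    intro t ht hn hM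
    simp only [nodeOK, Bool.and_eq_true, Nat.blt_eq, List.all_eq_true] at h
    obtain ⟨⟨⟨⟨⟨⟨hc, hgens⟩, hcov⟩, hsel⟩, hroot⟩, hedge⟩, -⟩ := h
    simp only [genFixOK, List.all_eq_true] at hgens
    let x : Fin N := S.sg t ⟨nd.c, hc⟩
    have hcand : candT nd.sel nd.c x = true := by
      simp only [candT, List.all_eq_true, Bool.and_eq_true, beq_iff_eq]
      intro e he
      obtain ⟨a, b, ha, hb, hab⟩ := hM e (hasP_mem (hsel e he))
      refine ⟨?_, ?_⟩
      · rw [← ha, ← hb, ← hab, S.com_sg]
      · rw [← ha, ← hb, ← hab, Bool.eq_iff_iff, Nat.beq_eq, Nat.beq_eq, Fin.val_inj,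
          (S.sg_injective t).eq_iff, ← Fin.val_inj]
    simp only [covOK, force_eq] at hcov
    have hx := allR_spec 12 0 hcov x (Nat.zero_le _) (by have := lt_of_pt x; omega)
    rw [hcand, show Nat.blt (x : ℕ) 3510 = true by simpa using lt_of_pt x, Bool.and_self, cond_true] at hx
    let pts := nd.c :: nd.P.map Prod.fst ++ nd.P.map Prod.snd
    have hp : ∃ g : G, ∃ q : Fin N, (q : ℕ) ∈ nd.edges.map Prod.fst ∧
        (∀ z : Fin N, (z : ℕ) ∈ pts → S.φ g z = z) ∧ S.φ g q = x := by
      have key := growO_ind (p := fun v => v < 3510 ∧ ∃ g : G, ∃ q : Fin N,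
          (q : ℕ) ∈ nd.edges.map Prod.fst ∧ (∀ z : Fin N, (z : ℕ) ∈ pts → S.φ g z = z) ∧
            ((S.φ g q : Fin N) : ℕ) = v) (gens := nd.gens) ?_ nd.ent _ ?_ x hx
      · obtain ⟨-, g, q, h1, h2, h3⟩ := key
        exact ⟨g, q, h1, h2, Fin.ext h3⟩
      · intro i v hv
        by_cases hi : i < nd.gens.length
        · have hL : nd.gens.getD i [] ∈ nd.gens := by rw [List.getD_eq_getElem _ _ hi]; exact List.getElem_mem hi
          obtain ⟨hLok, hLfix⟩ : ok (nd.gens.getD i []) = true ∧ ∀ z ∈ pts, img (nd.gens.getD i []) z = z := by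
            have := hgens _ hL
            simp only [fixL, Bool.and_eq_true, List.all_eq_true, Nat.beq_eq] at this
            exact this
          obtain ⟨hlt, g, q, h1, h2, h3⟩ := hv
          refine ⟨S.img_lt hLok hlt, (el (nd.gens.getD i []))⁻¹ * g, q, h1, fun z hz => ?_, ?_⟩
          · rw [map_mul, Equiv.Perm.mul_apply, h2 z hz, map_inv]
            exact Fin.ext ((S.phi_el _ hLok z).trans (hLfix _ hz))
          · rw [map_mul, Equiv.Perm.mul_apply, map_inv, S.phi_el _ hLok, h3]
        · rw [List.getD_eq_default _ _ (Nat.le_of_not_lt hi), img_nil]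
          exact hv
      · intro v hv
        have hm := mem_of_bit_setL hv
        obtain ⟨e, he, rfl⟩ := List.mem_map.1 hm
        exact ⟨hroot e he, 1, ⟨e.1, hroot e he⟩, hm, fun z _ => by simp, by simp⟩
    obtain ⟨g, q, hq, hfix, hgq⟩ := hp
    obtain ⟨⟨q', s, k⟩, he, hq'⟩ := List.mem_map.1 hq
    refine concl_of_conj (MulAut.conj g⁻¹) ?_
    set t' := MulAut.conj g⁻¹ * t * (MulAut.conj g⁻¹)⁻¹ with ht'
    have ht2 : t' * t' = 1 := by
      rw [ht']
      calc _ = MulAut.conj g⁻¹ * (t * t) * (MulAut.conj g⁻¹)⁻¹ := by group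
        _ = 1 := by rw [ht]; group
    have hn' : ∀ y, MulAut.conj y ≠ t' := fun y hy => hn (g * y * g⁻¹) (by
      rw [map_mul, map_mul, hy, ht', map_inv MulAut.conj g, inv_inv]
      group)
    have hfix' : ∀ z : Fin N, (z : ℕ) ∈ pts → (S.φ g)⁻¹ z = z := fun z hz => by
      rw [Equiv.Perm.inv_eq_iff_eq, hfix z hz]
    have hsg : ∀ z : Fin N, S.sg t' z = (S.φ g)⁻¹ (S.sg t (S.φ g z)) := fun z => by
      rw [ht', S.sg_conjugate, map_inv, inv_inv]
    have h1 : S.sg t' ⟨nd.c, hc⟩ = q := by
      rw [hsg, hfix ⟨nd.c, hc⟩ List.mem_cons_self]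
      show (S.φ g)⁻¹ x = q
      rw [← hgq]
      simp
    refine S.close_sound hπ ih ht2 hn' (S.maps_derive s _ ?_) k (hedge _ he)
    intro e he'
    rcases List.mem_cons.1 he' with rfl | he'
    · refine ⟨q, ⟨nd.c, hc⟩, hq'.symm, rfl, ?_⟩
      rw [← h1, ← S.sg_mul, ht2, S.sg_one]
    rcases List.mem_cons.1 he' with rfl | he'
    · exact ⟨⟨nd.c, hc⟩, q, rfl, hq'.symm, h1⟩
    obtain ⟨a, b, ha, hb, hab⟩ := hM e he'
    refine ⟨a, b, ha, hb, ?_⟩
    rw [hsg, hfix a, hab, hfix' b]
    · simp only [pts, List.mem_cons, List.mem_append, List.mem_map]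
      exact Or.inr ⟨e, he', hb.symm⟩
    · simp only [pts, List.mem_cons, List.mem_append, List.mem_map]
      exact Or.inl (Or.inr ⟨e, he', ha.symm⟩)

end

end CfsgLib.Fi22Out.Act
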