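import Cfsg.Agent.Fi22OuterInv.TreeData

/-!
Kernel checks of the certificate, part 0.
-/

set_option autoImplicit false
set_option maxRecDepth 100000

namespace CfsgLib.Fi22OuterInv

noncomputable section

theorem step0_ok : nodeOK step0 tail1 = true := by decide +kernel

theorem step1_ok : nodeOK step1 tail2 = true := by decide +kernel

theorem step2_ok : nodeOK step2 tail3 = true := by decide +kernel

theorem step3_ok : nodeOK step3 tail4 = true := by decide +kernel

theorem step4_ok : nodeOK step4 tail5 = true := by decide +kernel

theorem step5_ok : nodeOK step5 tail6 = true := by decide +kernel

theorem step6_ok : nodeOK step6 tail7 = true := by decide +kernel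

theorem step7_ok : nodeOK step7 tail8 = true := by decide +kernel

end

end CfsgLib.Fi22OuterInv
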