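import Cfsg.Agent.Fi22OuterInv.Tree

/-!
Data of the certificate for the classes of outer involutions of `Fi₂₂`.
-/

set_option autoImplicit false
set_option maxRecDepth 100000

namespace CfsgLib.Fi22OuterInv

noncomputable section

/-- A step. -/
def step0 : Step where
  P := [(0, 0), (6, 6), (40, 40), (154, 154), (3399, 3400), (3400, 3399)]
  sel := [(6, 6), (3399, 3400), (0, 0)]
  c := 150
  gens := [[43], [47], [66], [427]]
  ent := [(1, 195), (3, 195), (1, 212), (3, 212), (1, 241), (3, 241), (1, 245), (3, 245), (2, 630), (3, 630),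
  (2, 1197), (2, 668), (3, 668), (2, 1385), (2, 667), (3, 667), (2, 1372), (2, 788), (3, 788), (2,
  1012), (0, 536), (3, 536), (2, 2207), (0, 879), (1, 879), (0, 421), (3, 421), (2, 1976), (0,
  1063), (1, 1063), (0, 420), (3, 420), (2, 2465), (0, 1066), (1, 1066), (0, 661), (3, 661), (2,
  2463), (0, 1067), (1, 1067), (3, 672), (2, 2274), (0, 2729), (1, 2729), (1, 1068), (3, 532), (2,
  2117), (0, 2483), (1, 2483), (1, 1268), (3, 531), (2, 2042), (0, 2978), (1, 2978), (1, 1271), (3,
  812), (2, 2024), (0, 2977), (1, 2977), (1, 1190), (2, 2522), (0, 2562), (1, 2562), (1, 2466), (2,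
  2119), (2, 2282), (0, 2774), (1, 2774), (1, 2223), (2, 2303), (2, 2266), (0, 2306), (1, 2306), (1,
  2728), (2, 2360), (2, 2275), (0, 2760), (1, 2760), (1, 2727), (2, 2260), (0, 2305), (1, 2305), (1,
  2783), (2, 2361), (3, 2280), (0, 2514), (1, 2514), (1, 2539), (2, 2561), (3, 2116), (0, 2052), (1,
  2052), (1, 2523), (2, 2607), (3, 2516), (0, 2501), (1, 2501), (1, 2530), (2, 2515), (3, 2028), (1,
  2061), (2, 2998), (3, 2115), (1, 2259), (2, 3190), (3, 1891), (1, 1830), (2, 2745), (3, 2262), (1,
  2246), (2, 2748), (3, 1892), (2, 1471), (3, 2479), (2, 1270), (3, 2726), (2, 1267), (3, 2220), (2,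
  1266), (3, 2222), (3, 1368), (3, 1183), (3, 1193), (3, 1555)]
  edges := [
    (195, [(1, 7), (1, 7), (3, 7), (3, 8), (5, 8), (5, 9), (7, 8), (7, 9), (8, 9), (14, 8), (14, 9),
  (13, 10), (12, 11), (18, 11), (18, 12), (17, 13), (17, 14), (17, 14), (19, 14), (19, 14), (21,
  14), (26, 12), (26, 13), (23, 13), (24, 13), (31, 12), (31, 13), (31, 14), (29, 14), (30, 14),
  (36, 12), (33, 13)], .child),
    (212, [(1, 7), (1, 7), (3, 7), (3, 8), (5, 8), (5, 9), (7, 8), (7, 9), (13, 7), (13, 8), (12, 9),
  (16, 9), (16, 10), (15, 11), (14, 11), (15, 10), (16, 9), (17, 8), (18, 8), (19, 8), (21, 8), (22,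
  8), (23, 8), (27, 8), (26, 9), (30, 9), (28, 10), (32, 10), (32, 11), (35, 11), (34, 12), (33,
  13)], .child),
    (241, [(1, 7), (1, 7), (3, 7), (3, 8), (5, 8), (5, 9), (7, 8), (7, 9), (8, 9), (14, 8), (14, 9),
  (13, 10), (12, 11), (18, 11), (18, 12), (17, 13), (17, 14), (17, 12), (19, 12), (19, 12), (21,
  12), (25, 12), (24, 13), (23, 12), (24, 12), (31, 12), (30, 13), (29, 14), (29, 13), (30, 13),
  (36, 12), (36, 13)], .child),
    (245, [(1, 7), (1, 7), (3, 7), (3, 8), (5, 8), (5, 9), (7, 8), (7, 9), (8, 9), (14, 8), (14, 9),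
  (13, 10), (12, 11), (18, 11), (18, 12), (17, 13), (17, 14), (17, 14), (19, 14), (19, 12), (21,
  12), (26, 12), (24, 13), (23, 13), (24, 12), (31, 12), (31, 13), (29, 14), (29, 14), (30, 13),
  (36, 12), (35, 13)], .child)]

/-- A step. -/
def step1 : Step where
  P := [(411, 323), (290, 368), (469, 366), (242, 307), (3283, 3280), (3280, 3283), (120, 120), (366, 469),
  (307, 242), (88, 88), (89, 89), (153, 119), (119, 153), (287, 365), (365, 287), (3217, 3103),
  (306, 227), (265, 204), (263, 210), (3103, 3217), (227, 306), (204, 265), (210, 263), (62, 62),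
  (212, 168), (168, 212), (241, 191), (191, 241), (245, 180), (180, 245), (333, 256), (256, 333),
  (195, 150), (150, 195), (0, 0), (6, 6), (40, 40), (154, 154), (3399, 3400), (3400, 3399)]
  sel := [(120, 120), (88, 88), (287, 365), (89, 89), (411, 323)]
  c := 1
  gens := []
  ent := []
  edges := [
    (1, [(15, 41), (14, 42), (6, 43), (6, 44), (4, 45), (19, 45), (15, 46), (7, 47), (8, 45), (9, 45),
  (10, 43), (11, 43), (12, 39), (13, 39)], .child),
    (3, [(15, 41), (14, 42), (6, 43), (6, 44), (5, 45), (5, 46), (20, 46), (16, 47), (9, 48), (9, 49),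
  (11, 46), (11, 47), (13, 45), (13, 46)], .child)]

/-- A step. -/
def step2 : Step where
  P := [(244, 187), (187, 244), (381, 277), (277, 381), (2, 2), (3, 3), (3165, 3096), (170, 135), (598,
  470), (3096, 3165), (323, 411), (135, 170), (470, 598), (368, 290), (1, 1), (1, 1), (411, 323),
  (290, 368), (469, 366), (242, 307), (3283, 3280), (3280, 3283), (120, 120), (366, 469), (307,
  242), (88, 88), (89, 89), (153, 119), (119, 153), (287, 365), (365, 287), (3217, 3103), (306,
  227), (265, 204), (263, 210), (3103, 3217), (227, 306), (204, 265), (210, 263), (62, 62), (212,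
  168), (168, 212), (241, 191), (191, 241), (245, 180), (180, 245), (333, 256), (256, 333), (195,
  150), (150, 195), (0, 0), (6, 6), (40, 40), (154, 154), (3399, 3400), (3400, 3399)]
  sel := [(244, 187), (2, 2), (598, 470), (135, 170), (170, 135), (381, 277)]
  c := 5
  gens := [[92]]
  ent := [(0, 1118)]
  edges := [
    (1118, [(1, 7), (2, 58), (53, 0), (3, 0), (37, 0), (6, 0), (6, 4), (57, 0), (46, 0), (9, 0)],
  .target 1 [279, 5, 1580, 10, 183, 26, 539, 40, 472, 154, 92]),
    (1345, [(8, 57), (8, 58), (8, 59), (7, 60), (6, 61), (6, 62), (6, 63), (12, 63), (11, 64), (10, 65),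
  (10, 66), (16, 66)], .child)]

/-- A step. -/
def step3 : Step where
  P := [(236, 299), (817, 2226), (2634, 518), (350, 490), (235, 309), (518, 2634), (2226, 817), (490, 350),
  (309, 235), (3273, 3277), (3277, 3273), (4, 4), (1345, 5), (5, 1345), (244, 187), (187, 244),
  (381, 277), (277, 381), (2, 2), (3, 3), (3165, 3096), (170, 135), (598, 470), (3096, 3165), (323,
  411), (135, 170), (470, 598), (368, 290), (1, 1), (1, 1), (411, 323), (290, 368), (469, 366),
  (242, 307), (3283, 3280), (3280, 3283), (120, 120), (366, 469), (307, 242), (88, 88), (89, 89),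
  (153, 119), (119, 153), (287, 365), (365, 287), (3217, 3103), (306, 227), (265, 204), (263, 210),
  (3103, 3217), (227, 306), (204, 265), (210, 263), (62, 62), (212, 168), (168, 212), (241, 191),
  (191, 241), (245, 180), (180, 245), (333, 256), (256, 333), (195, 150), (150, 195), (0, 0), (6,
  6), (40, 40), (154, 154), (3399, 3400), (3400, 3399)]
  sel := [(236, 299), (2634, 518), (518, 2634), (350, 490), (490, 350)]
  c := 92
  gens := []
  ent := []
  edges := [
    (92, [(4, 71)], .child)]

/-- A step. -/
def step4 : Step where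
  P := [(11, 1346), (92, 92), (92, 92), (236, 299), (817, 2226), (2634, 518), (350, 490), (235, 309), (518,
  2634), (2226, 817), (490, 350), (309, 235), (3273, 3277), (3277, 3273), (4, 4), (1345, 5), (5,
  1345), (244, 187), (187, 244), (381, 277), (277, 381), (2, 2), (3, 3), (3165, 3096), (170, 135),
  (598, 470), (3096, 3165), (323, 411), (135, 170), (470, 598), (368, 290), (1, 1), (1, 1), (411,
  323), (290, 368), (469, 366), (242, 307), (3283, 3280), (3280, 3283), (120, 120), (366, 469),
  (307, 242), (88, 88), (89, 89), (153, 119), (119, 153), (287, 365), (365, 287), (3217, 3103),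
  (306, 227), (265, 204), (263, 210), (3103, 3217), (227, 306), (204, 265), (210, 263), (62, 62),
  (212, 168), (168, 212), (241, 191), (191, 241), (245, 180), (180, 245), (333, 256), (256, 333),
  (195, 150), (150, 195), (0, 0), (6, 6), (40, 40), (154, 154), (3399, 3400), (3400, 3399)]
  sel := [(2634, 518), (4, 4), (598, 470), (2226, 817), (92, 92)]
  c := 9
  gens := []
  ent := []
  edges := [
    (1118, [(18, 24), (2, 19)], .target 1 [1164, 5, 1348, 41, 545, 369, 92]),
    (1170, [(18, 24), (2, 19)], .target 2 [434, 0, 66, 92])]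

/-- A step. -/
def step5 : Step where
  P := [(350, 381), (277, 490), (4, 2), (2, 4), (3273, 3096), (3165, 3277), (170, 135), (598, 470), (3277,
  3165), (3096, 3273), (323, 411), (135, 170), (470, 598), (368, 290), (3, 1), (1, 3), (411, 323),
  (290, 368), (469, 366), (242, 307), (3283, 3280), (3280, 3283), (120, 120), (366, 469), (307,
  242), (88, 88), (89, 89), (153, 119), (119, 153), (287, 365), (365, 287), (3217, 3103), (306,
  227), (265, 204), (263, 210), (3103, 3217), (227, 306), (204, 265), (210, 263), (62, 62), (212,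
  168), (168, 212), (241, 191), (191, 241), (245, 180), (180, 245), (333, 256), (256, 333), (195,
  150), (150, 195), (0, 0), (6, 6), (40, 40), (154, 154), (3399, 3400), (3400, 3399)]
  sel := [(4, 2), (2, 4), (598, 470), (135, 170), (290, 368), (350, 381)]
  c := 5
  gens := [[92]]
  ent := [(0, 1118)]
  edges := [
    (1118, [(1, 16), (2, 58), (53, 0), (3, 0), (37, 0), (6, 0), (6, 4), (57, 0), (46, 0), (9, 0)],
  .target 2 [874, 10, 547, 91, 546, 62, 545, 369, 392, 92]),
    (1345, [(1, 57), (1, 58), (5, 58), (5, 59), (5, 60), (5, 61), (9, 61), (9, 62), (11, 62), (11, 63),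
  (11, 64), (11, 65)], .child)]

/-- A step. -/
def step6 : Step where
  P := [(1521, 8), (8, 1521), (276, 310), (219, 393), (298, 299), (236, 380), (817, 2226), (2634, 518),
  (187, 309), (235, 244), (518, 2634), (2226, 817), (1345, 5), (5, 1345), (350, 381), (277, 490),
  (4, 2), (2, 4), (3273, 3096), (3165, 3277), (170, 135), (598, 470), (3277, 3165), (3096, 3273),
  (323, 411), (135, 170), (470, 598), (368, 290), (3, 1), (1, 3), (411, 323), (290, 368), (469,
  366), (242, 307), (3283, 3280), (3280, 3283), (120, 120), (366, 469), (307, 242), (88, 88), (89,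
  89), (153, 119), (119, 153), (287, 365), (365, 287), (3217, 3103), (306, 227), (265, 204), (263,
  210), (3103, 3217), (227, 306), (204, 265), (210, 263), (62, 62), (212, 168), (168, 212), (241,
  191), (191, 241), (245, 180), (180, 245), (333, 256), (256, 333), (195, 150), (150, 195), (0, 0),
  (6, 6), (40, 40), (154, 154), (3399, 3400), (3400, 3399)]
  sel := [(1521, 8), (8, 1521), (276, 310), (817, 2226), (4, 2)]
  c := 92
  gens := []
  ent := []
  edges := [
    (92, [(9, 71)], .child)]

/-- A step. -/
def step7 : Step where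
  P := [(11, 1346), (92, 92), (92, 92), (1521, 8), (8, 1521), (276, 310), (219, 393), (298, 299), (236,
  380), (817, 2226), (2634, 518), (187, 309), (235, 244), (518, 2634), (2226, 817), (1345, 5), (5,
  1345), (350, 381), (277, 490), (4, 2), (2, 4), (3273, 3096), (3165, 3277), (170, 135), (598, 470),
  (3277, 3165), (3096, 3273), (323, 411), (135, 170), (470, 598), (368, 290), (3, 1), (1, 3), (411,
  323), (290, 368), (469, 366), (242, 307), (3283, 3280), (3280, 3283), (120, 120), (366, 469),
  (307, 242), (88, 88), (89, 89), (153, 119), (119, 153), (287, 365), (365, 287), (3217, 3103),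
  (306, 227), (265, 204), (263, 210), (3103, 3217), (227, 306), (204, 265), (210, 263), (62, 62),
  (212, 168), (168, 212), (241, 191), (191, 241), (245, 180), (180, 245), (333, 256), (256, 333),
  (195, 150), (150, 195), (0, 0), (6, 6), (40, 40), (154, 154), (3399, 3400), (3400, 3399)]
  sel := [(8, 1521), (598, 470), (2634, 518), (4, 2), (92, 92)]
  c := 9
  gens := []
  ent := []
  edges := [
    (1118, [(18, 33), (2, 19)], .target 2 [1061, 18, 683, 91, 391, 338, 430]),
    (1170, [(18, 33), (2, 19)], .target 1 [637, 0, 89, 66, 88])]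

/-- A step. -/
def step8 : Step where
  P := [(119, 170), (170, 119), (470, 470), (88, 88), (89, 89), (307, 307), (290, 290), (366, 366), (598,
  598), (3217, 3103), (287, 411), (153, 135), (3103, 3217), (411, 287), (135, 153), (62, 62), (242,
  242), (469, 469), (333, 227), (245, 204), (241, 210), (227, 333), (204, 245), (210, 241), (195,
  168), (168, 195), (263, 191), (191, 263), (265, 180), (180, 265), (306, 256), (256, 306), (212,
  150), (150, 212), (0, 0), (6, 6), (40, 40), (154, 154), (3399, 3400), (3400, 3399)]
  sel := [(119, 170), (88, 88), (153, 135), (89, 89), (170, 119)]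
  c := 1
  gens := []
  ent := []
  edges := [
    (2, [(12, 41), (12, 42), (10, 43), (10, 44), (10, 45), (10, 46), (7, 47), (7, 48), (9, 48), (9, 49),
  (11, 47), (11, 48), (12, 47), (14, 47)], .child),
    (4, [(12, 41), (12, 42), (10, 43), (10, 44), (10, 45), (10, 46), (7, 47), (7, 48), (9, 45), (9, 46),
  (10, 45), (12, 45), (13, 45), (13, 45)], .child)]

/-- A step. -/
def step9 : Step where
  P := [(244, 187), (187, 244), (4, 3), (3, 4), (3277, 3096), (3165, 3273), (3273, 3165), (3096, 3277),
  (3283, 3280), (3280, 3283), (365, 323), (323, 365), (120, 120), (368, 368), (2, 1), (1, 2), (119,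
  170), (170, 119), (470, 470), (88, 88), (89, 89), (307, 307), (290, 290), (366, 366), (598, 598),
  (3217, 3103), (287, 411), (153, 135), (3103, 3217), (411, 287), (135, 153), (62, 62), (242, 242),
  (469, 469), (333, 227), (245, 204), (241, 210), (227, 333), (204, 245), (210, 241), (195, 168),
  (168, 195), (263, 191), (191, 263), (265, 180), (180, 265), (306, 256), (256, 306), (212, 150),
  (150, 212), (0, 0), (6, 6), (40, 40), (154, 154), (3399, 3400), (3400, 3399)]
  sel := [(244, 187), (2, 1), (4, 3), (88, 88), (3, 4), (3165, 3273)]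
  c := 5
  gens := [[92]]
  ent := [(0, 992)]
  edges := [
    (992, [(1, 5), (2, 58), (51, 0), (26, 0), (4, 0), (5, 62), (55, 0), (30, 0), (9, 0), (9, 0)],
  .target 2 [1352, 0, 91, 539, 338, 545, 154, 92]),
    (1164, [(2, 57), (2, 58), (2, 59), (6, 59), (5, 60), (5, 61), (9, 61), (9, 62), (11, 62), (11, 63),
  (11, 64), (11, 65)], .child)]

/-- A step. -/
def step10 : Step where
  P := [(1346, 8), (8, 1346), (299, 236), (236, 299), (310, 219), (219, 310), (657, 2226), (2634, 656),
  (350, 490), (656, 2634), (2226, 657), (490, 350), (1164, 5), (5, 1164), (244, 187), (187, 244),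
  (4, 3), (3, 4), (3277, 3096), (3165, 3273), (3273, 3165), (3096, 3277), (3283, 3280), (3280,
  3283), (365, 323), (323, 365), (120, 120), (368, 368), (2, 1), (1, 2), (119, 170), (170, 119),
  (470, 470), (88, 88), (89, 89), (307, 307), (290, 290), (366, 366), (598, 598), (3217, 3103),
  (287, 411), (153, 135), (3103, 3217), (411, 287), (135, 153), (62, 62), (242, 242), (469, 469),
  (333, 227), (245, 204), (241, 210), (227, 333), (204, 245), (210, 241), (195, 168), (168, 195),
  (263, 191), (191, 263), (265, 180), (180, 265), (306, 256), (256, 306), (212, 150), (150, 212),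
  (0, 0), (6, 6), (40, 40), (154, 154), (3399, 3400), (3400, 3399)]
  sel := [(1346, 8), (299, 236), (1164, 5), (350, 490), (8, 1346)]
  c := 92
  gens := []
  ent := []
  edges := [
    (92, [(9, 71)], .child)]

/-- A step. -/
def step11 : Step where
  P := [(11, 1521), (92, 92), (92, 92), (1346, 8), (8, 1346), (299, 236), (236, 299), (310, 219), (219,
  310), (657, 2226), (2634, 656), (350, 490), (656, 2634), (2226, 657), (490, 350), (1164, 5), (5,
  1164), (244, 187), (187, 244), (4, 3), (3, 4), (3277, 3096), (3165, 3273), (3273, 3165), (3096,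
  3277), (3283, 3280), (3280, 3283), (365, 323), (323, 365), (120, 120), (368, 368), (2, 1), (1, 2),
  (119, 170), (170, 119), (470, 470), (88, 88), (89, 89), (307, 307), (290, 290), (366, 366), (598,
  598), (3217, 3103), (287, 411), (153, 135), (3103, 3217), (411, 287), (135, 153), (62, 62), (242,
  242), (469, 469), (333, 227), (245, 204), (241, 210), (227, 333), (204, 245), (210, 241), (195,
  168), (168, 195), (263, 191), (191, 263), (265, 180), (180, 265), (306, 256), (256, 306), (212,
  150), (150, 212), (0, 0), (6, 6), (40, 40), (154, 154), (3399, 3400), (3400, 3399)]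
  sel := [(8, 1346), (310, 219), (120, 120), (2634, 656), (92, 92)]
  c := 9
  gens := []
  ent := []
  edges := [
    (992, [(18, 22), (2, 19)], .target 1 [4, 1, 637, 0, 89, 66, 88, 92]),
    (1167, [(18, 22), (2, 19)], .target 2 [1348, 0, 41, 676, 62, 545, 369, 392, 154, 92])]

/-- A step. -/
def step12 : Step where
  P := [(490, 277), (277, 490), (244, 235), (235, 244), (2, 3), (3, 2), (3165, 3165), (3096, 3096), (3283,
  3280), (3280, 3283), (365, 323), (323, 365), (120, 120), (368, 368), (4, 1), (1, 4), (119, 170),
  (170, 119), (470, 470), (88, 88), (89, 89), (307, 307), (290, 290), (366, 366), (598, 598), (3217,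
  3103), (287, 411), (153, 135), (3103, 3217), (411, 287), (135, 153), (62, 62), (242, 242), (469,
  469), (333, 227), (245, 204), (241, 210), (227, 333), (204, 245), (210, 241), (195, 168), (168,
  195), (263, 191), (191, 263), (265, 180), (180, 265), (306, 256), (256, 306), (212, 150), (150,
  212), (0, 0), (6, 6), (40, 40), (154, 154), (3399, 3400), (3400, 3399)]
  sel := [(244, 235), (2, 3), (4, 1), (88, 88), (277, 490), (490, 277)]
  c := 5
  gens := [[92]]
  ent := [(0, 992)]
  edges := [
    (992, [(1, 7), (2, 58), (51, 0), (26, 0), (4, 0), (5, 62), (55, 0), (30, 0), (9, 0), (9, 0)],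
  .target 1 [12, 5, 551, 0, 540, 89, 66, 88]),
    (1164, [(7, 57), (7, 58), (3, 59), (3, 60), (5, 60), (5, 61), (11, 61), (11, 62), (11, 63), (11,
  64), (15, 64), (15, 65)], .child)]

/-- A step. -/
def step13 : Step where
  P := [(299, 298), (298, 299), (380, 236), (236, 380), (310, 276), (276, 310), (657, 2226), (2634, 656),
  (656, 2634), (2226, 657), (3273, 3273), (3277, 3277), (1164, 5), (5, 1164), (490, 277), (277,
  490), (244, 235), (235, 244), (2, 3), (3, 2), (3165, 3165), (3096, 3096), (3283, 3280), (3280,
  3283), (365, 323), (323, 365), (120, 120), (368, 368), (4, 1), (1, 4), (119, 170), (170, 119),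
  (470, 470), (88, 88), (89, 89), (307, 307), (290, 290), (366, 366), (598, 598), (3217, 3103),
  (287, 411), (153, 135), (3103, 3217), (411, 287), (135, 153), (62, 62), (242, 242), (469, 469),
  (333, 227), (245, 204), (241, 210), (227, 333), (204, 245), (210, 241), (195, 168), (168, 195),
  (263, 191), (191, 263), (265, 180), (180, 265), (306, 256), (256, 306), (212, 150), (150, 212),
  (0, 0), (6, 6), (40, 40), (154, 154), (3399, 3400), (3400, 3399)]
  sel := [(299, 298), (380, 236), (277, 490), (1164, 5), (310, 276)]
  c := 92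
  gens := []
  ent := []
  edges := [
    (92, [(9, 71)], .child)]

/-- A step. -/
def step14 : Step where
  P := [(11, 1521), (92, 92), (92, 92), (299, 298), (298, 299), (380, 236), (236, 380), (310, 276), (276,
  310), (657, 2226), (2634, 656), (656, 2634), (2226, 657), (3273, 3273), (3277, 3277), (1164, 5),
  (5, 1164), (490, 277), (277, 490), (244, 235), (235, 244), (2, 3), (3, 2), (3165, 3165), (3096,
  3096), (3283, 3280), (3280, 3283), (365, 323), (323, 365), (120, 120), (368, 368), (4, 1), (1, 4),
  (119, 170), (170, 119), (470, 470), (88, 88), (89, 89), (307, 307), (290, 290), (366, 366), (598,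
  598), (3217, 3103), (287, 411), (153, 135), (3103, 3217), (411, 287), (135, 153), (62, 62), (242,
  242), (469, 469), (333, 227), (245, 204), (241, 210), (227, 333), (204, 245), (210, 241), (195,
  168), (168, 195), (263, 191), (191, 263), (265, 180), (180, 265), (306, 256), (256, 306), (212,
  150), (150, 212), (0, 0), (6, 6), (40, 40), (154, 154), (3399, 3400), (3400, 3399)]
  sel := [(310, 276), (2226, 657), (120, 120), (2634, 656), (92, 92)]
  c := 9
  gens := []
  ent := []
  edges := [
    (992, [(18, 24), (2, 19)], .target 0 [434, 0, 89, 66, 88, 92]),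
    (1167, [(18, 24), (2, 19)], .target 1 [21, 9, 342, 0, 335, 89, 88, 92])]

/-- A step. -/
def step15 : Step where
  P := [(120, 89), (3280, 3103), (287, 365), (3217, 3283), (598, 366), (366, 598), (135, 135), (365, 287),
  (3283, 3217), (170, 170), (119, 119), (242, 307), (307, 242), (62, 88), (88, 62), (469, 470),
  (245, 227), (333, 204), (212, 210), (470, 469), (227, 245), (204, 333), (210, 212), (153, 153),
  (263, 168), (168, 263), (195, 191), (191, 195), (306, 180), (180, 306), (265, 256), (256, 265),
  (241, 150), (150, 241), (0, 0), (6, 6), (40, 40), (154, 154), (3399, 3400), (3400, 3399)]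
  sel := [(120, 89), (287, 365), (365, 287), (119, 119), (3280, 3103)]
  c := 1
  gens := []
  ent := []
  edges := [
    (1, [(15, 41), (14, 42), (6, 43), (6, 44), (4, 45), (19, 45), (15, 46), (7, 47), (8, 45), (9, 45),
  (10, 43), (11, 43), (12, 39), (13, 39)], .child),
    (3, [(15, 41), (14, 42), (6, 43), (6, 44), (5, 45), (5, 46), (20, 46), (16, 47), (9, 48), (9, 49),
  (11, 46), (11, 47), (13, 45), (13, 46)], .child)]

/-- A step. -/
def step16 : Step where
  P := [(299, 187), (187, 299), (310, 277), (277, 310), (2, 2), (3, 3), (3165, 3096), (290, 368), (323,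
  411), (3096, 3165), (89, 120), (368, 290), (411, 323), (3103, 3280), (1, 1), (1, 1), (120, 89),
  (3280, 3103), (287, 365), (3217, 3283), (598, 366), (366, 598), (135, 135), (365, 287), (3283,
  3217), (170, 170), (119, 119), (242, 307), (307, 242), (62, 88), (88, 62), (469, 470), (245, 227),
  (333, 204), (212, 210), (470, 469), (227, 245), (204, 333), (210, 212), (153, 153), (263, 168),
  (168, 263), (195, 191), (191, 195), (306, 180), (180, 306), (265, 256), (256, 265), (241, 150),
  (150, 241), (0, 0), (6, 6), (40, 40), (154, 154), (3399, 3400), (3400, 3399)]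
  sel := [(310, 277), (2, 2), (290, 368), (120, 89), (3096, 3165), (3, 3)]
  c := 5
  gens := [[92]]
  ent := [(0, 1319)]
  edges := [
    (1319, [(1, 7), (2, 46), (15, 0), (3, 0), (5, 0), (5, 49), (15, 0), (8, 0), (8, 0)], .target 2 [566,
  0, 1174, 64, 431, 430, 154, 92]),
    (1521, [(8, 57), (8, 58), (8, 59), (7, 60), (6, 61), (6, 62), (6, 63), (12, 63), (11, 64), (10, 65),
  (10, 66), (16, 66)], .child)]

/-- A step. -/
def step17 : Step where
  P := [(236, 244), (656, 2226), (2634, 657), (350, 393), (235, 380), (657, 2634), (2226, 656), (393, 350),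
  (380, 235), (3273, 3277), (3277, 3273), (4, 4), (1521, 5), (5, 1521), (299, 187), (187, 299),
  (310, 277), (277, 310), (2, 2), (3, 3), (3165, 3096), (290, 368), (323, 411), (3096, 3165), (89,
  120), (368, 290), (411, 323), (3103, 3280), (1, 1), (1, 1), (120, 89), (3280, 3103), (287, 365),
  (3217, 3283), (598, 366), (366, 598), (135, 135), (365, 287), (3283, 3217), (170, 170), (119,
  119), (242, 307), (307, 242), (62, 88), (88, 62), (469, 470), (245, 227), (333, 204), (212, 210),
  (470, 469), (227, 245), (204, 333), (210, 212), (153, 153), (263, 168), (168, 263), (195, 191),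
  (191, 195), (306, 180), (180, 306), (265, 256), (256, 265), (241, 150), (150, 241), (0, 0), (6,
  6), (40, 40), (154, 154), (3399, 3400), (3400, 3399)]
  sel := [(236, 244), (656, 2226), (3273, 3277), (5, 1521), (2634, 657)]
  c := 92
  gens := []
  ent := []
  edges := [
    (92, [(4, 71)], .child)]

/-- A step. -/
def step18 : Step where
  P := [(11, 1164), (92, 92), (92, 92), (236, 244), (656, 2226), (2634, 657), (350, 393), (235, 380), (657,
  2634), (2226, 656), (393, 350), (380, 235), (3273, 3277), (3277, 3273), (4, 4), (1521, 5), (5,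
  1521), (299, 187), (187, 299), (310, 277), (277, 310), (2, 2), (3, 3), (3165, 3096), (290, 368),
  (323, 411), (3096, 3165), (89, 120), (368, 290), (411, 323), (3103, 3280), (1, 1), (1, 1), (120,
  89), (3280, 3103), (287, 365), (3217, 3283), (598, 366), (366, 598), (135, 135), (365, 287),
  (3283, 3217), (170, 170), (119, 119), (242, 307), (307, 242), (62, 88), (88, 62), (469, 470),
  (245, 227), (333, 204), (212, 210), (470, 469), (227, 245), (204, 333), (210, 212), (153, 153),
  (263, 168), (168, 263), (195, 191), (191, 195), (306, 180), (180, 306), (265, 256), (256, 265),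
  (241, 150), (150, 241), (0, 0), (6, 6), (40, 40), (154, 154), (3399, 3400), (3400, 3399)]
  sel := [(2634, 657), (4, 4), (290, 368), (2226, 656), (92, 92)]
  c := 9
  gens := []
  ent := []
  edges := [
    (1319, [(18, 24), (2, 19)], .target 2 [17, 0, 1349, 41, 502, 62]),
    (1353, [(18, 24), (2, 19)], .target 1 [31, 13, 2040, 59, 1072, 338, 43, 369, 392, 92])]

/-- A step. -/
def step19 : Step where
  P := [(350, 310), (277, 393), (4, 2), (2, 4), (3273, 3096), (3165, 3277), (290, 368), (323, 411), (3277,
  3165), (3096, 3273), (89, 120), (368, 290), (411, 323), (3103, 3280), (3, 1), (1, 3), (120, 89),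
  (3280, 3103), (287, 365), (3217, 3283), (598, 366), (366, 598), (135, 135), (365, 287), (3283,
  3217), (170, 170), (119, 119), (242, 307), (307, 242), (62, 88), (88, 62), (469, 470), (245, 227),
  (333, 204), (212, 210), (470, 469), (227, 245), (204, 333), (210, 212), (153, 153), (263, 168),
  (168, 263), (195, 191), (191, 195), (306, 180), (180, 306), (265, 256), (256, 265), (241, 150),
  (150, 241), (0, 0), (6, 6), (40, 40), (154, 154), (3399, 3400), (3400, 3399)]
  sel := [(4, 2), (2, 4), (290, 368), (366, 598), (350, 310), (89, 120)]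
  c := 5
  gens := [[92]]
  ent := [(0, 1319)]
  edges := [
    (1319, [(1, 16), (2, 46), (15, 0), (3, 0), (5, 0), (5, 49), (14, 0), (8, 0), (8, 0)], .target 1
  [1705, 1, 2179, 18, 831, 65, 679, 291, 545, 369, 472, 154, 92]),
    (1521, [(1, 57), (1, 58), (5, 58), (5, 59), (5, 60), (5, 61), (9, 61), (9, 62), (11, 62), (11, 63),
  (11, 64), (11, 65)], .child)]

/-- A step. -/
def step20 : Step where
  P := [(1345, 8), (8, 1345), (276, 381), (219, 490), (298, 244), (236, 309), (656, 2226), (2634, 657),
  (187, 380), (235, 299), (657, 2634), (2226, 656), (1521, 5), (5, 1521), (350, 310), (277, 393),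
  (4, 2), (2, 4), (3273, 3096), (3165, 3277), (290, 368), (323, 411), (3277, 3165), (3096, 3273),
  (89, 120), (368, 290), (411, 323), (3103, 3280), (3, 1), (1, 3), (120, 89), (3280, 3103), (287,
  365), (3217, 3283), (598, 366), (366, 598), (135, 135), (365, 287), (3283, 3217), (170, 170),
  (119, 119), (242, 307), (307, 242), (62, 88), (88, 62), (469, 470), (245, 227), (333, 204), (212,
  210), (470, 469), (227, 245), (204, 333), (210, 212), (153, 153), (263, 168), (168, 263), (195,
  191), (191, 195), (306, 180), (180, 306), (265, 256), (256, 265), (241, 150), (150, 241), (0, 0),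
  (6, 6), (40, 40), (154, 154), (3399, 3400), (3400, 3399)]
  sel := [(1345, 8), (298, 244), (5, 1521), (656, 2226), (4, 2)]
  c := 92
  gens := []
  ent := []
  edges := [
    (92, [(9, 71)], .child)]

/-- A step. -/
def step21 : Step where
  P := [(11, 1164), (92, 92), (92, 92), (1345, 8), (8, 1345), (276, 381), (219, 490), (298, 244), (236,
  309), (656, 2226), (2634, 657), (187, 380), (235, 299), (657, 2634), (2226, 656), (1521, 5), (5,
  1521), (350, 310), (277, 393), (4, 2), (2, 4), (3273, 3096), (3165, 3277), (290, 368), (323, 411),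
  (3277, 3165), (3096, 3273), (89, 120), (368, 290), (411, 323), (3103, 3280), (3, 1), (1, 3), (120,
  89), (3280, 3103), (287, 365), (3217, 3283), (598, 366), (366, 598), (135, 135), (365, 287),
  (3283, 3217), (170, 170), (119, 119), (242, 307), (307, 242), (62, 88), (88, 62), (469, 470),
  (245, 227), (333, 204), (212, 210), (470, 469), (227, 245), (204, 333), (210, 212), (153, 153),
  (263, 168), (168, 263), (195, 191), (191, 195), (306, 180), (180, 306), (265, 256), (256, 265),
  (241, 150), (150, 241), (0, 0), (6, 6), (40, 40), (154, 154), (3399, 3400), (3400, 3399)]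
  sel := [(8, 1345), (120, 89), (135, 135), (2634, 657), (92, 92)]
  c := 9
  gens := []
  ent := []
  edges := [
    (1319, [(18, 33), (2, 19)], .target 1 [1522, 1, 218, 10, 886, 26, 679, 545, 369, 92]),
    (1353, [(18, 33), (2, 19)], .target 2 [637, 30, 65, 66, 154])]

/-- A step. -/
def step22 : Step where
  P := [(120, 88), (3283, 3103), (153, 119), (3217, 3280), (290, 307), (307, 290), (411, 411), (119, 153),
  (3280, 3217), (323, 323), (365, 365), (469, 366), (366, 469), (62, 89), (89, 62), (242, 368),
  (241, 227), (212, 204), (333, 210), (368, 242), (227, 241), (204, 212), (210, 333), (287, 287),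
  (265, 168), (168, 265), (306, 191), (191, 306), (195, 180), (180, 195), (263, 256), (256, 263),
  (245, 150), (150, 245), (0, 0), (6, 6), (40, 40), (154, 154), (3399, 3400), (3400, 3399)]
  sel := [(120, 88), (153, 119), (119, 153), (365, 365), (3283, 3103)]
  c := 1
  gens := []
  ent := []
  edges := [
    (1, [(15, 41), (14, 42), (6, 43), (6, 44), (4, 45), (19, 45), (15, 46), (7, 47), (8, 45), (9, 45),
  (10, 43), (11, 43), (12, 39), (13, 39)], .child),
    (3, [(15, 41), (14, 42), (6, 43), (6, 44), (5, 45), (5, 46), (20, 46), (16, 47), (9, 48), (9, 49),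
  (11, 46), (11, 47), (13, 45), (13, 46)], .child)]

/-- A step. -/
def step23 : Step where
  P := [(310, 187), (187, 310), (299, 277), (277, 299), (2, 2), (3, 3), (3165, 3096), (598, 470), (170,
  135), (3096, 3165), (88, 120), (470, 598), (135, 170), (3103, 3283), (1, 1), (1, 1), (120, 88),
  (3283, 3103), (153, 119), (3217, 3280), (290, 307), (307, 290), (411, 411), (119, 153), (3280,
  3217), (323, 323), (365, 365), (469, 366), (366, 469), (62, 89), (89, 62), (242, 368), (241, 227),
  (212, 204), (333, 210), (368, 242), (227, 241), (204, 212), (210, 333), (287, 287), (265, 168),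
  (168, 265), (306, 191), (191, 306), (195, 180), (180, 195), (263, 256), (256, 263), (245, 150),
  (150, 245), (0, 0), (6, 6), (40, 40), (154, 154), (3399, 3400), (3400, 3399)]
  sel := [(310, 187), (2, 2), (598, 470), (135, 170), (170, 135), (299, 277)]
  c := 5
  gens := [[92]]
  ent := [(0, 1118)]
  edges := [
    (1118, [(1, 7), (2, 58), (53, 0), (3, 0), (25, 0), (6, 0), (6, 4), (57, 0), (53, 0), (9, 0)],
  .target 2 [1176, 0, 830, 27, 542, 40, 430, 88, 392, 154]),
    (1345, [(8, 57), (8, 58), (8, 59), (7, 60), (6, 61), (6, 62), (6, 63), (12, 63), (11, 64), (10, 65),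
  (10, 66), (16, 66)], .child)]

/-- A step. -/
def step24 : Step where
  P := [(236, 381), (817, 2226), (2634, 518), (350, 380), (235, 393), (518, 2634), (2226, 817), (380, 350),
  (393, 235), (3273, 3277), (3277, 3273), (4, 4), (1345, 5), (5, 1345), (310, 187), (187, 310),
  (299, 277), (277, 299), (2, 2), (3, 3), (3165, 3096), (598, 470), (170, 135), (3096, 3165), (88,
  120), (470, 598), (135, 170), (3103, 3283), (1, 1), (1, 1), (120, 88), (3283, 3103), (153, 119),
  (3217, 3280), (290, 307), (307, 290), (411, 411), (119, 153), (3280, 3217), (323, 323), (365,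
  365), (469, 366), (366, 469), (62, 89), (89, 62), (242, 368), (241, 227), (212, 204), (333, 210),
  (368, 242), (227, 241), (204, 212), (210, 333), (287, 287), (265, 168), (168, 265), (306, 191),
  (191, 306), (195, 180), (180, 195), (263, 256), (256, 263), (245, 150), (150, 245), (0, 0), (6,
  6), (40, 40), (154, 154), (3399, 3400), (3400, 3399)]
  sel := [(236, 381), (2634, 518), (518, 2634), (350, 380), (380, 350)]
  c := 92
  gens := []
  ent := []
  edges := [
    (92, [(4, 71)], .child)]

/-- A step. -/
def step25 : Step where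
  P := [(11, 1346), (92, 92), (92, 92), (236, 381), (817, 2226), (2634, 518), (350, 380), (235, 393), (518,
  2634), (2226, 817), (380, 350), (393, 235), (3273, 3277), (3277, 3273), (4, 4), (1345, 5), (5,
  1345), (310, 187), (187, 310), (299, 277), (277, 299), (2, 2), (3, 3), (3165, 3096), (598, 470),
  (170, 135), (3096, 3165), (88, 120), (470, 598), (135, 170), (3103, 3283), (1, 1), (1, 1), (120,
  88), (3283, 3103), (153, 119), (3217, 3280), (290, 307), (307, 290), (411, 411), (119, 153),
  (3280, 3217), (323, 323), (365, 365), (469, 366), (366, 469), (62, 89), (89, 62), (242, 368),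
  (241, 227), (212, 204), (333, 210), (368, 242), (227, 241), (204, 212), (210, 333), (287, 287),
  (265, 168), (168, 265), (306, 191), (191, 306), (195, 180), (180, 195), (263, 256), (256, 263),
  (245, 150), (150, 245), (0, 0), (6, 6), (40, 40), (154, 154), (3399, 3400), (3400, 3399)]
  sel := [(2634, 518), (4, 4), (598, 470), (2226, 817), (92, 92)]
  c := 9
  gens := []
  ent := []
  edges := [
    (1118, [(18, 24), (2, 19)], .target 2 [998, 0, 989, 16, 679, 43, 430, 88, 392, 154]),
    (1170, [(18, 24), (2, 19)], .target 1 [11, 5, 637, 48, 44, 392, 154, 92])]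

/-- A step. -/
def step26 : Step where
  P := [(350, 299), (277, 380), (4, 2), (2, 4), (3273, 3096), (3165, 3277), (598, 470), (170, 135), (3277,
  3165), (3096, 3273), (88, 120), (470, 598), (135, 170), (3103, 3283), (3, 1), (1, 3), (120, 88),
  (3283, 3103), (153, 119), (3217, 3280), (290, 307), (307, 290), (411, 411), (119, 153), (3280,
  3217), (323, 323), (365, 365), (469, 366), (366, 469), (62, 89), (89, 62), (242, 368), (241, 227),
  (212, 204), (333, 210), (368, 242), (227, 241), (204, 212), (210, 333), (287, 287), (265, 168),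
  (168, 265), (306, 191), (191, 306), (195, 180), (180, 195), (263, 256), (256, 263), (245, 150),
  (150, 245), (0, 0), (6, 6), (40, 40), (154, 154), (3399, 3400), (3400, 3399)]
  sel := [(4, 2), (2, 4), (598, 470), (88, 120), (135, 170), (350, 299)]
  c := 5
  gens := [[92]]
  ent := [(0, 1118)]
  edges := [
    (1118, [(1, 16), (2, 58), (53, 0), (3, 0), (25, 0), (6, 0), (6, 4), (57, 0), (53, 0), (9, 0)],
  .target 1 [2127, 1, 1392, 10, 121, 27, 474, 427, 120, 472, 154, 92]),
    (1345, [(1, 57), (1, 58), (5, 58), (5, 59), (5, 60), (5, 61), (9, 61), (9, 62), (11, 62), (11, 63),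
  (11, 64), (11, 65)], .child)]

/-- A step. -/
def step27 : Step where
  P := [(1521, 8), (8, 1521), (276, 244), (219, 309), (298, 381), (236, 490), (817, 2226), (2634, 518),
  (187, 393), (235, 310), (518, 2634), (2226, 817), (1345, 5), (5, 1345), (350, 299), (277, 380),
  (4, 2), (2, 4), (3273, 3096), (3165, 3277), (598, 470), (170, 135), (3277, 3165), (3096, 3273),
  (88, 120), (470, 598), (135, 170), (3103, 3283), (3, 1), (1, 3), (120, 88), (3283, 3103), (153,
  119), (3217, 3280), (290, 307), (307, 290), (411, 411), (119, 153), (3280, 3217), (323, 323),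
  (365, 365), (469, 366), (366, 469), (62, 89), (89, 62), (242, 368), (241, 227), (212, 204), (333,
  210), (368, 242), (227, 241), (204, 212), (210, 333), (287, 287), (265, 168), (168, 265), (306,
  191), (191, 306), (195, 180), (180, 195), (263, 256), (256, 263), (245, 150), (150, 245), (0, 0),
  (6, 6), (40, 40), (154, 154), (3399, 3400), (3400, 3399)]
  sel := [(1521, 8), (8, 1521), (276, 244), (817, 2226), (4, 2)]
  c := 92
  gens := []
  ent := []
  edges := [
    (92, [(9, 71)], .child)]

/-- A step. -/
def step28 : Step where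
  P := [(11, 1346), (92, 92), (92, 92), (1521, 8), (8, 1521), (276, 244), (219, 309), (298, 381), (236,
  490), (817, 2226), (2634, 518), (187, 393), (235, 310), (518, 2634), (2226, 817), (1345, 5), (5,
  1345), (350, 299), (277, 380), (4, 2), (2, 4), (3273, 3096), (3165, 3277), (598, 470), (170, 135),
  (3277, 3165), (3096, 3273), (88, 120), (470, 598), (135, 170), (3103, 3283), (3, 1), (1, 3), (120,
  88), (3283, 3103), (153, 119), (3217, 3280), (290, 307), (307, 290), (411, 411), (119, 153),
  (3280, 3217), (323, 323), (365, 365), (469, 366), (366, 469), (62, 89), (89, 62), (242, 368),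
  (241, 227), (212, 204), (333, 210), (368, 242), (227, 241), (204, 212), (210, 333), (287, 287),
  (265, 168), (168, 265), (306, 191), (191, 306), (195, 180), (180, 195), (263, 256), (256, 263),
  (245, 150), (150, 245), (0, 0), (6, 6), (40, 40), (154, 154), (3399, 3400), (3400, 3399)]
  sel := [(8, 1521), (598, 470), (2634, 518), (4, 2), (92, 92)]
  c := 9
  gens := []
  ent := []
  edges := [
    (1118, [(18, 33), (2, 19)], .target 1 [1902, 1, 1578, 18, 121, 16, 502, 40, 369]),
    (1170, [(18, 33), (2, 19)], .target 2 [2148, 59, 1169, 338, 308, 369, 472, 92])]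

/-- A step. -/
def step29 : Step where
  P := [(0, 0), (6, 6), (40, 154), (154, 40), (3399, 3400), (3400, 3399)]
  sel := [(40, 154), (3400, 3399), (0, 0)]
  c := 151
  gens := [[40], [43], [47], [66], [434]]
  ent := [(0, 228), (2, 228), (0, 257), (2, 257), (0, 462), (1, 462), (2, 462), (3, 462), (4, 462), (2, 289),
  (3, 453), (2, 325), (3, 509), (1, 591), (2, 591), (3, 591), (4, 591), (2, 579), (4, 579), (3,
  1316), (4, 1316), (2, 728), (3, 576), (1, 722), (4, 722), (3, 642), (1, 793), (4, 793), (2, 732),
  (4, 732), (3, 1513), (4, 1513), (2, 898), (3, 1461), (4, 1461), (3, 746), (1, 1796), (2, 1796),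
  (4, 1796), (3, 1713), (1, 888), (4, 888), (4, 574), (1, 958), (4, 958), (4, 640), (3, 1661), (4,
  1661), (3, 590), (1, 1929), (2, 1929), (4, 1929), (3, 1585), (1, 1593), (4, 1593), (3, 1527), (2,
  1084), (2, 1662), (4, 1662), (4, 2453), (3, 2080), (1, 1535), (4, 724), (3, 665), (4, 795), (3,
  825), (1, 1719), (4, 1719), (3, 1399), (2, 897), (2, 1876), (4, 1876), (4, 2713), (3, 1846), (1,
  1408), (4, 1404), (3, 1406), (1, 1726), (2, 1726), (4, 2197), (3, 2156), (1, 1717), (3, 818), (2,
  641), (3, 981), (2, 575), (4, 1531), (3, 1533), (1, 1600), (2, 1600), (4, 2452), (3, 2019), (1,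
  1591), (3, 1596), (1, 2004), (2, 2004), (2, 1920), (3, 2945), (1, 1696), (2, 1696), (2, 797), (2,
  726), (3, 1722), (1, 2145), (2, 2145), (2, 1785), (3, 2696), (1, 1506), (2, 1506), (1, 1781), (2,
  1781), (2, 1801), (2, 2436), (2, 1845), (1, 1917), (2, 1917), (2, 1934), (2, 2182), (2, 1628), (2,
  1583), (3, 2943), (2, 1711), (3, 3120), (3, 706), (3, 871)]
  edges := [
    (228, [(0, 7), (2, 7), (3, 7), (3, 7), (5, 7), (5, 8), (7, 8), (7, 9), (8, 9), (13, 8), (13, 9),
  (13, 10), (13, 11), (18, 11), (17, 12), (17, 13), (16, 14), (17, 14), (19, 14), (20, 9), (26, 7),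
  (26, 8)], .child),
    (257, [(0, 7), (2, 7), (3, 7), (3, 7), (5, 7), (5, 8), (7, 8), (7, 9), (12, 7), (12, 8), (12, 9),
  (16, 9), (15, 10), (15, 11), (14, 9), (15, 8), (17, 6), (18, 6), (18, 5), (19, 5), (26, 3), (26,
  4)], .child),
    (462, [(0, 7), (2, 7), (3, 7), (3, 7), (5, 7), (5, 8), (7, 8), (7, 9), (8, 9), (13, 8), (13, 9),
  (13, 10), (13, 11), (18, 11), (17, 12), (17, 13), (16, 14), (17, 14), (19, 14), (19, 14), (21,
  14), (21, 14), (23, 14), (26, 14), (26, 15), (26, 15), (27, 15), (28, 15), (34, 15), (34, 16),
  (33, 17), (33, 18)], .child)]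

/-- A step. -/
def step30 : Step where
  P := [(3283, 3283), (62, 62), (3280, 3280), (89, 88), (88, 89), (3103, 3217), (229, 367), (206, 325),
  (211, 324), (3217, 3103), (367, 229), (325, 206), (324, 211), (120, 120), (257, 169), (169, 257),
  (288, 192), (192, 288), (289, 182), (182, 289), (258, 413), (413, 258), (228, 151), (151, 228),
  (0, 0), (6, 6), (40, 154), (154, 40), (3399, 3400), (3400, 3399)]
  sel := [(62, 62), (89, 88), (88, 89), (206, 325), (3283, 3283)]
  c := 1
  gens := [[43], [66]]
  ent := [(1, 398), (0, 639)]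
  edges := [
    (1, [(0, 31), (1, 31), (2, 29), (3, 29), (4, 29), (5, 29), (6, 29), (7, 29), (8, 29), (9, 29), (10,
  29), (11, 29), (12, 26), (13, 25)], .child),
    (398, [(1, 31), (1, 32), (3, 32), (3, 33), (5, 31), (5, 32), (7, 32), (7, 33), (9, 33), (9, 34),
  (11, 34), (11, 35), (13, 35), (13, 36)], .child)]

/-- A step. -/
def step31 : Step where
  P := [(664, 414), (469, 307), (525, 334), (334, 525), (395, 247), (247, 395), (368, 598), (598, 368),
  (311, 198), (198, 311), (2, 2), (3, 3), (3165, 3096), (3096, 3165), (1, 1), (1, 1), (3283, 3283),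
  (62, 62), (3280, 3280), (89, 88), (88, 89), (3103, 3217), (229, 367), (206, 325), (211, 324),
  (3217, 3103), (367, 229), (325, 206), (324, 211), (120, 120), (257, 169), (169, 257), (288, 192),
  (192, 288), (289, 182), (182, 289), (258, 413), (413, 258), (228, 151), (151, 228), (0, 0), (6,
  6), (40, 154), (154, 40), (3399, 3400), (3400, 3399)]
  sel := [(664, 414), (598, 368), (229, 367), (88, 89), (3165, 3096), (334, 525)]
  c := 5
  gens := [[92]]
  ent := [(0, 23)]
  edges := [
    (13, [(14, 47), (14, 48), (14, 49), (14, 50), (14, 51), (14, 52), (14, 53), (14, 54), (14, 55), (14,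
  56), (13, 57), (12, 58), (12, 59), (24, 59)], .child),
    (23, [(1, 13), (2, 20), (2, 0), (3, 50), (50, 0), (6, 0), (9, 0), (7, 0)], .inner [120, 43, 62])]

/-- A step. -/
def step32 : Step where
  P := [(449, 194), (3267, 2634), (2226, 3211), (135, 323), (396, 635), (152, 351), (571, 243), (287, 119),
  (170, 411), (194, 449), (448, 193), (3273, 3277), (3277, 3273), (4, 4), (13, 5), (5, 13), (664,
  414), (469, 307), (525, 334), (334, 525), (395, 247), (247, 395), (368, 598), (598, 368), (311,
  198), (198, 311), (2, 2), (3, 3), (3165, 3096), (3096, 3165), (1, 1), (1, 1), (3283, 3283), (62,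
  62), (3280, 3280), (89, 88), (88, 89), (3103, 3217), (229, 367), (206, 325), (211, 324), (3217,
  3103), (367, 229), (325, 206), (324, 211), (120, 120), (257, 169), (169, 257), (288, 192), (192,
  288), (289, 182), (182, 289), (258, 413), (413, 258), (228, 151), (151, 228), (0, 0), (6, 6), (40,
  154), (154, 40), (3399, 3400), (3400, 3399)]
  sel := [(449, 194), (3267, 2634), (2226, 3211), (135, 323), (448, 193)]
  c := 92
  gens := []
  ent := []
  edges := [
    (92, [(2, 63), (27, 63), (27, 64), (27, 65), (27, 66), (27, 67)], .child)]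

/-- A step. -/
def step33 : Step where
  P := [(243, 571), (351, 152), (411, 170), (119, 287), (193, 448), (312, 504), (92, 92), (92, 92), (449,
  194), (3267, 2634), (2226, 3211), (135, 323), (396, 635), (152, 351), (571, 243), (287, 119),
  (170, 411), (194, 449), (448, 193), (3273, 3277), (3277, 3273), (4, 4), (13, 5), (5, 13), (664,
  414), (469, 307), (525, 334), (334, 525), (395, 247), (247, 395), (368, 598), (598, 368), (311,
  198), (198, 311), (2, 2), (3, 3), (3165, 3096), (3096, 3165), (1, 1), (1, 1), (3283, 3283), (62,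
  62), (3280, 3280), (89, 88), (88, 89), (3103, 3217), (229, 367), (206, 325), (211, 324), (3217,
  3103), (367, 229), (325, 206), (324, 211), (120, 120), (257, 169), (169, 257), (288, 192), (192,
  288), (289, 182), (182, 289), (258, 413), (413, 258), (228, 151), (151, 228), (0, 0), (6, 6), (40,
  154), (154, 40), (3399, 3400), (3400, 3399)]
  sel := [(243, 571), (2226, 3211), (4, 4), (135, 323), (92, 92)]
  c := 9
  gens := []
  ent := []
  edges := [
    (23, [(25, 37), (2, 26)], .inner [120, 62]),
    (37, [(25, 37), (2, 26)], .inner [92, 120, 62])]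

/-- A step. -/
def step34 : Step where
  P := [(21, 368), (598, 51), (991, 198), (311, 1072), (1072, 311), (198, 991), (352, 2), (2, 352), (506,
  3), (3, 506), (2367, 3096), (3165, 1911), (1911, 3165), (3096, 2367), (398, 1), (1, 398), (3283,
  3283), (62, 62), (3280, 3280), (89, 88), (88, 89), (3103, 3217), (229, 367), (206, 325), (211,
  324), (3217, 3103), (367, 229), (325, 206), (324, 211), (120, 120), (257, 169), (169, 257), (288,
  192), (192, 288), (289, 182), (182, 289), (258, 413), (413, 258), (228, 151), (151, 228), (0, 0),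
  (6, 6), (40, 154), (154, 40), (3399, 3400), (3400, 3399)]
  sel := [(21, 368), (598, 51), (991, 198), (229, 367), (352, 2)]
  c := 43
  gens := []
  ent := []
  edges := [
    (43, [(13, 47), (13, 48), (13, 49), (13, 50), (13, 51), (13, 52), (13, 53), (13, 54), (13, 55), (13,
  56), (13, 57), (13, 58), (19, 58), (19, 59)], .child)]

/-- A step. -/
def step35 : Step where
  P := [(609, 194), (449, 553), (1966, 411), (170, 2975), (553, 449), (194, 609), (946, 193), (448, 853),
  (2131, 3277), (3273, 2134), (2134, 3273), (3277, 2131), (450, 4), (4, 450), (43, 43), (43, 43),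
  (21, 368), (598, 51), (991, 198), (311, 1072), (1072, 311), (198, 991), (352, 2), (2, 352), (506,
  3), (3, 506), (2367, 3096), (3165, 1911), (1911, 3165), (3096, 2367), (398, 1), (1, 398), (3283,
  3283), (62, 62), (3280, 3280), (89, 88), (88, 89), (3103, 3217), (229, 367), (206, 325), (211,
  324), (3217, 3103), (367, 229), (325, 206), (324, 211), (120, 120), (257, 169), (169, 257), (288,
  192), (192, 288), (289, 182), (182, 289), (258, 413), (413, 258), (228, 151), (151, 228), (0, 0),
  (6, 6), (40, 154), (154, 40), (3399, 3400), (3400, 3399)]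
  sel := [(553, 449), (194, 609), (352, 2), (450, 4), (1966, 411)]
  c := 5
  gens := []
  ent := []
  edges := [
    (13, [(1, 27), (19, 59), (3, 0), (19, 0)], .inner [120, 62, 434]),
    (23, [(1, 27), (15, 54), (2, 0)], .inner [120, 43, 62, 434])]

/-- A step. -/
def step36 : Step where
  P := [(62, 62), (3283, 3283), (3103, 3217), (88, 89), (3217, 3103), (89, 88), (120, 120), (3280, 3280),
  (229, 413), (206, 289), (211, 288), (413, 229), (289, 206), (288, 211), (228, 169), (169, 228),
  (324, 192), (192, 324), (325, 182), (182, 325), (258, 367), (367, 258), (257, 151), (151, 257),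
  (0, 0), (6, 6), (40, 154), (154, 40), (3399, 3400), (3400, 3399)]
  sel := [(62, 62), (88, 89), (89, 88), (206, 289), (3283, 3283)]
  c := 1
  gens := [[43], [66]]
  ent := [(1, 352), (0, 573)]
  edges := [
    (2, [(1, 31), (1, 32), (3, 32), (3, 33), (5, 31), (5, 32), (7, 31), (7, 31), (9, 31), (9, 32), (11,
  32), (11, 33), (13, 33), (13, 33)], .child),
    (352, [(1, 31), (1, 32), (3, 32), (3, 33), (5, 31), (5, 32), (7, 32), (7, 33), (9, 33), (9, 33),
  (11, 33), (11, 34), (13, 34), (13, 35)], .child)]

/-- A step. -/
def step37 : Step where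
  P := [(395, 247), (247, 395), (326, 664), (368, 470), (470, 368), (664, 326), (311, 198), (198, 311), (4,
  3), (3, 4), (3277, 3096), (3165, 3273), (3273, 3165), (3096, 3277), (2, 1), (1, 2), (62, 62),
  (3283, 3283), (3103, 3217), (88, 89), (3217, 3103), (89, 88), (120, 120), (3280, 3280), (229,
  413), (206, 289), (211, 288), (413, 229), (289, 206), (288, 211), (228, 169), (169, 228), (324,
  192), (192, 324), (325, 182), (182, 325), (258, 367), (367, 258), (257, 151), (151, 257), (0, 0),
  (6, 6), (40, 154), (154, 40), (3399, 3400), (3400, 3399)]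
  sel := [(664, 326), (2, 1), (4, 3), (88, 89), (120, 120), (395, 247)]
  c := 5
  gens := [[92]]
  ent := [(0, 32)]
  edges := [
    (19, [(9, 47), (9, 48), (8, 49), (8, 50), (8, 51), (8, 52), (8, 53), (8, 54), (8, 55), (18, 55),
  (18, 56), (18, 57), (18, 58), (18, 59)], .child),
    (32, [(1, 11), (2, 43), (20, 0), (3, 0), (4, 30), (12, 0), (7, 0), (7, 0)], .inner [120, 43, 62, 0])]

/-- A step. -/
def step38 : Step where
  P := [(411, 153), (135, 287), (503, 397), (193, 448), (449, 194), (3364, 2634), (2226, 3345), (152, 351),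
  (571, 243), (397, 503), (287, 135), (153, 411), (194, 449), (448, 193), (19, 5), (5, 19), (395,
  247), (247, 395), (326, 664), (368, 470), (470, 368), (664, 326), (311, 198), (198, 311), (4, 3),
  (3, 4), (3277, 3096), (3165, 3273), (3273, 3165), (3096, 3277), (2, 1), (1, 2), (62, 62), (3283,
  3283), (3103, 3217), (88, 89), (3217, 3103), (89, 88), (120, 120), (3280, 3280), (229, 413), (206,
  289), (211, 288), (413, 229), (289, 206), (288, 211), (228, 169), (169, 228), (324, 192), (192,
  324), (325, 182), (182, 325), (258, 367), (367, 258), (257, 151), (151, 257), (0, 0), (6, 6), (40,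
  154), (154, 40), (3399, 3400), (3400, 3399)]
  sel := [(411, 153), (193, 448), (3364, 2634), (449, 194), (2226, 3345)]
  c := 92
  gens := []
  ent := []
  edges := [
    (92, [(6, 63), (6, 64), (5, 65), (5, 66), (23, 66), (23, 67)], .child)]

/-- A step. -/
def step39 : Step where
  P := [(243, 571), (351, 152), (242, 469), (469, 242), (504, 312), (312, 504), (92, 92), (92, 92), (411,
  153), (135, 287), (503, 397), (193, 448), (449, 194), (3364, 2634), (2226, 3345), (152, 351),
  (571, 243), (397, 503), (287, 135), (153, 411), (194, 449), (448, 193), (19, 5), (5, 19), (395,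
  247), (247, 395), (326, 664), (368, 470), (470, 368), (664, 326), (311, 198), (198, 311), (4, 3),
  (3, 4), (3277, 3096), (3165, 3273), (3273, 3165), (3096, 3277), (2, 1), (1, 2), (62, 62), (3283,
  3283), (3103, 3217), (88, 89), (3217, 3103), (89, 88), (120, 120), (3280, 3280), (229, 413), (206,
  289), (211, 288), (413, 229), (289, 206), (288, 211), (228, 169), (169, 228), (324, 192), (192,
  324), (325, 182), (182, 325), (258, 367), (367, 258), (257, 151), (151, 257), (0, 0), (6, 6), (40,
  154), (154, 40), (3399, 3400), (3400, 3399)]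
  sel := [(243, 571), (2226, 3345), (153, 411), (242, 469), (92, 92)]
  c := 9
  gens := []
  ent := []
  edges := [
    (32, [(25, 35), (2, 26)], .inner [120, 62, 0]),
    (51, [(25, 35), (2, 26)], .inner [92, 120, 62, 0])]

/-- A step. -/
def step40 : Step where
  P := [(1405, 664), (368, 15), (15, 368), (664, 1405), (991, 198), (198, 991), (398, 2), (2, 398), (450,
  3), (3, 450), (2134, 3096), (3165, 2131), (2131, 3165), (3096, 2134), (352, 1), (1, 352), (62,
  62), (3283, 3283), (3103, 3217), (88, 89), (3217, 3103), (89, 88), (120, 120), (3280, 3280), (229,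
  413), (206, 289), (211, 288), (413, 229), (289, 206), (288, 211), (228, 169), (169, 228), (324,
  192), (192, 324), (325, 182), (182, 325), (258, 367), (367, 258), (257, 151), (151, 257), (0, 0),
  (6, 6), (40, 154), (154, 40), (3399, 3400), (3400, 3399)]
  sel := [(1405, 664), (664, 1405), (450, 3), (2134, 3096), (368, 15)]
  c := 43
  gens := []
  ent := []
  edges := [
    (43, [(13, 47), (13, 48), (13, 49), (13, 50), (13, 51), (13, 52), (13, 53), (13, 54), (12, 55), (12,
  56), (12, 57), (18, 57), (18, 58), (18, 59)], .child)]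

/-- A step. -/
def step41 : Step where
  P := [(503, 1284), (853, 448), (449, 553), (1284, 503), (287, 2144), (1755, 411), (553, 449), (448, 853),
  (1911, 3277), (3273, 2367), (2367, 3273), (3277, 1911), (506, 4), (4, 506), (43, 43), (43, 43),
  (1405, 664), (368, 15), (15, 368), (664, 1405), (991, 198), (198, 991), (398, 2), (2, 398), (450,
  3), (3, 450), (2134, 3096), (3165, 2131), (2131, 3165), (3096, 2134), (352, 1), (1, 352), (62,
  62), (3283, 3283), (3103, 3217), (88, 89), (3217, 3103), (89, 88), (120, 120), (3280, 3280), (229,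
  413), (206, 289), (211, 288), (413, 229), (289, 206), (288, 211), (228, 169), (169, 228), (324,
  192), (192, 324), (325, 182), (182, 325), (258, 367), (367, 258), (257, 151), (151, 257), (0, 0),
  (6, 6), (40, 154), (154, 40), (3399, 3400), (3400, 3399)]
  sel := [(1755, 411), (553, 449), (2, 398), (4, 506), (506, 4)]
  c := 5
  gens := []
  ent := []
  edges := [
    (19, [(1, 27), (2, 21), (18, 0)], .inner [120, 62, 0, 434]),
    (32, [(1, 27), (25, 55), (2, 0)], .inner [120, 43, 62, 0, 434])]

/-- A step. -/
def step42 : Step where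
  P := [(3279, 3325), (2960, 2941), (3281, 3278), (376, 376), (2958, 2351), (596, 1111), (3080, 3296),
  (466, 466), (711, 711), (748, 921), (921, 748), (2710, 2597), (2597, 2710), (465, 499), (499,
  465), (3158, 3164), (229, 707), (206, 746), (211, 706), (3164, 3158), (707, 229), (746, 206),
  (706, 211), (595, 595), (590, 169), (169, 590), (561, 192), (192, 561), (591, 182), (182, 591),
  (258, 871), (871, 258), (462, 151), (151, 462), (0, 0), (6, 6), (40, 154), (154, 40), (3399,
  3400), (3400, 3399)]
  sel := [(3279, 3325), (707, 229), (376, 376), (206, 746), (466, 466)]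
  c := 1
  gens := [[92]]
  ent := [(0, 1092)]
  edges := [
    (1092, [(1, 36), (2, 33), (17, 0), (14, 33), (4, 44), (6, 0), (22, 0), (18, 0), (8, 41), (26, 0),
  (24, 0), (11, 0)], .inner [92, 392, 369, 66, 546, 42, 831, 18, 853])]

/-- A step. -/
def step43 : Step where
  P := [(0, 6), (6, 0), (40, 154), (154, 40), (3399, 3400), (3400, 3399)]
  sel := [(6, 0), (154, 40), (0, 6)]
  c := 5
  gens := [[47], [70], [118], [154], [172]]
  ent := [(2, 28), (3, 28), (1, 46), (2, 46), (3, 46), (0, 1166), (1, 1166), (2, 1166), (3, 1166), (4, 1166),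
  (0, 486), (1, 486), (3, 486), (4, 486), (0, 248), (2, 248), (3, 248), (4, 248), (0, 293), (1,
  293), (3, 293), (4, 293), (3, 1763), (4, 1763), (3, 1989), (3, 2295), (4, 1349), (3, 232), (4,
  232), (3, 184), (4, 620), (2, 69), (3, 69), (4, 69), (0, 379), (1, 379), (3, 379), (4, 379), (4,
  312), (2, 2040), (1, 619), (3, 619), (4, 619), (0, 609), (3, 609), (4, 609), (4, 340), (1, 1206),
  (4, 1986), (1, 1526), (2, 1526), (4, 272), (1, 487), (2, 487), (3, 371), (4, 371), (4, 94), (1,
  448), (2, 448), (3, 185), (4, 185), (3, 144), (4, 447), (2, 2148), (0, 1579), (3, 482), (4, 482),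
  (4, 715), (1, 1806), (2, 1806), (3, 764), (4, 764), (4, 769), (1, 1403), (0, 1358), (1, 1348), (2,
  1348), (1, 378), (2, 378), (4, 432), (1, 775), (2, 775), (1, 571), (2, 571), (2, 2294), (0, 1582),
  (1, 1582), (4, 216), (1, 1203), (2, 1203), (0, 1774), (1, 994), (4, 614), (1, 345), (2, 345), (1,
  1939), (2, 1939), (0, 1273), (4, 885), (0, 1173), (2, 1995), (1, 613), (2, 613), (0, 570), (0,
  268), (2, 2389), (0, 1397), (1, 1397), (1, 1398), (2, 1398), (1, 1174), (1, 294), (2, 294), (0,
  720), (0, 121), (0, 1352), (2, 1775), (0, 489), (0, 231), (2, 273), (1, 566), (0, 606), (0, 91),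
  (2, 233), (1, 485)]
  edges := [
    (28, [(1, 7), (1, 8), (3, 8), (3, 9), (4, 9), (6, 9), (6, 9), (8, 9), (14, 7), (13, 8), (12, 9),
  (11, 10), (18, 10), (18, 11), (17, 12), (15, 12), (16, 6), (17, 6), (23, 6), (22, 7), (25, 3),
  (24, 4)], .child),
    (46, [(1, 7), (1, 8), (3, 8), (3, 9), (4, 9), (6, 9), (6, 9), (8, 9), (8, 9), (15, 8), (14, 9), (13,
  10), (12, 11), (19, 11), (19, 12), (18, 13), (17, 14), (17, 14), (19, 14), (20, 14), (20, 14),
  (22, 14), (22, 14), (30, 14), (30, 15), (25, 15), (26, 15), (27, 15), (34, 15), (34, 16), (33,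
  17), (32, 17)], .child),
    (1166, [(1, 7), (1, 8), (3, 8), (3, 9), (4, 9), (6, 9), (6, 9), (8, 9), (8, 9), (15, 8), (14, 9),
  (13, 10), (18, 10), (18, 11), (17, 12), (16, 10), (16, 10), (18, 10), (18, 10), (19, 9), (24, 4),
  (23, 5)], .child)]

/-- A step. -/
def step44 : Step where
  P := [(3423, 3415), (3415, 3423), (3335, 3326), (3323, 3372), (3372, 3323), (3326, 3335), (3436, 3435),
  (2551, 2486), (2548, 2467), (63, 11), (3435, 3436), (2467, 2548), (2486, 2551), (11, 63), (7, 41),
  (41, 7), (8, 45), (45, 8), (2637, 2226), (2634, 2295), (2295, 2634), (2226, 2637), (28, 5), (5,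
  28), (0, 6), (6, 0), (40, 154), (154, 40), (3399, 3400), (3400, 3399)]
  sel := [(3423, 3415), (3335, 3326), (3372, 3323), (2551, 2486), (3415, 3423)]
  c := 61
  gens := [[47], [70]]
  ent := [(0, 225), (1, 225)]
  edges := [
    (225, [(1, 31), (1, 32), (3, 32), (3, 33), (5, 31), (5, 32), (7, 32), (7, 33), (8, 33), (10, 33),
  (11, 33), (12, 33), (12, 34), (14, 34)], .child),
    (1053, [(1, 31), (1, 32), (3, 32), (3, 33), (4, 29), (6, 29), (7, 29), (8, 29), (8, 30), (10, 30),
  (10, 31), (11, 31), (13, 31), (13, 31)], .child)]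

/-- A step. -/
def step45 : Step where
  P := [(818, 633), (633, 818), (985, 846), (519, 1313), (389, 525), (525, 389), (254, 87), (77, 181),
  (181, 77), (87, 254), (1731, 1252), (872, 1732), (1732, 872), (1252, 1731), (225, 61), (61, 225),
  (3423, 3415), (3415, 3423), (3335, 3326), (3323, 3372), (3372, 3323), (3326, 3335), (3436, 3435),
  (2551, 2486), (2548, 2467), (63, 11), (3435, 3436), (2467, 2548), (2486, 2551), (11, 63), (7, 41),
  (41, 7), (8, 45), (45, 8), (2637, 2226), (2634, 2295), (2295, 2634), (2226, 2637), (28, 5), (5,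
  28), (0, 6), (6, 0), (40, 154), (154, 40), (3399, 3400), (3400, 3399)]
  sel := [(818, 633), (633, 818), (77, 181), (1731, 1252), (519, 1313)]
  c := 92
  gens := []
  ent := []
  edges := [
    (92, [(13, 47), (13, 48), (13, 49), (13, 50), (13, 51), (13, 52), (12, 53), (11, 54), (10, 55), (16,
  55), (15, 56), (15, 57), (15, 58), (19, 58)], .child)]

/-- A step. -/
def step46 : Step where
  P := [(501, 664), (777, 722), (616, 995), (284, 1112), (635, 423), (722, 777), (877, 996), (423, 635),
  (1944, 1055), (1055, 1944), (1542, 1053), (1053, 1542), (205, 105), (105, 205), (92, 92), (92,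
  92), (818, 633), (633, 818), (985, 846), (519, 1313), (389, 525), (525, 389), (254, 87), (77,
  181), (181, 77), (87, 254), (1731, 1252), (872, 1732), (1732, 872), (1252, 1731), (225, 61), (61,
  225), (3423, 3415), (3415, 3423), (3335, 3326), (3323, 3372), (3372, 3323), (3326, 3335), (3436,
  3435), (2551, 2486), (2548, 2467), (63, 11), (3435, 3436), (2467, 2548), (2486, 2551), (11, 63),
  (7, 41), (41, 7), (8, 45), (45, 8), (2637, 2226), (2634, 2295), (2295, 2634), (2226, 2637), (28,
  5), (5, 28), (0, 6), (6, 0), (40, 154), (154, 40), (3399, 3400), (3400, 3399)]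
  sel := [(777, 722), (284, 1112), (225, 61), (722, 777), (1944, 1055)]
  c := 9
  gens := []
  ent := []
  edges := [
    (1985, [(2, 19), (6, 33), (21, 42), (11, 0), (5, 61)], .target 1 [1522, 1, 2141, 0, 1174, 27, 474,
  40, 430, 154, 92]),
    (2232, [(2, 19), (6, 33), (21, 42), (11, 0), (5, 61)], .target 2 [21, 9, 1715, 0, 490, 309, 546, 62,
  545, 88, 472, 154])]

/-- A step. -/
def step47 : Step where
  P := [(320, 501), (501, 320), (422, 519), (394, 985), (818, 192), (192, 818), (985, 394), (519, 422),
  (389, 407), (407, 389), (77, 1252), (872, 87), (87, 872), (1252, 77), (1053, 61), (61, 1053),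
  (3423, 3415), (3415, 3423), (3335, 3326), (3323, 3372), (3372, 3323), (3326, 3335), (3436, 3435),
  (2551, 2486), (2548, 2467), (63, 11), (3435, 3436), (2467, 2548), (2486, 2551), (11, 63), (7, 41),
  (41, 7), (8, 45), (45, 8), (2637, 2226), (2634, 2295), (2295, 2634), (2226, 2637), (28, 5), (5,
  28), (0, 6), (6, 0), (40, 154), (154, 40), (3399, 3400), (3400, 3399)]
  sel := [(77, 1252), (63, 11), (872, 87), (11, 63), (422, 519), (320, 501)]
  c := 1
  gens := [[92]]
  ent := [(0, 24)]
  edges := [
    (1, [(13, 47), (13, 48), (12, 49), (11, 50), (10, 51), (10, 52), (10, 53), (10, 54), (8, 55), (20,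
  55), (19, 56), (19, 57), (19, 58), (18, 59)], .child),
    (24, [(1, 42), (2, 44), (43, 0), (4, 43), (38, 0), (6, 52), (17, 0), (7, 0), (10, 0), (55, 3), (10,
  0), (20, 0), (18, 0), (13, 0)], .target 1 [33, 1, 1467, 17, 1349, 193, 431, 43, 369, 472, 154,
  92])]

/-- A step. -/
def step48 : Step where
  P := [(152, 877), (206, 722), (616, 243), (284, 390), (360, 423), (3096, 3165), (332, 463), (390, 284),
  (243, 616), (722, 206), (877, 152), (423, 360), (1055, 105), (105, 1055), (1, 1), (1, 1), (320,
  501), (501, 320), (422, 519), (394, 985), (818, 192), (192, 818), (985, 394), (519, 422), (389,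
  407), (407, 389), (77, 1252), (872, 87), (87, 872), (1252, 77), (1053, 61), (61, 1053), (3423,
  3415), (3415, 3423), (3335, 3326), (3323, 3372), (3372, 3323), (3326, 3335), (3436, 3435), (2551,
  2486), (2548, 2467), (63, 11), (3435, 3436), (2467, 2548), (2486, 2551), (11, 63), (7, 41), (41,
  7), (8, 45), (45, 8), (2637, 2226), (2634, 2295), (2295, 2634), (2226, 2637), (28, 5), (5, 28),
  (0, 6), (6, 0), (40, 154), (154, 40), (3399, 3400), (3400, 3399)]
  sel := [(152, 877), (284, 390), (360, 423), (206, 722), (3096, 3165), (616, 243)]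
  c := 92
  gens := []
  ent := []
  edges := [
    (92, [(4, 63), (3, 64), (20, 64), (19, 65), (11, 66), (29, 66)], .child)]

/-- A step. -/
def step49 : Step where
  P := [(820, 504), (4, 4), (3165, 3096), (463, 332), (395, 749), (749, 395), (92, 92), (92, 92), (152,
  877), (206, 722), (616, 243), (284, 390), (360, 423), (3096, 3165), (332, 463), (390, 284), (243,
  616), (722, 206), (877, 152), (423, 360), (1055, 105), (105, 1055), (1, 1), (1, 1), (320, 501),
  (501, 320), (422, 519), (394, 985), (818, 192), (192, 818), (985, 394), (519, 422), (389, 407),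
  (407, 389), (77, 1252), (872, 87), (87, 872), (1252, 77), (1053, 61), (61, 1053), (3423, 3415),
  (3415, 3423), (3335, 3326), (3323, 3372), (3372, 3323), (3326, 3335), (3436, 3435), (2551, 2486),
  (2548, 2467), (63, 11), (3435, 3436), (2467, 2548), (2486, 2551), (11, 63), (7, 41), (41, 7), (8,
  45), (45, 8), (2637, 2226), (2634, 2295), (2295, 2634), (2226, 2637), (28, 5), (5, 28), (0, 6),
  (6, 0), (40, 154), (154, 40), (3399, 3400), (3400, 3399)]
  sel := [(4, 4), (284, 390), (360, 423), (243, 616), (92, 92)]
  c := 9
  gens := []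
  ent := []
  edges := [
    (171, [(3, 67), (4, 57), (26, 66), (61, 0), (5, 69)], .target 0 [2, 636, 0, 391, 88, 392, 154]),
    (216, [(3, 67), (4, 57), (26, 66), (61, 0), (5, 69)], .target 1 [21, 9, 2149, 570, 91, 679, 43, 430,
  88, 154])]

/-- A step. -/
def step50 : Step where
  P := [(54, 101), (2578, 2707), (2956, 3167), (2955, 2830), (3060, 2812), (3076, 2819), (101, 54), (3498,
  3484), (3484, 3498), (73, 36), (36, 73), (82, 78), (78, 82), (2949, 2836), (3221, 2565), (2565,
  3221), (2294, 2486), (2292, 2467), (90, 11), (2836, 2949), (2467, 2292), (2486, 2294), (11, 90),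
  (56, 56), (7, 64), (64, 7), (8, 67), (67, 8), (2389, 2226), (2634, 2041), (2041, 2634), (2226,
  2389), (46, 5), (5, 46), (0, 6), (6, 0), (40, 154), (154, 40), (3399, 3400), (3400, 3399)]
  sel := [(54, 101), (2578, 2707), (73, 36), (2956, 3167)]
  c := 47
  gens := []
  ent := []
  edges := [
    (47, [(16, 41), (16, 42), (16, 43), (16, 44), (16, 45), (16, 46), (15, 47), (15, 48), (15, 49), (15,
  50), (15, 51), (15, 52), (15, 53), (15, 54)], .child),
    (172, [(16, 41), (16, 42), (16, 43), (16, 44), (16, 45), (16, 46), (15, 47), (15, 48), (15, 49),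
  (15, 50), (15, 51), (15, 52), (15, 53), (15, 54)], .child)]

/-- A step. -/
def step51 : Step where
  P := [(3490, 3490), (2819, 3076), (2812, 3060), (3219, 2577), (2322, 3011), (2764, 3330), (3488, 3488),
  (99, 99), (3425, 3450), (3473, 3506), (3472, 3505), (3427, 3468), (2830, 2955), (2577, 3219), (47,
  47), (47, 47), (54, 101), (2578, 2707), (2956, 3167), (2955, 2830), (3060, 2812), (3076, 2819),
  (101, 54), (3498, 3484), (3484, 3498), (73, 36), (36, 73), (82, 78), (78, 82), (2949, 2836),
  (3221, 2565), (2565, 3221), (2294, 2486), (2292, 2467), (90, 11), (2836, 2949), (2467, 2292),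
  (2486, 2294), (11, 90), (56, 56), (7, 64), (64, 7), (8, 67), (67, 8), (2389, 2226), (2634, 2041),
  (2041, 2634), (2226, 2389), (46, 5), (5, 46), (0, 6), (6, 0), (40, 154), (154, 40), (3399, 3400),
  (3400, 3399)]
  sel := [(3490, 3490), (2819, 3076), (3425, 3450), (2812, 3060), (47, 47)]
  c := 172
  gens := []
  ent := []
  edges := [
    (172, [(30, 56), (30, 57), (30, 58), (30, 59), (27, 60), (27, 61), (26, 62), (26, 63), (21, 64),
  (21, 65), (21, 66), (21, 67)], .child)]

/-- A step. -/
def step52 : Step where
  P := [(79, 126), (126, 79), (71, 74), (74, 71), (2829, 3054), (2835, 3070), (3167, 2956), (2707, 2578),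
  (3506, 3473), (3450, 3425), (3468, 3427), (3505, 3472), (172, 172), (172, 172), (3490, 3490),
  (2819, 3076), (2812, 3060), (3219, 2577), (2322, 3011), (2764, 3330), (3488, 3488), (99, 99),
  (3425, 3450), (3473, 3506), (3472, 3505), (3427, 3468), (2830, 2955), (2577, 3219), (47, 47), (47,
  47), (54, 101), (2578, 2707), (2956, 3167), (2955, 2830), (3060, 2812), (3076, 2819), (101, 54),
  (3498, 3484), (3484, 3498), (73, 36), (36, 73), (82, 78), (78, 82), (2949, 2836), (3221, 2565),
  (2565, 3221), (2294, 2486), (2292, 2467), (90, 11), (2836, 2949), (2467, 2292), (2486, 2294), (11,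
  90), (56, 56), (7, 64), (64, 7), (8, 67), (67, 8), (2389, 2226), (2634, 2041), (2041, 2634),
  (2226, 2389), (46, 5), (5, 46), (0, 6), (6, 0), (40, 154), (154, 40), (3399, 3400), (3400, 3399)]
  sel := [(2829, 3054), (3450, 3425), (3488, 3488), (3219, 2577), (172, 172)]
  c := 30
  gens := []
  ent := []
  edges := [
    (749, [(9, 71)], .child),
    (955, [(9, 71)], .child)]

/-- A step. -/
def step53 : Step where
  P := [(3054, 2829), (749, 30), (30, 749), (79, 126), (126, 79), (71, 74), (74, 71), (2829, 3054), (2835,
  3070), (3167, 2956), (2707, 2578), (3506, 3473), (3450, 3425), (3468, 3427), (3505, 3472), (172,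
  172), (172, 172), (3490, 3490), (2819, 3076), (2812, 3060), (3219, 2577), (2322, 3011), (2764,
  3330), (3488, 3488), (99, 99), (3425, 3450), (3473, 3506), (3472, 3505), (3427, 3468), (2830,
  2955), (2577, 3219), (47, 47), (47, 47), (54, 101), (2578, 2707), (2956, 3167), (2955, 2830),
  (3060, 2812), (3076, 2819), (101, 54), (3498, 3484), (3484, 3498), (73, 36), (36, 73), (82, 78),
  (78, 82), (2949, 2836), (3221, 2565), (2565, 3221), (2294, 2486), (2292, 2467), (90, 11), (2836,
  2949), (2467, 2292), (2486, 2294), (11, 90), (56, 56), (7, 64), (64, 7), (8, 67), (67, 8), (2389,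
  2226), (2634, 2041), (2041, 2634), (2226, 2389), (46, 5), (5, 46), (0, 6), (6, 0), (40, 154),
  (154, 40), (3399, 3400), (3400, 3399)]
  sel := [(79, 126), (54, 101), (126, 79), (90, 11), (3054, 2829), (749, 30), (2835, 3070)]
  c := 2
  gens := []
  ent := []
  edges := [
    (128, [(1, 70), (60, 0), (2, 28), (13, 43), (14, 78), (6, 0), (8, 0)], .target 1 [128, 1, 2140, 425,
  16, 424, 370, 545, 88, 472]),
    (398, [(1, 70), (60, 0), (2, 60), (20, 0), (14, 44), (5, 59), (19, 0)], .target 2 [33, 1, 1264, 10,
  293, 183, 539, 40, 88, 392, 154, 92])]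

/-- A step. -/
def step54 : Step where
  P := [(3054, 2829), (955, 30), (30, 955), (79, 126), (126, 79), (71, 74), (74, 71), (2829, 3054), (2835,
  3070), (3167, 2956), (2707, 2578), (3506, 3473), (3450, 3425), (3468, 3427), (3505, 3472), (172,
  172), (172, 172), (3490, 3490), (2819, 3076), (2812, 3060), (3219, 2577), (2322, 3011), (2764,
  3330), (3488, 3488), (99, 99), (3425, 3450), (3473, 3506), (3472, 3505), (3427, 3468), (2830,
  2955), (2577, 3219), (47, 47), (47, 47), (54, 101), (2578, 2707), (2956, 3167), (2955, 2830),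
  (3060, 2812), (3076, 2819), (101, 54), (3498, 3484), (3484, 3498), (73, 36), (36, 73), (82, 78),
  (78, 82), (2949, 2836), (3221, 2565), (2565, 3221), (2294, 2486), (2292, 2467), (90, 11), (2836,
  2949), (2467, 2292), (2486, 2294), (11, 90), (56, 56), (7, 64), (64, 7), (8, 67), (67, 8), (2389,
  2226), (2634, 2041), (2041, 2634), (2226, 2389), (46, 5), (5, 46), (0, 6), (6, 0), (40, 154),
  (154, 40), (3399, 3400), (3400, 3399)]
  sel := [(955, 30), (79, 126), (101, 54), (126, 79), (3506, 3473)]
  c := 2
  gens := []
  ent := []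
  edges := [
    (3, [(0, 68), (1, 59), (35, 0), (13, 43), (4, 44), (42, 0)], .target 2 [2, 2691, 69, 989, 183, 424,
  391, 369, 392, 154, 92]),
    (38, [(1, 70), (60, 0), (2, 60), (13, 43), (8, 65), (5, 0)], .target 1 [38, 1, 2141, 542, 40, 369,
  472, 154, 92])]

/-- A step. -/
def step55 : Step where
  P := [(3490, 3490), (2819, 3076), (2812, 3060), (3219, 2577), (2322, 3011), (2764, 3330), (3488, 3488),
  (99, 99), (3425, 3450), (3473, 3506), (3472, 3505), (3427, 3468), (2830, 2955), (2577, 3219),
  (172, 47), (47, 172), (54, 101), (2578, 2707), (2956, 3167), (2955, 2830), (3060, 2812), (3076,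
  2819), (101, 54), (3498, 3484), (3484, 3498), (73, 36), (36, 73), (82, 78), (78, 82), (2949,
  2836), (3221, 2565), (2565, 3221), (2294, 2486), (2292, 2467), (90, 11), (2836, 2949), (2467,
  2292), (2486, 2294), (11, 90), (56, 56), (7, 64), (64, 7), (8, 67), (67, 8), (2389, 2226), (2634,
  2041), (2041, 2634), (2226, 2389), (46, 5), (5, 46), (0, 6), (6, 0), (40, 154), (154, 40), (3399,
  3400), (3400, 3399)]
  sel := [(3219, 2577), (3488, 3488), (3472, 3505), (2764, 3330), (172, 47), (36, 73)]
  c := 30
  gens := []
  ent := []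
  edges := [
    ]

/-- A step. -/
def step56 : Step where
  P := [(1909, 1909), (1906, 1906), (1908, 1908), (1704, 2126), (2126, 1704), (2128, 2129), (2129, 2128),
  (378, 2486), (620, 2467), (1526, 11), (2467, 620), (2486, 378), (11, 1526), (1903, 1903), (7,
  1348), (1348, 7), (8, 1349), (1349, 8), (487, 2226), (2634, 486), (486, 2634), (2226, 487), (1166,
  5), (5, 1166), (0, 6), (6, 0), (40, 154), (154, 40), (3399, 3400), (3400, 3399)]
  sel := [(1909, 1909), (1704, 2126), (1908, 1908), (11, 1526), (1906, 1906)]
  c := 1
  gens := [[92], [392]]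
  ent := [(0, 450), (1, 450)]
  edges := [
    (4, [(1, 31), (1, 32), (3, 29), (3, 30), (5, 29), (5, 29), (7, 29), (7, 30), (9, 30), (9, 31), (11,
  31), (11, 32), (13, 32), (13, 33)], .child),
    (450, [(1, 31), (1, 32), (3, 32), (3, 33), (5, 31), (5, 32), (7, 32), (7, 33), (9, 33), (9, 33),
  (11, 33), (11, 34), (13, 34), (13, 35)], .child)]

/-- A step. -/
def step57 : Step where
  P := [(633, 2894), (423, 2621), (2696, 777), (2908, 389), (389, 2908), (777, 2696), (2621, 423), (2894,
  633), (1523, 10), (10, 1523), (2, 2), (3, 3), (3165, 3165), (3096, 3096), (4, 1), (1, 4), (1909,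
  1909), (1906, 1906), (1908, 1908), (1704, 2126), (2126, 1704), (2128, 2129), (2129, 2128), (378,
  2486), (620, 2467), (1526, 11), (2467, 620), (2486, 378), (11, 1526), (1903, 1903), (7, 1348),
  (1348, 7), (8, 1349), (1349, 8), (487, 2226), (2634, 486), (486, 2634), (2226, 487), (1166, 5),
  (5, 1166), (0, 6), (6, 0), (40, 154), (154, 40), (3399, 3400), (3400, 3399)]
  sel := [(2696, 777), (777, 2696), (10, 1523), (2621, 423), (1704, 2126), (633, 2894)]
  c := 9
  gens := [[472]]
  ent := [(0, 448)]
  edges := [
    (448, [(11, 43), (1, 10), (30, 0), (4, 44), (5, 51), (43, 0), (6, 0), (16, 0), (9, 0)], .target 1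
  [280, 5, 1765, 0, 428, 391, 338, 120, 392]),
    (994, [(13, 47), (13, 48), (13, 49), (13, 50), (5, 51), (5, 52), (17, 52), (17, 53), (9, 54), (9,
  55), (20, 55), (18, 56), (18, 57), (16, 58)], .child)]

/-- A step. -/
def step58 : Step where
  P := [(332, 2868), (501, 2656), (956, 2945), (1706, 17), (614, 1979), (2386, 613), (674, 3163), (3087,
  675), (613, 2386), (1979, 614), (675, 3087), (3163, 674), (3273, 3277), (3277, 3273), (994, 9),
  (9, 994), (633, 2894), (423, 2621), (2696, 777), (2908, 389), (389, 2908), (777, 2696), (2621,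
  423), (2894, 633), (1523, 10), (10, 1523), (2, 2), (3, 3), (3165, 3165), (3096, 3096), (4, 1), (1,
  4), (1909, 1909), (1906, 1906), (1908, 1908), (1704, 2126), (2126, 1704), (2128, 2129), (2129,
  2128), (378, 2486), (620, 2467), (1526, 11), (2467, 620), (2486, 378), (11, 1526), (1903, 1903),
  (7, 1348), (1348, 7), (8, 1349), (1349, 8), (487, 2226), (2634, 486), (486, 2634), (2226, 487),
  (1166, 5), (5, 1166), (0, 6), (6, 0), (40, 154), (154, 40), (3399, 3400), (3400, 3399)]
  sel := [(332, 2868), (501, 2656), (1706, 17), (2386, 613), (956, 2945)]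
  c := 472
  gens := []
  ent := []
  edges := [
    (472, [(9, 63), (9, 64), (9, 65), (9, 66), (9, 67), (10, 67)], .child)]

/-- A step. -/
def step59 : Step where
  P := [(826, 3270), (537, 3271), (1358, 20), (20, 1358), (1905, 26), (26, 1905), (472, 472), (472, 472),
  (332, 2868), (501, 2656), (956, 2945), (1706, 17), (614, 1979), (2386, 613), (674, 3163), (3087,
  675), (613, 2386), (1979, 614), (675, 3087), (3163, 674), (3273, 3277), (3277, 3273), (994, 9),
  (9, 994), (633, 2894), (423, 2621), (2696, 777), (2908, 389), (389, 2908), (777, 2696), (2621,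
  423), (2894, 633), (1523, 10), (10, 1523), (2, 2), (3, 3), (3165, 3165), (3096, 3096), (4, 1), (1,
  4), (1909, 1909), (1906, 1906), (1908, 1908), (1704, 2126), (2126, 1704), (2128, 2129), (2129,
  2128), (378, 2486), (620, 2467), (1526, 11), (2467, 620), (2486, 378), (11, 1526), (1903, 1903),
  (7, 1348), (1348, 7), (8, 1349), (1349, 8), (487, 2226), (2634, 486), (486, 2634), (2226, 487),
  (1166, 5), (5, 1166), (0, 6), (6, 0), (40, 154), (154, 40), (3399, 3400), (3400, 3399)]
  sel := [(826, 3270), (332, 2868), (537, 3271), (613, 2386), (472, 472)]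
  c := 13
  gens := []
  ent := []
  edges := [
    (428, [(7, 68), (2, 59), (27, 67), (22, 71), (33, 0), (5, 0)], .target 1 [221, 5, 1564, 0, 336, 424,
  391, 430, 88, 154, 92]),
    (827, [(7, 68), (2, 59), (27, 67), (27, 72), (6, 0), (6, 0), (10, 0)], .target 2 [1, 0, 391, 40,
  473, 472])]

/-- A step. -/
def step60 : Step where
  P := [(2214, 2908), (777, 2452), (1967, 423), (2894, 783), (252, 10), (10, 252), (506, 3), (2, 352),
  (352, 2), (3, 506), (1911, 3096), (3165, 2367), (2367, 3165), (3096, 1911), (450, 1), (1, 450),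
  (1909, 1909), (1906, 1906), (1908, 1908), (1704, 2126), (2126, 1704), (2128, 2129), (2129, 2128),
  (378, 2486), (620, 2467), (1526, 11), (2467, 620), (2486, 378), (11, 1526), (1903, 1903), (7,
  1348), (1348, 7), (8, 1349), (1349, 8), (487, 2226), (2634, 486), (486, 2634), (2226, 487), (1166,
  5), (5, 1166), (0, 6), (6, 0), (40, 154), (154, 40), (3399, 3400), (3400, 3399)]
  sel := [(2214, 2908), (777, 2452), (1967, 423), (2894, 783), (506, 3)]
  c := 472
  gens := []
  ent := []
  edges := [
    (472, [(13, 47), (13, 48), (13, 49), (13, 50), (13, 51), (13, 52), (13, 53), (13, 54), (13, 55),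
  (11, 56), (17, 56), (17, 57), (16, 58), (16, 59)], .child)]

/-- A step. -/
def step61 : Step where
  P := [(633, 2693), (1433, 389), (2409, 3163), (3087, 2895), (1991, 2621), (2696, 952), (2895, 3087),
  (3163, 2409), (2134, 3273), (3273, 2134), (2131, 3277), (3277, 2131), (398, 4), (4, 398), (472,
  472), (472, 472), (2214, 2908), (777, 2452), (1967, 423), (2894, 783), (252, 10), (10, 252), (506,
  3), (2, 352), (352, 2), (3, 506), (1911, 3096), (3165, 2367), (2367, 3165), (3096, 1911), (450,
  1), (1, 450), (1909, 1909), (1906, 1906), (1908, 1908), (1704, 2126), (2126, 1704), (2128, 2129),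
  (2129, 2128), (378, 2486), (620, 2467), (1526, 11), (2467, 620), (2486, 378), (11, 1526), (1903,
  1903), (7, 1348), (1348, 7), (8, 1349), (1349, 8), (487, 2226), (2634, 486), (486, 2634), (2226,
  487), (1166, 5), (5, 1166), (0, 6), (6, 0), (40, 154), (154, 40), (3399, 3400), (3400, 3399)]
  sel := [(4, 398), (2, 352), (10, 252), (1908, 1908), (252, 10), (2134, 3273)]
  c := 13
  gens := []
  ent := []
  edges := [
    (428, [(23, 59), (2, 51), (14, 53), (22, 0), (18, 54), (5, 0)], .target 2 [12, 5, 1729, 0, 490, 309,
  546, 43, 392, 154, 92]),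
    (827, [(23, 59), (2, 51), (14, 53), (22, 0), (26, 65), (6, 0), (22, 0)], .target 1 [506, 1, 1070,
  999, 391, 545, 472, 154])]

/-- The end. -/
def tail62 : List Step := []

/-- The steps from this one on. -/
def tail61 : List Step := step61 :: tail62

/-- The steps from this one on. -/
def tail60 : List Step := step60 :: tail61

/-- The steps from this one on. -/
def tail59 : List Step := step59 :: tail60

/-- The steps from this one on. -/
def tail58 : List Step := step58 :: tail59

/-- The steps from this one on. -/
def tail57 : List Step := step57 :: tail58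

/-- The steps from this one on. -/
def tail56 : List Step := step56 :: tail57

/-- The steps from this one on. -/
def tail55 : List Step := step55 :: tail56

/-- The steps from this one on. -/
def tail54 : List Step := step54 :: tail55

/-- The steps from this one on. -/
def tail53 : List Step := step53 :: tail54

/-- The steps from this one on. -/
def tail52 : List Step := step52 :: tail53

/-- The steps from this one on. -/
def tail51 : List Step := step51 :: tail52

/-- The steps from this one on. -/
def tail50 : List Step := step50 :: tail51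

/-- The steps from this one on. -/
def tail49 : List Step := step49 :: tail50

/-- The steps from this one on. -/
def tail48 : List Step := step48 :: tail49

/-- The steps from this one on. -/
def tail47 : List Step := step47 :: tail48

/-- The steps from this one on. -/
def tail46 : List Step := step46 :: tail47

/-- The steps from this one on. -/
def tail45 : List Step := step45 :: tail46

/-- The steps from this one on. -/
def tail44 : List Step := step44 :: tail45

/-- The steps from this one on. -/
def tail43 : List Step := step43 :: tail44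

/-- The steps from this one on. -/
def tail42 : List Step := step42 :: tail43

/-- The steps from this one on. -/
def tail41 : List Step := step41 :: tail42

/-- The steps from this one on. -/
def tail40 : List Step := step40 :: tail41

/-- The steps from this one on. -/
def tail39 : List Step := step39 :: tail40

/-- The steps from this one on. -/
def tail38 : List Step := step38 :: tail39

/-- The steps from this one on. -/
def tail37 : List Step := step37 :: tail38

/-- The steps from this one on. -/
def tail36 : List Step := step36 :: tail37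

/-- The steps from this one on. -/
def tail35 : List Step := step35 :: tail36

/-- The steps from this one on. -/
def tail34 : List Step := step34 :: tail35

/-- The steps from this one on. -/
def tail33 : List Step := step33 :: tail34

/-- The steps from this one on. -/
def tail32 : List Step := step32 :: tail33

/-- The steps from this one on. -/
def tail31 : List Step := step31 :: tail32

/-- The steps from this one on. -/
def tail30 : List Step := step30 :: tail31

/-- The steps from this one on. -/
def tail29 : List Step := step29 :: tail30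

/-- The steps from this one on. -/
def tail28 : List Step := step28 :: tail29

/-- The steps from this one on. -/
def tail27 : List Step := step27 :: tail28

/-- The steps from this one on. -/
def tail26 : List Step := step26 :: tail27

/-- The steps from this one on. -/
def tail25 : List Step := step25 :: tail26

/-- The steps from this one on. -/
def tail24 : List Step := step24 :: tail25

/-- The steps from this one on. -/
def tail23 : List Step := step23 :: tail24

/-- The steps from this one on. -/
def tail22 : List Step := step22 :: tail23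

/-- The steps from this one on. -/
def tail21 : List Step := step21 :: tail22

/-- The steps from this one on. -/
def tail20 : List Step := step20 :: tail21

/-- The steps from this one on. -/
def tail19 : List Step := step19 :: tail20

/-- The steps from this one on. -/
def tail18 : List Step := step18 :: tail19

/-- The steps from this one on. -/
def tail17 : List Step := step17 :: tail18

/-- The steps from this one on. -/
def tail16 : List Step := step16 :: tail17

/-- The steps from this one on. -/
def tail15 : List Step := step15 :: tail16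

/-- The steps from this one on. -/
def tail14 : List Step := step14 :: tail15

/-- The steps from this one on. -/
def tail13 : List Step := step13 :: tail14

/-- The steps from this one on. -/
def tail12 : List Step := step12 :: tail13

/-- The steps from this one on. -/
def tail11 : List Step := step11 :: tail12

/-- The steps from this one on. -/
def tail10 : List Step := step10 :: tail11

/-- The steps from this one on. -/
def tail9 : List Step := step9 :: tail10

/-- The steps from this one on. -/
def tail8 : List Step := step8 :: tail9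

/-- The steps from this one on. -/
def tail7 : List Step := step7 :: tail8

/-- The steps from this one on. -/
def tail6 : List Step := step6 :: tail7

/-- The steps from this one on. -/
def tail5 : List Step := step5 :: tail6

/-- The steps from this one on. -/
def tail4 : List Step := step4 :: tail5

/-- The steps from this one on. -/
def tail3 : List Step := step3 :: tail4

/-- The steps from this one on. -/
def tail2 : List Step := step2 :: tail3

/-- The steps from this one on. -/
def tail1 : List Step := step1 :: tail2

/-- The steps from this one on. -/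
def tail0 : List Step := step0 :: tail1

end

end CfsgLib.Fi22OuterInv
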